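import Cfsg.Agent.Lib.CharCore.Complete
import Cfsg.Agent.Lib.CharCore.Linear
import Cfsg.Agent.Lib.CharInd.Basic
import Cfsg.Agent.Lib.CharInd.Char
import Mathlib.GroupTheory.GroupAction.Quotient

/-!
# Transitive actions of groups with a self-centralising regular abelian subgroup

If `R` is abelian, is the centraliser of each of its nontrivial elements, meets no conjugate of the
point stabiliser `D` (`D.index = |R|`) and lies in no proper normal subgroup, then the action is
doubly transitive or `|R| < e ^ 2` where `e = |N(R) : R|`.  Proof by characters: the restriction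
to `R` of a constituent of the permutation character is a single orbit of linear characters.
-/

set_option autoImplicit false

open scoped ComplexConjugate
open Subgroup Cfsg Cfsg.Agent.CharCore

namespace Cfsg.Agent.Baer19

universe u

theorem irr_one_apply_of_comm {R : Type u} [Group R] [Fintype R] [IsMulCommutative R]
    (χ : IrrCharacter R) : (χ : R → ℂ) 1 = 1 := by
  have hc : commutator R = ⊥ := by
    rw [commutator_def, commutator_eq_bot_iff_le_centralizer]
    exact fun x _ => mem_centralizer_iff.mpr fun y _ => mul_comm' y x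
  have h1 := card_linearCharacters (G := R)
  rw [hc, index_bot] at h1
  have h2 : Nat.card (IrrCharacter R) ≤ Nat.card {χ : IrrCharacter R // (χ : R → ℂ) 1 = 1} := by
    rw [h1, card_irr]
    exact Nat.card_le_card_of_surjective _ ConjClasses.mk_surjective
  by_contra hne
  have hlt : Nat.card {χ : IrrCharacter R // (χ : R → ℂ) 1 = 1} < Nat.card (IrrCharacter R) :=
    Finite.card_subtype_lt hne
  omega

/-- A character trivial on all elements has only the trivial constituent. -/
theorem irr_eq_one_of_const {G : Type u} [Group G] [Fintype G] (η : IrrCharacter G)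
    (h : ∀ g, (η : G → ℂ) g = (η : G → ℂ) 1) : η = ⟨1, isIrrCharacter_one⟩ := by
  classical
  by_contra hne
  have h1 := classInner_irr_of_ne hne
  simp only [classInner, Pi.one_apply, map_one, mul_one, h, Finset.sum_const, Finset.card_univ,
    nsmul_eq_mul] at h1
  rw [← Nat.card_eq_fintype_card, inv_mul_cancel_left₀
    (Nat.cast_ne_zero.mpr Nat.card_pos.ne')] at h1
  exact irr_apply_one_ne_zero η h1

variable {H : Type u} [Group H] [Fintype H] [DecidableEq H]

/-- The multiplicity of a linear character in the restriction. -/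
noncomputable def mult (R : Subgroup H) [Fintype R] (χ : H → ℂ) (l : IrrCharacter R) : ℂ :=
  classInner (fun x : R => χ x) (l : R → ℂ)

theorem two_transitive_or_small (R D : Subgroup H) [IsMulCommutative R]
    (hcent : ∀ x ∈ R, x ≠ 1 → ∀ g, g * x = x * g → g ∈ R)
    (hfree : ∀ (g : H), ∀ x ∈ R, g⁻¹ * x * g ∈ D → x = 1) (hD : D.index = Nat.card R)
    (hker : ∀ M : Subgroup H, M.Normal → R ≤ M → M = ⊤) (hR1 : R ≠ ⊥) :
    Nat.card (MulAction.orbitRel.Quotient D (H ⧸ D)) = 2 ∨
      Nat.card R < R.relIndex (normalizer (R : Set H)) * R.relIndex (normalizer (R : Set H)) ∨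
      R.relIndex (normalizer (R : Set H)) = 1 := by
  classical
  set Nr := normalizer (R : Set H) with hNr
  set e := R.relIndex Nr with he
  let _ := Fintype.ofFinite R
  let _ := Fintype.ofFinite D
  let one : IrrCharacter H := ⟨1, isIrrCharacter_one⟩
  let triv : IrrCharacter R := ⟨1, isIrrCharacter_one⟩
  -- multiplicities
  let c : IrrCharacter H → IrrCharacter R → ℂ := fun χ l => mult R (χ : H → ℂ) l
  have hcnat : ∀ χ l, ∃ k : ℕ, c χ l = k := fun χ l =>
    CharCore.IsCharacter.exists_classInner_irr_eq_natCast (isCharacter_restrict (irr_isCharacter χ) R) l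
  choose cn hcn using hcnat
  have hdeg : ∀ χ : IrrCharacter H, (χ : H → ℂ) 1 = ∑ l, c χ l := fun χ => by
    have h := congrFun (CharCore.IsCharacter.eq_sum_classInner (isCharacter_restrict (irr_isCharacter χ) R)) 1
    simpa [c, mult, irr_one_apply_of_comm] using h
  have hlin : ∀ l : IrrCharacter R, ∀ x y : R,
      (l : R → ℂ) (x * y) = (l : R → ℂ) x * (l : R → ℂ) y := fun l x y => by
    obtain ⟨f, hf⟩ := CharCore.IsCharacter.exists_hom_of_degree_one (irr_isCharacter l)
      (irr_one_apply_of_comm l)
    rw [hf]
    simp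
  -- the action of the normaliser
  have hmem : ∀ u ∈ Nr, ∀ x : R, u * (x : H) * u⁻¹ ∈ R := fun u hu x =>
    (mem_normalizer_iff.mp hu x).mp x.2
  let cj : Nr → (R ≃* R) := fun u =>
    { toFun := fun x => ⟨(u : H) * x * (u : H)⁻¹, hmem u u.2 x⟩
      invFun := fun x => ⟨(u : H)⁻¹ * x * u, by simpa using hmem _ (inv_mem u.2) x⟩
      left_inv := fun x => Subtype.ext (by simp [mul_assoc])
      right_inv := fun x => Subtype.ext (by simp [mul_assoc])
      map_mul' := fun x y => Subtype.ext (by simp [mul_assoc]) }
  let tw : Nr → IrrCharacter R → IrrCharacter R := fun u l =>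
    ⟨fun x => (l : R → ℂ) (cj u x),
      isIrrCharacter_comp_surjective l.2 (cj u).toMonoidHom (cj u).surjective⟩
  have htwc : ∀ χ u l, c χ (tw u l) = c χ l := fun χ u l => by
    simp only [c, mult, classInner]
    congr 1
    refine Fintype.sum_equiv (cj u).toEquiv _ _ fun x => ?_
    congr 1
    exact (irr_isClassFunction χ (x : H) (u : H)).symm
  have htwR : ∀ (u : Nr), (u : H) ∈ R → ∀ l, tw u l = l := fun u hu l => by
    refine Subtype.ext (funext fun x => ?_)
    refine congrArg (l : R → ℂ) (Subtype.ext ?_)
    show (u : H) * x * (u : H)⁻¹ = x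
    rw [mul_inv_eq_iff_eq_mul]
    exact congrArg Subtype.val (mul_comm' (⟨(u : H), hu⟩ : R) x)
  have htwmul : ∀ u v l, tw (u * v) l = tw v (tw u l) := fun u v l => by
    refine Subtype.ext (funext fun x => ?_)
    refine congrArg (l : R → ℂ) (Subtype.ext ?_)
    show ((u : H) * v) * x * ((u : H) * v)⁻¹ = (u : H) * ((v : H) * x * (v : H)⁻¹) * (u : H)⁻¹
    group
  have hfix : ∀ (u : Nr) l, l ≠ triv → tw u l = l → (u : H) ∈ R := by
    intro u l hl hu
    by_contra huR
    refine hl (Subtype.ext (funext fun x => ?_))
    obtain ⟨y, hy⟩ : ∃ y : R, cj u y * y⁻¹ = x := by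
      have hinj : Function.Injective fun y : R => cj u y * y⁻¹ := by
        intro y y' hyy
        by_contra hne
        apply huR
        have h1 : cj u (y'⁻¹ * y) = y'⁻¹ * y := by
          rw [map_mul, map_inv]
          have h2 : cj u y = cj u y' * y'⁻¹ * y := mul_inv_eq_iff_eq_mul.mp hyy
          rw [h2, ← mul_assoc, ← mul_assoc, inv_mul_cancel, one_mul]
        refine hcent _ (y'⁻¹ * y).2 (fun h => hne ?_) _
          (mul_inv_eq_iff_eq_mul.mp (congrArg Subtype.val h1))
        exact (inv_mul_eq_one.mp (Subtype.ext h : y'⁻¹ * y = 1)).symm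
      exact (Finite.injective_iff_surjective.mp hinj) x
    rw [← hy]
    show (l : R → ℂ) (cj u y * y⁻¹) = 1
    have h1 : (l : R → ℂ) (cj u y) = (l : R → ℂ) y := congrFun (congrArg Subtype.val hu) y
    rw [hlin, h1, ← hlin, mul_inv_cancel]
    exact irr_one_apply_of_comm l
  have htwtriv : ∀ u, tw u triv = triv := fun u => Subtype.ext rfl
  -- the norm two differences
  have hnorm : ∀ l m : IrrCharacter R, l ≠ triv → m ≠ triv → (∀ u, tw u l ≠ m) →
      ∑ χ : IrrCharacter H, (c χ l - c χ m) ^ 2 = 2 := by
    intro l m hl hm hdiff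
    set φ : R → ℂ := (l : R → ℂ) - (m : R → ℂ) with hφ
    have hcf : IsClassFunction H (indFun R φ) := CharInd.isClassFunction_indFun R φ
    have hin : ∀ χ : IrrCharacter H, classInner (indFun R φ) χ = c χ l - c χ m := fun χ => by
      rw [CharInd.classInner_indFun_left R φ (irr_isClassFunction χ), hφ, classInner_sub_left,
        ← CharInd.classInner_swap (fun x : R => (χ : H → ℂ) x) (l : R → ℂ),
        ← CharInd.classInner_swap (fun x : R => (χ : H → ℂ) x) (m : R → ℂ)]
      show conj (c χ l) - conj (c χ m) = _
      rw [hcn, hcn, Complex.conj_natCast, Complex.conj_natCast]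
    have hres : ∀ x : R, indFun R φ x =
        (Nat.card R : ℂ)⁻¹ * ∑ u : Nr, φ (cj u x) := by
      intro x
      rw [CharInd.indFun_apply]
      congr 1
      by_cases hx : x = 1
      · have h0 : φ 1 = 0 := by simp [hφ, irr_one_apply_of_comm]
        subst hx
        rw [Finset.sum_eq_zero, Finset.sum_eq_zero]
        · intro u _; rw [map_one]; exact h0
        · intro g _
          rw [show g⁻¹ * ((1 : R) : H) * g = ((1 : R) : H) by simp, CharInd.extendByZero_coe]
          exact h0
      have hsupp : ∀ g : H, g ∉ Nr → extendByZero R φ (g⁻¹ * (x : H) * g) = 0 := by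
        intro g hg
        refine CharInd.extendByZero_notMem φ fun hgx => hg ?_
        have hx1 : (x : H) ≠ 1 := fun h => hx (Subtype.ext h)
        have hy1 : g⁻¹ * (x : H) * g ≠ 1 := fun h => hx1 (by
          have := congrArg (fun t => g * t * g⁻¹) h
          simpa [mul_assoc] using this)
        have key : ∀ r ∈ R, g⁻¹ * r * g ∈ R := by
          intro r hr
          refine hcent _ hgx hy1 _ ?_
          have hc : r * (x : H) = (x : H) * r := congrArg Subtype.val (mul_comm' (⟨r, hr⟩ : R) x)
          calc g⁻¹ * r * g * (g⁻¹ * (x : H) * g) = g⁻¹ * (r * (x : H)) * g := by group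
            _ = _ := by rw [hc]; group
        have hginv : g⁻¹ ∈ Nr := by
          rw [hNr, mem_normalizer_iff]
          intro r
          refine ⟨fun hr => by simpa using key r hr, fun hr => ?_⟩
          rw [inv_inv] at hr
          have hinj : Function.Surjective
              (fun r : R => (⟨g⁻¹ * r * g, key r r.2⟩ : R)) :=
            Finite.injective_iff_surjective.mp fun a b hab => Subtype.ext (by
              simpa using congrArg Subtype.val hab)
          obtain ⟨r', hr'⟩ := hinj ⟨_, hr⟩
          have h1 : g⁻¹ * (r' : H) * g = g⁻¹ * r * g := congrArg Subtype.val hr'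
          have h2 : (r' : H) = r := by simpa using h1
          exact h2 ▸ r'.2
        simpa using inv_mem hginv
      rw [← Finset.sum_subset (Finset.subset_univ (Finset.univ.filter fun g : H => g ∈ Nr))
        (fun g _ hg => hsupp g (by simpa using hg))]
      rw [Finset.sum_subtype (Finset.univ.filter fun g : H => g ∈ Nr) (p := fun g => g ∈ Nr)
        (fun g => by simp)]
      refine Fintype.sum_equiv (Equiv.inv Nr) _ _ fun u => ?_
      rw [show ((u : H))⁻¹ * (x : H) * (u : H) = ((cj u⁻¹ x : R) : H) by simp [cj],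
        CharInd.extendByZero_coe]
      rfl
    have h1 : classInner (indFun R φ) (indFun R φ) = 2 := by
      rw [CharInd.classInner_indFun_left R φ hcf]
      simp only [hres]
      have h2 : classInner φ (fun x => (Nat.card R : ℂ)⁻¹ * ∑ u : Nr, φ (cj u x)) =
          (Nat.card R : ℂ)⁻¹ * ∑ u : Nr, classInner φ (fun x => φ (cj u x)) := by
        simp only [classInner, map_mul, map_inv₀, map_natCast, map_sum, Finset.mul_sum]
        rw [Finset.sum_comm]
        refine Finset.sum_congr rfl fun u _ => Finset.sum_congr rfl fun x _ => ?_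
        ring
      rw [h2]
      have h3 : ∀ u : Nr, classInner φ (fun x => φ (cj u x)) =
          if (u : H) ∈ R then 2 else 0 := by
        intro u
        have hval : classInner φ (fun x => φ (cj u x)) =
            ((if l = tw u l then (1 : ℂ) else 0) - (if m = tw u l then 1 else 0)) -
            ((if l = tw u m then 1 else 0) - (if m = tw u m then 1 else 0)) := by
          rw [show (fun x => φ (cj u x)) = (tw u l : R → ℂ) - (tw u m : R → ℂ) from rfl, hφ,
            classInner_sub_right, classInner_sub_left, classInner_sub_left, classInner_irr,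
            classInner_irr, classInner_irr, classInner_irr]
        rw [hval]
        by_cases hu : (u : H) ∈ R
        · rw [if_pos hu, htwR u hu, htwR u hu, if_pos rfl, if_pos rfl,
            if_neg (fun h => hdiff u ((htwR u hu l).trans h.symm)),
            if_neg (fun h => hdiff u ((htwR u hu l).trans h))]
          norm_num
        · rw [if_neg hu, if_neg (fun h => hu (hfix u l hl h.symm)),
            if_neg (fun h => hdiff u h.symm), if_neg (fun h => hdiff u⁻¹ ?_),
            if_neg (fun h => hu (hfix u m hm h.symm))]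
          · norm_num
          · rw [h, ← htwmul, mul_inv_cancel]
            exact htwR 1 (one_mem R) m
      rw [Finset.sum_congr rfl fun u _ => h3 u, ← Finset.sum_filter, Finset.sum_const,
        nsmul_eq_mul]
      have hc : (Finset.univ.filter fun u : Nr => (u : H) ∈ R).card = Nat.card R := by
        rw [Nat.card_eq_fintype_card]
        refine Finset.card_bij' (fun u hu => ⟨(u : H), (Finset.mem_filter.mp hu).2⟩)
          (fun x _ => ⟨(x : H), le_normalizer x.2⟩) ?_ ?_ ?_ ?_ <;> simp
      rw [hc, ← mul_assoc, inv_mul_cancel₀ (Nat.cast_ne_zero.mpr Nat.card_pos.ne'), one_mul]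
    rw [classInner_eq_sum hcf hcf] at h1
    rw [← h1]
    refine Finset.sum_congr rfl fun χ _ => ?_
    rw [hin, map_sub, hcn, hcn, Complex.conj_natCast, Complex.conj_natCast, sq]
  -- the permutation character
  set π : H → ℂ := indFun D (fun _ => 1) with hπ
  have hπc : IsCharacter H π := CharInd.isCharacter_indFun D isCharacter_one
  have hmnat : ∀ χ : IrrCharacter H, ∃ k : ℕ, classInner π χ = k := fun χ =>
    CharCore.IsCharacter.exists_classInner_irr_eq_natCast hπc χ
  choose mn hmn using hmnat
  have hπ1 : π 1 = (Nat.card R : ℂ) := by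
    rw [hπ, CharInd.indFun_one_eq_fixedBy]
    congr 1
    rw [← hD, index_eq_card, show MulAction.fixedBy (H ⧸ D) (1 : H) = Set.univ from
      Set.eq_univ_of_forall fun q => one_smul H q]
    exact Nat.card_univ
  have hπR : ∀ x : R, x ≠ 1 → π x = 0 := by
    intro x hx
    rw [hπ, CharInd.indFun_one_eq_fixedBy, Nat.cast_eq_zero, Nat.card_eq_zero]
    left
    refine ⟨fun ⟨q, hq⟩ => hx ?_⟩
    induction q using QuotientGroup.induction_on with
    | H g =>
      have h1 : (((x : H) * g : H) : H ⧸ D) = (g : H ⧸ D) := hq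
      rw [eq_comm, QuotientGroup.eq, ← mul_assoc] at h1
      exact Subtype.ext (hfree g x x.2 h1)
  have hone : classInner π (one : H → ℂ) = 1 := by
    rw [hπ, CharInd.classInner_indFun_left D _ (irr_isClassFunction one)]
    show classInner (fun _ : D => (1 : ℂ)) (fun _ : D => (1 : H → ℂ) 1) = 1
    simp only [classInner, Pi.one_apply, map_one, mul_one, Finset.sum_const, Finset.card_univ,
      nsmul_eq_mul, Fintype.card_eq_nat_card]
    exact inv_mul_cancel₀ (Nat.cast_ne_zero.mpr Nat.card_pos.ne')
  have hreg : ∀ l : IrrCharacter R, ∑ χ, mn χ * cn χ l = 1 := by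
    intro l
    have h1 : classInner (fun x : R => π x) (l : R → ℂ) = 1 := by
      unfold classInner
      rw [Finset.sum_eq_single 1 (fun x _ hx => by simp only; rw [hπR x hx, zero_mul])
        (fun h => absurd (Finset.mem_univ _) h)]
      simp only
      rw [irr_one_apply_of_comm, map_one, mul_one,
        OneMemClass.coe_one, hπ1, inv_mul_cancel₀ (Nat.cast_ne_zero.mpr Nat.card_pos.ne')]
    have h2 : (fun x : R => π x) = ∑ χ : IrrCharacter H, (mn χ : ℂ) • fun x : R => (χ : H → ℂ) x := by
      funext x
      conv_lhs => rw [CharCore.IsCharacter.eq_sum_classInner hπc]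
      simp [hmn, Finset.sum_apply]
    rw [h2, classInner_sum_left] at h1
    simp only [classInner_smul_left] at h1
    have h3 : ∀ χ : IrrCharacter H, classInner (fun x : R => (χ : H → ℂ) x) l = (cn χ l : ℂ) :=
      fun χ => hcn χ l
    simp only [h3] at h1
    exact_mod_cast h1
  have hχl : ∀ l : IrrCharacter R, ∃ χ, mn χ = 1 ∧ cn χ l = 1 ∧
      ∀ η, η ≠ χ → mn η = 0 ∨ cn η l = 0 := by
    intro l
    obtain ⟨χ, hχ⟩ : ∃ χ, mn χ * cn χ l ≠ 0 := by
      by_contra! h
      simpa [h] using hreg l
    refine ⟨χ, ?_⟩
    have h1 := hreg l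
    rw [← Finset.add_sum_erase _ _ (Finset.mem_univ χ)] at h1
    have h2 : ∑ η ∈ Finset.univ.erase χ, mn η * cn η l = 0 := by omega
    have h3 : mn χ * cn χ l = 1 := by omega
    refine ⟨Nat.eq_one_of_mul_eq_one_right h3, Nat.eq_one_of_mul_eq_one_left h3, fun η hη => ?_⟩
    exact Nat.mul_eq_zero.mp (Finset.sum_eq_zero_iff.mp h2 η (by simp [hη]))
  choose χl hm1 hc1 hothers using hχl
  have hmnone : mn one = 1 := by exact_mod_cast (hmn one).symm.trans hone
  have hconeone : ∀ l, cn one l = if triv = l then 1 else 0 := fun l => by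
    have h := classInner_irr triv l
    have h1 : ((cn one l : ℕ) : ℂ) = if triv = l then 1 else 0 := (hcn one l).symm.trans h
    split_ifs with hh <;> simp only [hh, if_true, if_false] at h1 <;> exact_mod_cast h1
  have hne_one : ∀ l, l ≠ triv → χl l ≠ one := fun l hl h => by
    have := hc1 l
    rw [h, hconeone, if_neg (Ne.symm hl)] at this
    exact zero_ne_one this
  have htriv_zero : ∀ η, η ≠ one → 0 < mn η → cn η triv = 0 := fun η hη hm => by
    have h1 : χl triv = one := by
      by_contra h
      rcases hothers triv one (Ne.symm h) with h2 | h2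
      · omega
      · rw [hconeone, if_pos rfl] at h2; exact one_ne_zero h2
    rcases hothers triv η (h1 ▸ hη) with h2 | h2
    · omega
    · exact h2
  have hdegn : ∀ χ : IrrCharacter H, (χ : H → ℂ) 1 = ((∑ l, cn χ l : ℕ) : ℂ) := fun χ => by
    rw [hdeg, Nat.cast_sum]; simp [hcn]
  have hpos : ∀ η, η ≠ one → 0 < mn η → ∃ l, l ≠ triv ∧ η = χl l := by
    intro η hη hm
    obtain ⟨l, hl⟩ : ∃ l, cn η l ≠ 0 := by
      by_contra! h
      exact irr_apply_one_ne_zero η (by rw [hdegn]; simp [h])
    have hlt : l ≠ triv := fun h => hl (h ▸ htriv_zero η hη hm)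
    refine ⟨l, hlt, ?_⟩
    by_contra hne
    rcases hothers l η hne with h | h <;> omega
  by_cases hall : ∀ l m : IrrCharacter R, l ≠ triv → m ≠ triv → χl l = χl m
  · -- a single constituent: two suborbits
    left
    obtain ⟨l0, hl0⟩ : ∃ l : IrrCharacter R, l ≠ triv := by
      by_contra! h
      have hsub : Subsingleton (IrrCharacter R) := ⟨fun a b => (h a).trans (h b).symm⟩
      refine hR1 (eq_bot_iff.mpr fun x hx => ?_)
      rw [mem_bot]
      have h1 := (isConj_iff_forall_irr (⟨x, hx⟩ : R) 1).mpr fun χ => by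
        rw [h χ]; rfl
      obtain ⟨w, hw⟩ := isConj_iff.mp h1
      rw [mul_comm' w, mul_inv_cancel_right] at hw
      exact congrArg Subtype.val hw
    have hsq : ∑ χ, mn χ ^ 2 = 2 := by
      rw [← Finset.sum_subset (Finset.subset_univ ({one, χl l0} : Finset (IrrCharacter H)))
        (fun η _ hη => by
          simp only [Finset.mem_insert, Finset.mem_singleton, not_or] at hη
          by_contra h
          obtain ⟨l, hl, rfl⟩ := hpos η hη.1 (Nat.pos_of_ne_zero fun h0 => h (by simp [h0]))
          exact hη.2 (hall l l0 hl hl0)),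
        Finset.sum_pair (Ne.symm (hne_one l0 hl0)), hmnone, hm1]
      norm_num
    have h1 : classInner π π = 2 := by
      rw [classInner_eq_sum (CharCore.IsCharacter.isClassFunction hπc) (CharCore.IsCharacter.isClassFunction hπc)]
      simp only [hmn, Complex.conj_natCast]
      simp only [← sq]
      exact_mod_cast hsq
    rw [hπ, CharInd.classInner_indFun_left D _ (CharInd.isClassFunction_indFun D _)] at h1
    let _ := Fintype.ofFinite (H ⧸ D)
    let _ := Fintype.ofFinite (MulAction.orbitRel.Quotient D (H ⧸ D))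
    have h2 : ∀ d : D, indFun D (fun _ => (1 : ℂ)) (d : H) =
        (Fintype.card (MulAction.fixedBy (H ⧸ D) d) : ℂ) := fun d => by
      rw [CharInd.indFun_one_eq_fixedBy, Nat.card_eq_fintype_card]
      congr 1
    simp only [classInner, h2, Complex.conj_natCast, one_mul] at h1
    rw [← Nat.cast_sum, MulAction.sum_card_fixedBy_eq_card_orbits_mul_card_group] at h1
    rw [Nat.cast_mul, ← Nat.card_eq_fintype_card (α := D), mul_comm _ (Nat.card D : ℂ),
      inv_mul_cancel_left₀ (Nat.cast_ne_zero.mpr Nat.card_pos.ne')] at h1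
    rw [Nat.card_eq_fintype_card]
    exact_mod_cast h1
  right
  push Not at hall
  obtain ⟨l0, m0, hl0, hm0, hne0⟩ := hall
  have horb : ∀ u l, χl (tw u l) = χl l := fun u l => by
    by_contra h
    rcases hothers (tw u l) (χl l) (Ne.symm h) with h1 | h1
    · rw [hm1] at h1; omega
    · have : cn (χl l) (tw u l) = cn (χl l) l := by
        exact_mod_cast (hcn _ _).symm.trans ((htwc _ _ _).trans (hcn _ _))
      rw [h1, hc1] at this
      omega
  -- pairs from different constituents
  have hpair : ∀ l m, l ≠ triv → m ≠ triv → χl l ≠ χl m →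
      ∀ η, η ≠ χl l → η ≠ χl m → cn η l = cn η m := by
    intro l m hl hm hne η h1 h2
    have hsum := hnorm l m hl hm fun u h => hne ((horb u l).symm.trans (congrArg χl h))
    simp only [hcn] at hsum
    have hint : ∑ χ : IrrCharacter H, ((cn χ l : ℤ) - cn χ m) ^ 2 = 2 := by exact_mod_cast hsum
    have ha : cn (χl l) m = 0 := by
      rcases hothers m (χl l) hne with h | h
      · rw [hm1] at h; omega
      · exact h
    have hb : cn (χl m) l = 0 := by
      rcases hothers l (χl m) (Ne.symm hne) with h | h
      · rw [hm1] at h; omega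
      · exact h
    rw [← Finset.add_sum_erase _ _ (Finset.mem_univ (χl l)),
      ← Finset.add_sum_erase _ _ (Finset.mem_erase.mpr ⟨Ne.symm hne, Finset.mem_univ _⟩),
      ha, hb, hc1, hc1] at hint
    have h0 : ∑ χ ∈ (Finset.univ.erase (χl l)).erase (χl m),
        ((cn χ l : ℤ) - cn χ m) ^ 2 = 0 := by
      push_cast at hint
      linarith
    have := (Finset.sum_eq_zero_iff_of_nonneg (fun χ _ => sq_nonneg _)).mp h0 η
      (by simp [h1, h2])
    have h3 : (cn η l : ℤ) - cn η m = 0 := pow_eq_zero_iff two_ne_zero |>.mp this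
    omega
  have hsame : ∀ l m, l ≠ triv → m ≠ triv → χl l = χl m → ∃ u, tw u l = m := by
    intro l m hl hm heq
    by_contra! hdiff
    obtain ⟨k, hk, hkne⟩ : ∃ k, k ≠ triv ∧ χl k ≠ χl l := by
      by_cases h : χl l0 = χl l
      · exact ⟨m0, hm0, fun h' => hne0 (h.trans h'.symm)⟩
      · exact ⟨l0, hl0, h⟩
    have hall : ∀ η, cn η l = cn η m := fun η => by
      by_cases h1 : η = χl l
      · subst h1
        rw [hc1, heq, hc1]
      by_cases h2 : η = χl k
      · subst h2
        have e1 : cn (χl k) l = 0 := by
          rcases hothers l (χl k) hkne with h | h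
          · rw [hm1] at h; omega
          · exact h
        have e2 : cn (χl k) m = 0 := by
          rcases hothers m (χl k) (fun h' => hkne (h'.trans heq.symm)) with h | h
          · rw [hm1] at h; omega
          · exact h
        rw [e1, e2]
      exact (hpair l k hl hk (Ne.symm hkne) η h1 h2).trans
        (hpair m k hm hk (heq ▸ Ne.symm hkne) η (heq ▸ h1) h2).symm
    have := hnorm l m hl hm hdiff
    simp [hcn, hall] at this
  set χ := χl l0 with hχ
  have hχ1 : χ ≠ one := hne_one l0 hl0
  have hcχ : ∀ l, cn χ l = if ∃ u, tw u l0 = l then 1 else 0 := by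
    intro l
    split_ifs with h
    · obtain ⟨u, rfl⟩ := h
      rw [hχ, ← horb u l0]
      exact hc1 _
    · by_cases hl : l = triv
      · subst hl
        exact htriv_zero χ hχ1 (by rw [hχ, hm1]; exact one_pos)
      · rcases hothers l χ (fun h' => h (hsame l0 l hl0 hl h')) with h1 | h1
        · rw [hχ, hm1] at h1; omega
        · exact h1
  have hS : (Finset.univ.filter fun l => ∃ u, tw u l0 = l).card = e := by
    have hwd : ∀ u v : Nr, ((u : Nr ⧸ R.subgroupOf Nr) = v) ↔ tw u l0 = tw v l0 := by
      intro u v
      rw [QuotientGroup.eq]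
      constructor
      · intro h
        conv_rhs => rw [show v = u * (u⁻¹ * v) by rw [mul_inv_cancel_left], htwmul]
        exact (htwR _ (mem_subgroupOf.mp h) _).symm
      · intro h
        have hl : tw u l0 ≠ triv := fun h' => hl0 (by
          have := congrArg (tw u⁻¹) h'
          rwa [← htwmul, mul_inv_cancel, htwR 1 (one_mem R), htwtriv] at this)
        refine mem_subgroupOf.mpr (hfix _ _ hl ?_)
        rw [← htwmul, mul_inv_cancel_left, h]
    rw [he, relIndex, index_eq_card]
    refine (Nat.card_eq_finsetCard _).symm.trans (Nat.card_congr (Equiv.ofBijective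
      (fun q : Nr ⧸ R.subgroupOf Nr => (⟨tw q.out l0, Finset.mem_filter.mpr ⟨Finset.mem_univ _, q.out, rfl⟩⟩ :
        {l // l ∈ Finset.univ.filter fun l => ∃ u, tw u l0 = l})) ⟨?_, ?_⟩)).symm
    · intro q q' h
      rw [← QuotientGroup.out_eq' q, ← QuotientGroup.out_eq' q', hwd]
      exact congrArg Subtype.val h
    · rintro ⟨l, hl⟩
      obtain ⟨u, rfl⟩ := (Finset.mem_filter.mp hl).2
      exact ⟨u, Subtype.ext ((hwd _ _).mp (QuotientGroup.out_eq' _))⟩
  have hdegχ : (χ : H → ℂ) 1 = (e : ℂ) := by
    rw [hdegn, Finset.sum_congr rfl fun l _ => hcχ l, ← Finset.sum_filter, Finset.sum_const,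
      smul_eq_mul, mul_one, hS]
  by_cases he1 : e = 1
  · exact Or.inr he1
  left
  -- the square of the constituent
  set ψ : H → ℂ := fun g => (χ : H → ℂ) g * conj ((χ : H → ℂ) g) with hψ
  have hψc : IsCharacter H ψ := isCharacter_mul (irr_isCharacter χ) (CharCore.IsCharacter.star (irr_isCharacter χ))
  have hnnat : ∀ η : IrrCharacter H, ∃ k : ℕ, classInner ψ η = k := fun η =>
    CharCore.IsCharacter.exists_classInner_irr_eq_natCast hψc η
  choose nn hnn using hnnat
  have hnone : nn one = 1 := by
    have h1 : classInner ψ (one : H → ℂ) = classInner (χ : H → ℂ) χ := by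
      simp [classInner, hψ, one]
    exact_mod_cast (hnn one).symm.trans (h1.trans (classInner_irr_self χ))
  have hψR : ∑ η, nn η * cn η triv = e := by
    have h1 : classInner (fun x : R => ψ x) (triv : R → ℂ) = (e : ℂ) := by
      have h3 : classInner (fun x : R => ψ x) (triv : R → ℂ) =
          classInner (fun x : R => (χ : H → ℂ) x) (fun x : R => (χ : H → ℂ) x) := by
        simp [classInner, hψ, triv]
      rw [h3, classInner_eq_sum (CharCore.IsCharacter.isClassFunction (isCharacter_restrict
        (irr_isCharacter χ) R)) (CharCore.IsCharacter.isClassFunction (isCharacter_restrict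
        (irr_isCharacter χ) R))]
      show ∑ l, c χ l * conj (c χ l) = _
      simp only [hcn, Complex.conj_natCast, hcχ]
      rw [Finset.sum_congr rfl fun l _ => show (((if ∃ u, tw u l0 = l then 1 else 0 : ℕ) : ℂ) *
        ((if ∃ u, tw u l0 = l then 1 else 0 : ℕ) : ℂ)) = if ∃ u, tw u l0 = l then 1 else 0 by
          split_ifs <;> simp, ← Finset.sum_filter, Finset.sum_const, nsmul_eq_mul, mul_one, hS]
    have h2 : (fun x : R => ψ x) = ∑ η : IrrCharacter H, (nn η : ℂ) • fun x : R => (η : H → ℂ) x := by
      funext x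
      conv_lhs => rw [CharCore.IsCharacter.eq_sum_classInner hψc]
      simp [hnn, Finset.sum_apply]
    rw [h2, classInner_sum_left] at h1
    simp only [classInner_smul_left] at h1
    have h3 : ∀ η : IrrCharacter H, classInner (fun x : R => (η : H → ℂ) x) triv = (cn η triv : ℂ) :=
      fun η => hcn η triv
    simp only [h3] at h1
    exact_mod_cast h1
  have he2 : 2 ≤ e := by
    have : 0 < e := Nat.pos_of_ne_zero (index_ne_zero_of_finite)
    omega
  obtain ⟨η, hη1, hηn⟩ : ∃ η, η ≠ one ∧ nn η * cn η triv ≠ 0 := by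
    by_contra! h
    rw [← Finset.add_sum_erase _ _ (Finset.mem_univ one), hnone, hconeone, if_pos rfl,
      Finset.sum_eq_zero (fun η hη => h η (Finset.ne_of_mem_erase hη))] at hψR
    omega
  have hηm : mn η = 0 := by
    by_contra h
    exact hηn (by rw [htriv_zero η hη1 (Nat.pos_of_ne_zero h), mul_zero])
  have hηne : ∀ l, η ≠ χl l := fun l h => by
    rw [h, hm1] at hηm
    omega
  have hconst : ∀ l m, l ≠ triv → m ≠ triv → cn η l = cn η m := fun l m hl hm => by
    by_cases h : χl l = χl m
    · obtain ⟨k, hk, hkne⟩ : ∃ k, k ≠ triv ∧ χl k ≠ χl l := by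
        by_cases h' : χl l0 = χl l
        · exact ⟨m0, hm0, fun h'' => hne0 (h'.trans h''.symm)⟩
        · exact ⟨l0, hl0, h'⟩
      exact (hpair l k hl hk (Ne.symm hkne) η (hηne l) (hηne k)).trans
        (hpair m k hm hk (h ▸ Ne.symm hkne) η (hηne m) (hηne k)).symm
    · exact hpair l m hl hm h η (hηne l) (hηne m)
  have hk0 : cn η l0 ≠ 0 := by
    intro h0
    refine hη1 (irr_eq_one_of_const η fun g => ?_)
    have hM : R ≤ charKernel (irr_isCharacter η) := by
      intro x hx
      rw [mem_charKernel]
      have h1 := congrFun (CharCore.IsCharacter.eq_sum_classInner (isCharacter_restrict (irr_isCharacter η) R)) ⟨x, hx⟩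
      have h2 := congrFun (CharCore.IsCharacter.eq_sum_classInner (isCharacter_restrict (irr_isCharacter η) R)) 1
      simp only [Finset.sum_apply, Pi.smul_apply, smul_eq_mul] at h1 h2
      have h4 : ∀ l : IrrCharacter R, classInner (fun y : R => (η : H → ℂ) y) l = (cn η l : ℂ) :=
        fun l => hcn η l
      simp only [h4] at h1 h2
      rw [Finset.sum_eq_single triv (fun l _ hl => by rw [hconst l l0 hl hl0, h0]; simp)
        (fun h => absurd (Finset.mem_univ _) h)] at h1 h2
      exact h1.trans h2.symm
    have := hker _ inferInstance hM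
    exact (mem_charKernel _ g).mp (this ▸ mem_top g)
  have hηdeg : Nat.card R ≤ ∑ l, cn η l := by
    have hcR : Fintype.card (IrrCharacter R) = Nat.card R := by
      rw [← Nat.card_eq_fintype_card, card_irr]
      refine (Nat.card_eq_of_bijective _ ⟨fun a b h => ?_, ConjClasses.mk_surjective⟩).symm
      obtain ⟨w, hw⟩ := isConj_iff.mp (ConjClasses.mk_eq_mk_iff_isConj.mp h)
      rwa [mul_comm' w, mul_inv_cancel_right] at hw
    calc Nat.card R = ∑ _l : IrrCharacter R, 1 := by simp [hcR]
      _ ≤ _ := Finset.sum_le_sum fun l _ => by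
          by_cases hl : l = triv
          · subst hl
            exact Nat.pos_of_ne_zero fun h => hηn (by rw [h, mul_zero])
          · rw [hconst l l0 hl hl0]; exact Nat.pos_of_ne_zero hk0
  have hsq : e * e = ∑ ζ : IrrCharacter H, nn ζ * ∑ l, cn ζ l := by
    have h1 := congrFun (CharCore.IsCharacter.eq_sum_classInner hψc) 1
    simp only [Finset.sum_apply, Pi.smul_apply, smul_eq_mul, hnn, hdegn] at h1
    rw [hψ] at h1
    simp only at h1
    rw [hdegχ, Complex.conj_natCast] at h1
    exact_mod_cast h1
  have hle : nn one * ∑ l, cn one l + nn η * ∑ l, cn η l ≤ e * e := by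
    rw [hsq, ← Finset.sum_pair (Ne.symm hη1) (f := fun ζ => nn ζ * ∑ l, cn ζ l)]
    exact Finset.sum_le_sum_of_subset (Finset.subset_univ _)
  have h1 : ∑ l, cn one l = 1 := by simp [hconeone]
  have h2 : 1 ≤ nn η := Nat.pos_of_ne_zero fun h => hηn (by rw [h, zero_mul])
  rw [hnone, h1] at hle
  have := Nat.mul_le_mul h2 hηdeg
  omega

end Cfsg.Agent.Baer19
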