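import Cfsg.Agent.Baer19.CyclicSylow
import Cfsg.Agent.Baer19.SelfCent
import Mathlib.LinearAlgebra.Vandermonde
import Mathlib.RingTheory.ZMod.UnitsCyclic
import Mathlib.Algebra.Ring.Subring.Basic
import Mathlib.Tactic.NormNum.Prime

/-!
# A cyclic Sylow subgroup of odd order

No minimal example has a cyclic Sylow `r`-subgroup for odd `r`: the normaliser acts as a Frobenius
group on the vectors, and characters force double transitivity on an orbit, which is impossible.
-/

set_option autoImplicit false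
set_option linter.unusedSectionVars false

open Subgroup MulAction

namespace Cfsg.Agent.Baer19

universe u

theorem geom_bound {Q : ℕ} (hQ : 3 ≤ Q) {e : ℕ} (he : 2 ≤ e) :
    e * e * (Q - 1) + 1 ≤ Q ^ e := by
  obtain ⟨Q, rfl⟩ : ∃ Q', Q = Q' + 3 := ⟨Q - 3, by omega⟩
  rw [show Q + 3 - 1 = Q + 2 from rfl]
  induction e, he using Nat.le_induction with
  | base => nlinarith
  | succ e he ih =>
    have h1 := Nat.mul_le_mul_right (Q + 3) ih
    rw [pow_succ]
    have h2 := Nat.mul_le_mul_left (Q + 2) (show (e + 1) * (e + 1) ≤ 3 * (e * e) by nlinarith)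
    have h3 := Nat.mul_le_mul_left (e * e * (Q + 2)) (show 3 ≤ Q + 3 by omega)
    nlinarith [h1, h2, h3]

theorem two_pow_bound {e : ℕ} (he : 5 ≤ e) : e * e + 1 ≤ 2 ^ e := by
  induction e, he using Nat.le_induction with
  | base => norm_num
  | succ e he ih => rw [pow_succ]; nlinarith

variable {r : ℕ} {H V : Type u} [Group H] [AddCommGroup V] [DistribMulAction H V]
  [Finite H] [Finite V] [hr : Fact r.Prime] [FaithfulSMul H V]

set_option maxHeartbeats 800000 in
theorem MinCtx.false_cyclic (c : MinCtx r H V) (hr2 : r ≠ 2) (R : Sylow r H)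
    (hcyc : IsCyclic (R : Subgroup H)) : False := by
  classical
  let _ := Fintype.ofFinite H
  let _ := Fintype.ofFinite V
  have hcomm := c.cyclic_comm R hcyc
  obtain ⟨q, hq, -, hqH, hqV, hqexp⟩ := c.exists_prime_exponent
  have := Fact.mk hq
  set P := (R : Subgroup H) with hP
  set Nr := normalizer (P : Set H) with hNr
  have hPN : P ≤ Nr := le_normalizer
  set e := P.relIndex Nr with he
  set N := Nat.card P with hN
  obtain ⟨v0, hv0⟩ := (have := c.nontrivial_V; exists_ne (0 : V))
  set D := stabilizer H v0 with hD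
  have hfree : ∀ v : V, v ≠ 0 → ∀ ρ ∈ P, ρ • v = v → ρ = 1 := fun v hv ρ hρ hfix => by
    by_contra h1
    exact hv (c.cyclic_fixed R hcyc hρ h1 hfix)
  have hindex : ∀ v : V, v ≠ 0 → (stabilizer H v).index = N := by
    intro v hv
    rw [← relIndex_sylow c.pow R v, relIndex, index_eq_card]
    have : (stabilizer H v).subgroupOf P = ⊥ := by
      rw [eq_bot_iff]
      intro g hg
      exact mem_bot.mpr (Subtype.ext (hfree v hv g g.2 hg))
    rw [this]
    exact Nat.card_congr QuotientGroup.quotientBot.toEquiv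
  -- a generator of the complement in the normaliser
  obtain ⟨⟨y, hy⟩, hgen⟩ := hcyc.exists_generator
  have hgenH : ∀ x ∈ P, ∃ j : ℤ, y ^ j = x := fun x hx => by
    obtain ⟨j, hj⟩ := mem_zpowers_iff.mp (hgen ⟨x, hx⟩)
    exact ⟨j, congrArg Subtype.val hj⟩
  obtain ⟨f, hf⟩ := IsPGroup.iff_card.mp R.2
  have hyo : orderOf y = N := by
    rw [hN, ← orderOf_eq_card_of_forall_mem_zpowers hgen, ← Subgroup.orderOf_coe]
  have hf1 : 0 < f := by
    rcases Nat.eq_zero_or_pos f with rfl | h
    · exact absurd (P.eq_bot_of_card_eq (by rw [hf, pow_zero])) (c.sylow_ne_bot R)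
    · exact h
  set z := y ^ r ^ (f - 1) with hz
  have hzP : z ∈ P := pow_mem hy _
  have hzo : orderOf z = r := by
    rw [hz, orderOf_pow' _ (pow_ne_zero _ hr.out.ne_zero), hyo, hN, hf,
      Nat.gcd_eq_right (pow_dvd_pow r (Nat.sub_le f 1)),
      Nat.pow_div (Nat.sub_le f 1) hr.out.pos, show f - (f - 1) = 1 by omega, pow_one]
  have hz1 : z ≠ 1 := fun h => hr.out.ne_one (by rw [← hzo, h, orderOf_one])
  have : IsCyclic (zpowers z) := inferInstance
  have hnorm : ∀ g ∈ Nr, ∀ x ∈ zpowers z, g * x * g⁻¹ ∈ zpowers z := by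
    intro g hg x hx
    obtain ⟨i, rfl⟩ := mem_zpowers_iff.mp hx
    obtain ⟨k, hk⟩ := hgenH _ ((mem_normalizer_iff.mp hg y).mp hy)
    refine mem_zpowers_iff.mpr ⟨k * i, ?_⟩
    rw [hz, ← zpow_natCast, ← zpow_mul, ← zpow_mul, ← conj_zpow, ← hk, ← zpow_mul]
    congr 1
    ring
  set E := Nr ⊓ D with hE
  have hEN : ∀ g ∈ E, g ∈ Nr := fun g hg => hg.1
  have hEfree : ∀ g ∈ E, g ∈ P → g = 1 := fun g hg hgP => hfree v0 hv0 g hgP hg.2
  have hEcard : Nat.card E = e := by
    have h1 : D.relIndex Nr = N := by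
      refine le_antisymm (hindex v0 hv0 ▸ relIndex_le_index' _ _) ?_
      rw [← hindex v0 hv0, hD, ← relIndex_sylow c.pow R v0]
      exact relIndex_le_of_le_right hPN (index_ne_zero_of_finite
        (H := (stabilizer H v0).subgroupOf Nr))
    have h2 := (D.subgroupOf Nr).card_mul_index
    rw [← relIndex, h1, ← (P.subgroupOf Nr).card_mul_index,
      Nat.card_congr (subgroupOfEquivOfLe hPN).toEquiv, ← relIndex, ← he, ← hN, mul_comm N e] at h2
    rw [← Nat.eq_of_mul_eq_mul_right (by rw [hN]; exact Nat.card_pos) h2,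
      ← card_map_of_injective (Subgroup.subtype_injective _), subgroupOf_map_subtype, inf_comm]
  let cz : E →* MulAut (zpowers z) :=
    { toFun := fun g =>
        { toFun := fun x => ⟨(g : H) * x * (g : H)⁻¹, hnorm g (hEN g g.2) x x.2⟩
          invFun := fun x => ⟨(g : H)⁻¹ * x * g, by
            simpa using hnorm _ (inv_mem (hEN g g.2)) x x.2⟩
          left_inv := fun x => Subtype.ext (by simp [mul_assoc])
          right_inv := fun x => Subtype.ext (by simp [mul_assoc])
          map_mul' := fun a b => Subtype.ext (by simp [mul_assoc]) }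
      map_one' := by ext x; simp
      map_mul' := fun a b => by ext x; simp [mul_assoc] }
  have hcz : Function.Injective cz := by
    intro a b hab
    have h1 : ((a : H) * z * (a : H)⁻¹) = (b : H) * z * (b : H)⁻¹ :=
      congrArg (fun φ : MulAut (zpowers z) => ((φ ⟨z, mem_zpowers z⟩ : zpowers z) : H)) hab
    have h2 : (b⁻¹ * a : E).1 * z = z * (b⁻¹ * a : E).1 := by
      show ((b : H)⁻¹ * (a : H)) * z = z * ((b : H)⁻¹ * (a : H))
      rw [mul_inv_eq_iff_eq_mul] at h1
      rw [mul_assoc, h1]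
      group
    have h3 := hEfree _ (b⁻¹ * a : E).2 (c.cyclic_centralizer R hcyc hzP hz1 h2)
    exact (inv_mul_eq_one.mp (Subtype.ext h3 : b⁻¹ * a = 1)).symm
  have hEcyc : IsCyclic E := by
    let ι : E →* (ZMod (Nat.card (zpowers z)))ˣ :=
      (IsCyclic.mulAutMulEquiv (zpowers z)).toMonoidHom.comp cz
    have : NeZero (Nat.card (zpowers z)) := ⟨Nat.card_pos.ne'⟩
    have : IsCyclic (ZMod (Nat.card (zpowers z)))ˣ := by
      rw [Nat.card_zpowers, hzo]
      exact ZMod.isCyclic_units_prime hr.out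
    exact isCyclic_of_injective ι ((IsCyclic.mulAutMulEquiv (zpowers z)).injective.comp hcz)
  obtain ⟨⟨h0, hh0⟩, hgenE⟩ := hEcyc.exists_generator
  have hh0o : orderOf h0 = e := by
    rw [← hEcard, ← orderOf_eq_card_of_forall_mem_zpowers hgenE, ← Subgroup.orderOf_coe]
  have he1 : e ≠ 1 := by
    intro h1
    have hle : Nr ≤ P := relIndex_eq_one.mp h1
    have hPc : P ≤ centralizer (P : Set H) := fun x hx =>
      mem_centralizer_iff.mpr fun w hw => c.cyclic_comm' R hcyc hw hx
    have := eq_of_le_centralizer c.pow R hPc (hle.trans hPc)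
    exact c.cyclic_not_normal R hcyc (this ▸ inferInstance)
  have he2 : 2 ≤ e := by
    have : 0 < e := hEcard ▸ Nat.card_pos
    omega
  have hh01 : h0 ≠ 1 := fun h => he1 (by rw [← hh0o, h, orderOf_one])
  have hCRh : ∀ ρ ∈ P, h0 * ρ = ρ * h0 → ρ = 1 := fun ρ hρ hc => by
    by_contra h1
    exact hh01 (hEfree h0 hh0 (c.cyclic_centralizer R hcyc hρ h1 hc))
  -- the fixed points of the complement
  let W : AddSubgroup V :=
    { carrier := {w | h0 • w = w}
      zero_mem' := smul_zero h0
      add_mem' := fun {a b} (ha : h0 • a = a) (hb : h0 • b = b) => by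
        show h0 • (a + b) = a + b
        rw [smul_add, ha, hb]
      neg_mem' := fun {a} (ha : h0 • a = a) => by
        show h0 • (-a) = -a
        rw [smul_neg, ha] }
  have hv0W : v0 ∈ W := hh0.2
  set Q := Nat.card W with hQ
  have hcount : Nat.card V = N * (Q - 1) + 1 := by
    let f : {v : V // v ≠ 0} → Prop := fun _ => True
    let Φ : P × {w : W // w ≠ 0} → {v : V // v ≠ 0} := fun p =>
      ⟨(p.1 : H) • ((p.2 : W) : V), fun h => p.2.2 (Subtype.ext ((smul_eq_zero_iff_eq _).mp h))⟩
    have hinj : Function.Injective Φ := by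
      rintro ⟨⟨ρ, hρ⟩, ⟨⟨w, hw⟩, hw0⟩⟩ ⟨⟨ρ', hρ'⟩, ⟨⟨w', hw'⟩, hw0'⟩⟩ h
      have h1 : ρ • w = ρ' • w' := congrArg Subtype.val h
      have hw'0 : w' ≠ 0 := fun h => hw0' (Subtype.ext h)
      set σ := ρ⁻¹ * ρ' with hσ
      have hσP : σ ∈ P := mul_mem (inv_mem hρ) hρ'
      have h2 : σ • w' = w := by rw [hσ, mul_smul, ← h1, inv_smul_smul]
      have hw1 : h0 • w = w := hw
      have hw2 : h0 • w' = w' := hw'
      have h3 : (σ⁻¹ * (h0 * σ * h0⁻¹)) • w' = w' := by
        have : h0⁻¹ • w' = w' := by rw [inv_smul_eq_iff, hw2]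
        rw [mul_smul, mul_smul, mul_smul, this, h2, hw1, ← h2, inv_smul_smul]
      have h4 := hfree w' hw'0 _ (mul_mem (inv_mem hσP)
        ((mem_normalizer_iff.mp (hEN h0 hh0) σ).mp hσP)) h3
      rw [inv_mul_eq_one, eq_comm, mul_inv_eq_iff_eq_mul] at h4
      have h5 := hCRh σ hσP h4
      have h6 : ρ = ρ' := inv_mul_eq_one.mp h5
      subst h6
      have h7 : w = w' := (smul_left_cancel ρ h1)
      subst h7
      rfl
    have hsurj : Function.Surjective Φ := by
      rintro ⟨v, hv⟩
      obtain ⟨ρ, hρ, hρv⟩ := exists_sylow_smul c.pow R v h0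
      have hk : Function.Surjective fun τ : P =>
          (⟨(τ : H) * (h0 * (τ : H)⁻¹ * h0⁻¹), mul_mem τ.2
            ((mem_normalizer_iff.mp (hEN h0 hh0) _).mp (inv_mem τ.2))⟩ : P) := by
        refine Finite.injective_iff_surjective.mp fun a b hab => ?_
        have h1 : (a : H) * (h0 * (a : H)⁻¹ * h0⁻¹) = (b : H) * (h0 * (b : H)⁻¹ * h0⁻¹) :=
          congrArg Subtype.val hab
        have h2 : h0 * ((b : H)⁻¹ * a) = ((b : H)⁻¹ * a) * h0 := by
          have h3 := congrArg (fun t => (b : H)⁻¹ * t * h0 * (a : H)) h1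
          simpa [mul_assoc] using h3.symm
        exact (Subtype.ext (inv_mul_eq_one.mp (hCRh _ (mul_mem (inv_mem b.2) a.2) h2))).symm
      obtain ⟨τ, hτ⟩ := hk ⟨ρ⁻¹, inv_mem hρ⟩
      have hτ' : (τ : H) * (h0 * (τ : H)⁻¹ * h0⁻¹) = ρ⁻¹ := congrArg Subtype.val hτ
      have hmem : (τ : H)⁻¹ • v ∈ W := by
        show h0 • (τ : H)⁻¹ • v = (τ : H)⁻¹ • v
        rw [eq_inv_smul_iff]
        have h1 : ((τ : H) * (h0 * (τ : H)⁻¹ * h0⁻¹) * h0) • v = v := by
          rw [hτ', mul_smul, ← hρv, inv_smul_smul]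
        rwa [show (τ : H) * (h0 * (τ : H)⁻¹ * h0⁻¹) * h0 = (τ : H) * (h0 * (τ : H)⁻¹) by group,
          mul_smul, mul_smul] at h1
      exact ⟨(τ, ⟨⟨_, hmem⟩, fun h => hv
        ((smul_eq_zero_iff_eq _).mp (congrArg Subtype.val h))⟩),
        Subtype.ext (smul_inv_smul _ _)⟩
    have h1 := Nat.card_eq_of_bijective Φ ⟨hinj, hsurj⟩
    rw [Nat.card_prod] at h1
    have h2 : Nat.card {w : W // w ≠ 0} + 1 = Q := by
      rw [hQ, Nat.card_eq_fintype_card, Nat.card_eq_fintype_card, Fintype.card_subtype_compl,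
        Fintype.card_subtype_eq]
      exact Nat.sub_add_cancel Fintype.card_pos
    have h3 : Nat.card {v : V // v ≠ 0} + 1 = Nat.card V := by
      rw [Nat.card_eq_fintype_card, Nat.card_eq_fintype_card, Fintype.card_subtype_compl,
        Fintype.card_subtype_eq]
      exact Nat.sub_add_cancel Fintype.card_pos
    rw [← h3, ← h1, ← hN, show Nat.card {w : W // w ≠ 0} = Q - 1 by omega]
  -- `Q ^ e ≤ |V|`
  have hpow : Q ^ e ≤ Nat.card V := by
    obtain ⟨k, hk⟩ := mem_zpowers_iff.mp (hnorm h0 (hEN h0 hh0) z (mem_zpowers z))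
    obtain ⟨s, hs⟩ : ∃ s : ℕ, z ^ s = h0 * z * h0⁻¹ := by
      refine ⟨(k % (r : ℤ)).toNat, ?_⟩
      rw [← hk, ← zpow_natCast, Int.toNat_of_nonneg (Int.emod_nonneg _ (by
        exact_mod_cast hr.out.ne_zero)), ← hzo, zpow_mod_orderOf]
    have hiter : ∀ j : ℕ, h0 ^ j * z * (h0 ^ j)⁻¹ = z ^ (s ^ j) := by
      intro j
      induction j with
      | zero => simp
      | succ j ih =>
        rw [pow_succ' h0, mul_inv_rev,
          show h0 * h0 ^ j * z * ((h0 ^ j)⁻¹ * h0⁻¹) = h0 * (h0 ^ j * z * (h0 ^ j)⁻¹) * h0⁻¹ by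
            group, ih, ← conj_pow, ← hs, ← pow_mul, pow_succ' s]
    let ρz : AddMonoid.End V := DistribMulAction.toAddMonoidEnd H V z
    let S : Subring (AddMonoid.End V) := Subring.closure {ρz}
    have hmul : IsMulCommutative S := Subring.isMulCommutative_closure fun p hp p' hp' => by
      rw [Set.mem_singleton_iff] at hp hp'
      rw [hp, hp']
    let : CommRing S := { (inferInstance : Ring S) with mul_comm := hmul.is_comm.comm }
    let X : Fin e → S := fun j => ⟨ρz, Subring.subset_closure rfl⟩ ^ (s ^ (j : ℕ))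
    have hX : ∀ (j : Fin e) (i : ℕ) (v : V),
        ((X j ^ i : S) : AddMonoid.End V) v = (z ^ (s ^ (j : ℕ))) ^ i • v := by
      intro j i v
      simp only [X, SubmonoidClass.coe_pow]
      rw [← pow_mul, ← pow_mul]
      show (ρz ^ _) v = _
      simp only [ρz, ← map_pow]
      rfl
    have hdiff : ∀ j l : Fin e, j ≠ l → ∀ v : V,
        ((X l - X j : S) : AddMonoid.End V) v = 0 → v = 0 := by
      intro j l hjl v hv
      have h1 : ((X l : S) : AddMonoid.End V) v = ((X j : S) : AddMonoid.End V) v :=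
        sub_eq_zero.mp hv
      rw [← pow_one (X l), ← pow_one (X j), hX, hX, pow_one, pow_one] at h1
      by_contra hv0'
      have h2 : ((z ^ (s ^ (j : ℕ)))⁻¹ * z ^ (s ^ (l : ℕ))) • v = v := by
        rw [mul_smul, h1, inv_smul_smul]
      have h3 := hfree v hv0' _ (mul_mem (inv_mem (pow_mem hzP _)) (pow_mem hzP _)) h2
      rw [inv_mul_eq_one, ← hiter, ← hiter] at h3
      have hjl' : h0 ^ (j : ℕ) = h0 ^ (l : ℕ) := by
        have h4 : ((h0 ^ (l : ℕ))⁻¹ * h0 ^ (j : ℕ)) * z = z * ((h0 ^ (l : ℕ))⁻¹ * h0 ^ (j : ℕ)) := by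
          rw [mul_inv_eq_iff_eq_mul] at h3
          rw [mul_assoc, h3]
          group
        have h5 := hEfree _ (mul_mem (inv_mem (pow_mem hh0 _)) (pow_mem hh0 _))
          (c.cyclic_centralizer R hcyc hzP hz1 h4)
        exact (inv_mul_eq_one.mp h5).symm
      exact hjl (Fin.ext (pow_injOn_Iio_orderOf (by simp [hh0o])
        (by simp [hh0o]) hjl'))
    have hkill : ∀ (S' : Finset (Fin e × Fin e)), (∀ p ∈ S', p.1 ≠ p.2) → ∀ v : V,
        ((∏ p ∈ S', (X p.2 - X p.1) : S) : AddMonoid.End V) v = 0 → v = 0 := by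
      intro S'
      induction S' using Finset.induction_on with
      | empty => intro _ v hv; simpa using hv
      | insert a S' ha ih =>
        intro hne v hv
        rw [Finset.prod_insert ha] at hv
        refine ih (fun p hp => hne p (Finset.mem_insert_of_mem hp)) v ?_
        exact hdiff _ _ (hne a (Finset.mem_insert_self _ _)) _ hv
    let M : Matrix (Fin e) (Fin e) S := Matrix.vandermonde X
    have happly : ∀ (F : Fin e → AddMonoid.End V) (x : V), (∑ j, F j) x = ∑ j, F j x := fun F x =>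
      AddMonoidHom.finsetSum_apply _ _ x
    let g : (Fin e → W) → V := fun w => ∑ i : Fin e, (z ^ (i : ℕ)) • ((w i : W) : V)
    have hg0 : ∀ w, g w = 0 → w = 0 := by
      intro w hw
      have hrow : ∀ j : Fin e, ∑ i : Fin e, ((M j i : S) : AddMonoid.End V) (w i : V) = 0 := by
        intro j
        have h1 := congrArg (fun v => h0 ^ (j : ℕ) • v) hw
        simp only [g, Finset.smul_sum, smul_zero] at h1
        rw [← h1]
        refine Finset.sum_congr rfl fun i _ => ?_
        rw [show M j i = X j ^ (i : ℕ) from Matrix.vandermonde_apply .., hX]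
        have hfix : h0 ^ (j : ℕ) • (w i : V) = w i := by
          have hwi : h0 • (w i : V) = w i := (w i).2
          exact mem_stabilizer_iff.mp (pow_mem (mem_stabilizer_iff.mpr hwi) _)
        conv_lhs => rw [← hfix, ← hiter, ← mul_smul, conj_pow, inv_mul_cancel_right, mul_smul]
      funext k
      refine Subtype.ext ?_
      have hsum : ((M.det : S) : AddMonoid.End V) (w k : V) = 0 := by
        have h1 : ∑ j, ((M.adjugate k j : S) : AddMonoid.End V)
            (∑ i, ((M j i : S) : AddMonoid.End V) (w i : V)) = 0 := by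
          simp [hrow]
        simp only [map_sum] at h1
        rw [Finset.sum_comm] at h1
        rw [← h1, Finset.sum_eq_single k]
        · have e1 : ((M.det : S)) = ∑ j, M.adjugate k j * M j k := by
            rw [← Matrix.mul_apply, Matrix.adjugate_mul]
            simp
          rw [e1, AddSubmonoidClass.coe_finsetSum, happly]
          rfl
        · intro i _ hik
          have e1 : ∑ j, M.adjugate k j * M j i = 0 := by
            rw [← Matrix.mul_apply, Matrix.adjugate_mul]
            simp [Ne.symm hik]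
          have := congrArg (fun u : S => (u : AddMonoid.End V) (w i : V)) e1
          simp only [AddSubmonoidClass.coe_finsetSum, happly] at this
          exact this
        · simp
      rw [Matrix.det_vandermonde, Finset.prod_sigma'] at hsum
      show (w k : V) = 0
      refine hkill ((Finset.univ.sigma fun i => Finset.Ioi i).image fun p => (p.1, p.2))
        (fun p hp => ?_) _ ?_
      · simp only [Finset.mem_image, Finset.mem_sigma, Finset.mem_Ioi] at hp
        obtain ⟨⟨a, b⟩, ⟨-, hab⟩, rfl⟩ := hp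
        exact hab.ne
      · rw [Finset.prod_image (fun a _ b _ h => by
          obtain ⟨a1, a2⟩ := a
          obtain ⟨b1, b2⟩ := b
          simp only [Prod.mk.injEq] at h
          simp [h.1, h.2])]
        exact hsum
    have hginj : Function.Injective g := fun a b hab => by
      refine sub_eq_zero.mp (hg0 (a - b) ?_)
      simp only [g, Pi.sub_apply, AddSubgroupClass.coe_sub, smul_sub, Finset.sum_sub_distrib]
      exact sub_eq_zero.mpr hab
    have := Nat.card_le_card_of_injective g hginj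
    rwa [Nat.card_fun, Nat.card_fin, ← hQ] at this
  have hQ2 : 2 ≤ Q := by
    have : Nontrivial W := ⟨⟨0, ⟨v0, hv0W⟩, fun h => hv0 (congrArg Subtype.val h).symm⟩⟩
    exact Finite.one_lt_card
  have hqQ : q ∣ Q := by
    have h1 : addOrderOf (⟨v0, hv0W⟩ : W) ∣ Q := addOrderOf_dvd_natCard _
    rwa [addOrderOf_eq_prime (p := q) (Subtype.ext (by simpa using hqexp v0))
      (fun h => hv0 (congrArg Subtype.val h))] at h1
  have hqN : (N : ℤ) ≡ 1 [ZMOD q] := by
    have h1 : ((Nat.card V : ℕ) : ℤ) = (N : ℤ) * ((Q : ℤ) - 1) + 1 := by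
      rw [hcount]; push_cast [Nat.cast_sub (by omega : 1 ≤ Q)]; ring
    obtain ⟨a, ha⟩ := hqV
    obtain ⟨b, hb⟩ := hqQ
    rw [ha, hb] at h1
    push_cast at h1
    rw [Int.modEq_iff_dvd]
    exact ⟨(a : ℤ) - N * b, by linear_combination -h1⟩
  rcases two_transitive_or_small P D
      (fun x hx hx1 g hg => c.cyclic_centralizer R hcyc hx hx1 hg)
      (fun g x hx hxd => by
        have h1 : g⁻¹ • x • g • v0 = v0 := by rw [← mul_smul, ← mul_smul]; exact hxd
        rw [inv_smul_eq_iff] at h1
        exact hfree _ (fun h => hv0 ((smul_eq_zero_iff_eq g).mp h)) x hx h1)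
      (hindex v0 hv0) (fun M hM hle => c.cyclic_normal_eq_top R hcyc hM hle)
      (c.sylow_ne_bot R) with hcase | hcase | hcase
  · -- double transitivity is impossible
    have : Finite (orbitRel.Quotient D (H ⧸ D)) := inferInstance
    let cl : H → orbitRel.Quotient D (H ⧸ D) := fun g => Quotient.mk'' (g : H ⧸ D)
    have hcl : ∀ g g', cl g = cl g' → ∃ d ∈ D, d • g' • v0 = g • v0 := fun g g' h => by
      obtain ⟨d, hd⟩ := Quotient.exact' h
      refine ⟨d, d.2, ?_⟩
      have h2 : (((d : H) * g' : H) : H ⧸ D) = (g : H ⧸ D) := hd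
      rw [QuotientGroup.eq] at h2
      have h3 : (((d : H) * g')⁻¹ * g) • v0 = v0 := h2
      rw [mul_smul, inv_smul_eq_iff, mul_smul] at h3
      exact h3.symm
    have hbase : ∀ g, cl g = cl 1 → g • v0 = v0 := fun g h => by
      obtain ⟨d, hd, he⟩ := hcl g 1 h
      rw [one_smul, mem_stabilizer_iff.mp hd] at he
      exact he.symm
    have hrel : ∀ ρ ∈ P, ρ ≠ 1 → ∀ ρ' ∈ P, ρ' ≠ 1 → ∃ d ∈ D, d • ρ' • v0 = ρ • v0 := by
      intro ρ hρ h1 ρ' hρ' h1'
      refine hcl ρ ρ' ?_
      by_contra hne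
      have hn1 : cl ρ ≠ cl 1 := fun h => h1 (hfree v0 hv0 ρ hρ (hbase ρ h))
      have hn2 : cl ρ' ≠ cl 1 := fun h => h1' (hfree v0 hv0 ρ' hρ' (hbase ρ' h))
      let _ := Fintype.ofFinite (orbitRel.Quotient D (H ⧸ D))
      rw [Nat.card_eq_fintype_card] at hcase
      have := Finset.card_le_univ ({cl 1, cl ρ, cl ρ'} : Finset (orbitRel.Quotient D (H ⧸ D)))
      rw [hcase, Finset.card_eq_three.mpr ⟨_, _, _, Ne.symm hn1, Ne.symm hn2, hne, rfl⟩] at this
      omega
    let T : V → V := fun x => ∑ d : D, (d : H) • x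
    have hTd : ∀ (d : H), d ∈ D → ∀ x, T (d • x) = T x := fun d hd x => by
      simp only [T, ← mul_smul]
      exact Fintype.sum_equiv (Equiv.mulRight (⟨d, hd⟩ : D)) _ _ fun t => rfl
    have hsum0 : ∑ ρ : P, (ρ : H) • v0 = 0 := by
      refine c.cyclic_fixed R hcyc hzP hz1 ?_
      rw [Finset.smul_sum]
      simp only [← mul_smul]
      exact Fintype.sum_equiv (Equiv.mulLeft (⟨z, hzP⟩ : P)) _ _ fun t => rfl
    have h1 : ∑ ρ : P, T ((ρ : H) • v0) = 0 := by
      rw [Finset.sum_comm]
      refine Finset.sum_eq_zero fun d _ => ?_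
      rw [← Finset.smul_sum, hsum0, smul_zero]
    obtain ⟨ρ1, hρ1⟩ : ∃ ρ : P, ρ ≠ 1 := by
      by_contra! h
      exact c.sylow_ne_bot R ((eq_bot_iff_forall _).mpr fun x hx => congrArg Subtype.val (h ⟨x, hx⟩))
    rw [← Finset.add_sum_erase _ _ (Finset.mem_univ (1 : P)), OneMemClass.coe_one, one_smul,
      Finset.sum_eq_card_nsmul (b := T ((ρ1 : H) • v0)) (fun ρ hρ => by
        obtain ⟨d, hd, he⟩ := hrel ρ ρ.2 (fun h => Finset.ne_of_mem_erase hρ (Subtype.ext h))
          ρ1 ρ1.2 (fun h => hρ1 (Subtype.ext h))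
        rw [← he, hTd d hd]),
      Finset.card_erase_of_mem (Finset.mem_univ _), Finset.card_univ,
      ← Nat.card_eq_fintype_card, ← hN] at h1
    obtain ⟨a, ha⟩ : q ∣ N - 1 := by
      have h2 : 1 ≤ N := Nat.card_pos
      have h3 := Int.modEq_iff_dvd.mp hqN.symm
      rw [show (N : ℤ) - 1 = ((N - 1 : ℕ) : ℤ) by push_cast [Nat.cast_sub h2]; ring] at h3
      exact_mod_cast h3
    rw [ha, mul_nsmul, hqexp, smul_zero, add_zero] at h1
    have h4 : (Nat.card D) • v0 = 0 := by
      rw [← h1]
      simp only [T]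
      rw [Finset.sum_congr rfl fun (d : D) _ => (mem_stabilizer_iff.mp d.2 : (d : H) • v0 = v0),
        Finset.sum_const, Finset.card_univ, Nat.card_eq_fintype_card]
    have h5 : addOrderOf v0 ∣ Nat.card D := addOrderOf_dvd_of_nsmul_eq_zero h4
    rw [addOrderOf_eq_prime (p := q) (hqexp v0) hv0] at h5
    exact hqH (h5.trans (card_subgroup_dvd_card D))
  swap
  · exact he1 hcase
  -- the numerical case
  change N < e * e at hcase
  have hNle : Q ^ e ≤ N * (Q - 1) + 1 := hcount ▸ hpow
  by_cases hQ3 : 3 ≤ Q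
  · have h1 := geom_bound hQ3 he2
    have h2 : (N + 1) * (Q - 1) ≤ e * e * (Q - 1) := Nat.mul_le_mul_right _ hcase
    rw [Nat.add_mul, one_mul] at h2
    omega
  have hQeq : Q = 2 := by omega
  rw [hQeq] at hNle hcount hqQ
  have hq2 : q = 2 := (Nat.prime_dvd_prime_iff_eq hq Nat.prime_two).mp hqQ
  have he_odd : ¬ 2 ∣ e := fun h => hqH (hq2 ▸ h.trans
    (hEcard ▸ card_subgroup_dvd_card E))
  by_cases he5 : 5 ≤ e
  · have := two_pow_bound he5
    omega
  have he3 : e = 3 := by omega
  rw [he3] at hNle hcase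
  have hNodd : ¬ 2 ∣ N := by
    intro h
    rw [hN, hf] at h
    exact hr2 ((Nat.prime_dvd_prime_iff_eq Nat.prime_two hr.out).mp
      (Nat.prime_two.dvd_of_dvd_pow h)).symm
  have hN7 : N = 7 := by
    norm_num at hNle hcase
    omega
  have hr7 : r = 7 := by
    rw [hN, hf] at hN7
    exact ((Nat.prime_dvd_prime_iff_eq (by norm_num) hr.out).mp
      ((by norm_num : Nat.Prime 7).dvd_of_dvd_pow (dvd_of_eq hN7.symm))).symm
  rw [hN7] at hcount
  replace hcount : Nat.card V = 8 := hcount
  -- three vectors generate, so the group is small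
  have hclos : ∀ (A : AddSubgroup V) (v : V), v ∉ A →
      2 * Nat.card A ≤ Nat.card (AddSubgroup.closure (insert v (A : Set V))) := by
    intro A v hv
    have hle : A ≤ AddSubgroup.closure (insert v (A : Set V)) := fun x hx =>
      AddSubgroup.subset_closure (Set.mem_insert_of_mem _ hx)
    obtain ⟨t, ht⟩ := AddSubgroup.card_dvd_of_le hle
    rcases t with _ | _ | t
    · exact absurd ht (by rw [mul_zero]; exact Nat.card_pos.ne')
    · exfalso
      refine hv (?_ : v ∈ A)
      have heq := AddSubgroup.eq_of_le_of_card_ge hle (by rw [ht]; omega)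
      rw [heq]
      exact AddSubgroup.subset_closure (Set.mem_insert _ _)
    · rw [ht]; nlinarith [Nat.card_pos (α := A)]
  obtain ⟨a, ha⟩ : ∃ a : V, a ∉ AddSubgroup.zmultiples v0 := by
    by_contra! h
    have := AddSubgroup.card_le_of_le (fun x (_ : x ∈ (⊤ : AddSubgroup V)) => h x :
      (⊤ : AddSubgroup V) ≤ AddSubgroup.zmultiples v0)
    rw [AddSubgroup.card_top, hcount, Nat.card_zmultiples,
      addOrderOf_eq_prime (p := q) (hqexp v0) hv0] at this
    omega
  set A2 := AddSubgroup.closure (insert a (AddSubgroup.zmultiples v0 : Set V)) with hA2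
  have hA2c : Nat.card A2 ≤ 4 := by
    have h : ∀ x ∈ A2, x = 0 ∨ x = v0 ∨ x = a ∨ x = v0 + a := by
      have h2 : ∀ v : V, v + v = 0 := fun v => by rw [← two_nsmul, ← hq2]; exact hqexp v
      have e1 : a + v0 = v0 + a := add_comm _ _
      have e2 : v0 + (v0 + a) = a := by rw [← add_assoc, h2, zero_add]
      have e3 : (v0 + a) + v0 = a := by rw [add_comm, e2]
      have e5 : (v0 + a) + a = v0 := by rw [add_assoc, h2, add_zero]
      have e4 : a + (v0 + a) = v0 := by rw [add_comm, e5]
      have e6 : (v0 + a) + (v0 + a) = 0 := h2 _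
      intro x hx
      induction hx using AddSubgroup.closure_induction with
      | mem x hx =>
        rcases hx with rfl | hx
        · simp
        · obtain ⟨k, rfl⟩ := AddSubgroup.mem_zmultiples_iff.mp hx
          rcases Int.even_or_odd k with ⟨j, rfl⟩ | ⟨j, rfl⟩
          · left; rw [add_zsmul]; exact h2 _
          · right; left; rw [add_zsmul, two_mul, add_zsmul, h2, zero_add, one_zsmul]
      | zero => simp
      | add x y _ _ hx hy =>
        rcases hx with rfl | rfl | rfl | rfl <;> rcases hy with rfl | rfl | rfl | rfl <;>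
          simp only [zero_add, add_zero, h2, e1, e2, e3, e4, e5, true_or, or_true]
      | neg x _ hx =>
        rw [neg_eq_of_add_eq_zero_left (h2 x)]
        exact hx
    calc Nat.card A2 ≤ Nat.card ({0, v0, a, v0 + a} : Finset V) :=
          Nat.card_le_card_of_injective (fun x => ⟨(x : V), by simpa using h x x.2⟩)
            fun x y hxy => Subtype.ext (Subtype.ext_iff.mp hxy :)
      _ ≤ 4 := by rw [Nat.card_eq_finsetCard]; exact Finset.card_le_four
  obtain ⟨b, hb⟩ : ∃ b : V, b ∉ A2 := by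
    by_contra! h
    have := AddSubgroup.card_le_of_le (fun x (_ : x ∈ (⊤ : AddSubgroup V)) => h x :
      (⊤ : AddSubgroup V) ≤ A2)
    rw [AddSubgroup.card_top, hcount] at this
    omega
  have htop : AddSubgroup.closure (insert b (A2 : Set V)) = ⊤ := by
    refine AddSubgroup.eq_top_of_le_card _ ?_
    have h1 := hclos _ a ha
    rw [Nat.card_zmultiples, addOrderOf_eq_prime (p := q) (hqexp v0) hv0, ← hA2, hq2] at h1
    have h2 := hclos A2 b hb
    omega
  have hvA2 : v0 ∈ A2 :=
    AddSubgroup.subset_closure (Set.mem_insert_of_mem _ (AddSubgroup.mem_zmultiples v0))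
  have haA2 : a ∈ A2 := AddSubgroup.subset_closure (Set.mem_insert _ _)
  have hvals : Function.Injective ![v0, a, b] := by
    have h01 : v0 ≠ a := fun h => ha (h ▸ AddSubgroup.mem_zmultiples v0)
    have h02 : v0 ≠ b := fun h => hb (h ▸ hvA2)
    have h12 : a ≠ b := fun h => hb (h ▸ haA2)
    intro i j hij
    fin_cases i <;> fin_cases j <;>
      first | rfl | exact absurd hij h01 | exact absurd hij.symm h01 | exact absurd hij h02 |
        exact absurd hij.symm h02 | exact absurd hij h12 | exact absurd hij.symm h12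
  have hnz : ∀ i, ![v0, a, b] i ≠ 0 := by
    intro i
    fin_cases i
    · exact hv0
    · exact fun h => ha ((show a = 0 from h) ▸ zero_mem _)
    · exact fun h => hb ((show b = 0 from h) ▸ zero_mem _)
  let emb : H → (Fin 3 ↪ {v : V // v ≠ 0}) := fun g =>
    ⟨fun i => ⟨g • ![v0, a, b] i, fun h => hnz i ((smul_eq_zero_iff_eq g).mp h)⟩,
      fun i j h => hvals (smul_left_cancel g (congrArg Subtype.val h))⟩
  have hemb : Function.Injective emb := by
    intro g g' h
    refine eq_of_smul_eq_smul fun v : V => ?_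
    have hv : ∀ i, g • ![v0, a, b] i = g' • ![v0, a, b] i := fun i =>
      congrArg Subtype.val (congrFun (congrArg DFunLike.coe h) i)
    let K : AddSubgroup V := (DistribSMul.toAddMonoidHom V g).eqLocus
      (DistribSMul.toAddMonoidHom V g')
    have hK2 : A2 ≤ K := (AddSubgroup.closure_le K).mpr (Set.insert_subset_iff.mpr
      ⟨hv 1, AddSubgroup.zmultiples_le.mpr (hv 0)⟩)
    have : (⊤ : AddSubgroup V) ≤ K := htop ▸ (AddSubgroup.closure_le K).mpr
      (Set.insert_subset_iff.mpr ⟨hv 2, hK2⟩)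
    exact this (AddSubgroup.mem_top v)
  have hHle : Nat.card H ≤ 210 := by
    refine (Nat.card_le_card_of_injective emb hemb).trans ?_
    rw [Nat.card_eq_fintype_card, Fintype.card_embedding_eq, Fintype.card_fin,
      Fintype.card_subtype_compl, Fintype.card_subtype_eq, ← Nat.card_eq_fintype_card, hcount]
    decide
  -- hence the Sylow subgroup is normal
  have hn : Nat.card (Sylow r H) = Nr.index := Sylow.card_eq_index_normalizer R
  have hmod : Nr.index % 7 = 1 := by
    have h1 := card_sylow_modEq_one r H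
    rw [hn, hr7] at h1
    exact h1
  have hcardN : Nat.card Nr = 21 := by
    rw [← (P.subgroupOf Nr).card_mul_index, Nat.card_congr (subgroupOfEquivOfLe hPN).toEquiv,
      ← relIndex, ← he, ← hN, hN7, he3]
  have hHc := Nr.card_mul_index
  rw [hcardN] at hHc
  have hodd : ¬ 2 ∣ Nat.card H := hq2 ▸ hqH
  have hidx : Nr.index = 1 := by omega
  exact c.cyclic_not_normal R hcyc (normalizer_eq_top_iff.mp (index_eq_one.mp hidx))

end Cfsg.Agent.Baer19
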