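import Cfsg.Agent.Baer19.OrbitBasic
import Mathlib.FieldTheory.Finite.Basic
import Mathlib.RingTheory.IntegralDomain
import Mathlib.Algebra.CharP.Lemmas

/-!
# A cyclic subgroup inverted inside an irreducible nonabelian group is small
-/

set_option autoImplicit false

namespace Cfsg.Agent.Baer19

universe u

variable {H V : Type u} [Group H] [AddCommGroup V] [DistribMulAction H V]

theorem orderOf_bound_of_inverted [Finite V] [FaithfulSMul H V] {q : ℕ} (hq : q.Prime)
    (hqV : ∀ v : V, q • v = 0) (hne : ∃ v : V, v ≠ 0) {a x : H} (hxa : x * a * x⁻¹ = a⁻¹)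
    (ha2 : a * a ≠ 1) (R : Subgroup H)
    (hR : ∀ r ∈ R, ∃ j : ℤ, r = a ^ j ∨ r = a ^ j * x) (haR : a ∈ R) (hxR : x ∈ R)
    (hirr : ∀ W : AddSubgroup V, (∀ r ∈ R, ∀ w ∈ W, r • w ∈ W) → W = ⊥ ∨ W = ⊤) :
    ∃ Q : ℕ, q ≤ Q ∧ Q * Q ≤ Nat.card V ∧ orderOf a ≤ Q + 1 := by
  classical
  have := Fact.mk hq
  let ρ : H →* AddMonoid.End V := DistribMulAction.toAddMonoidEnd H V
  have hρ : ∀ (h : H) (v : V), ρ h v = h • v := fun h v => rfl
  set t := ρ a + ρ a⁻¹ with ht
  have hat : Commute (ρ a) t :=
    (Commute.refl _).add_right ((Commute.refl a).inv_right.map ρ)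
  have hxt : Commute (ρ x) t := by
    have h1 : ρ x * ρ a = ρ a⁻¹ * ρ x := by
      rw [← map_mul, ← map_mul, mul_inv_eq_iff_eq_mul.mp hxa]
    have h2 : ρ x * ρ a⁻¹ = ρ a * ρ x := by
      rw [← map_mul, ← map_mul]
      congr 1
      rw [← mul_inv_eq_iff_eq_mul, ← conj_inv, hxa, inv_inv]
    show ρ x * t = t * ρ x
    rw [ht, mul_add, add_mul, h1, h2, add_comm]
  let S : Subring (AddMonoid.End V) := Subring.closure {t}
  have hScomm : ∀ r ∈ R, ∀ s ∈ S, Commute (ρ r) s := by
    intro r hr s hs
    have h0 : ∀ j : ℤ, Commute (ρ (a ^ j)) t := fun j => by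
      rcases Int.eq_nat_or_neg j with ⟨m, rfl | rfl⟩
      · rw [zpow_natCast, map_pow]; exact hat.pow_left m
      · rw [zpow_neg, zpow_natCast, ← inv_pow, map_pow]
        refine Commute.pow_left ?_ m
        rw [ht]
        exact ((Commute.refl a).inv_left.map ρ).add_right (Commute.refl _)
    have h1 : Commute (ρ r) t := by
      obtain ⟨j, rfl | rfl⟩ := hR r hr
      · exact h0 j
      · rw [map_mul]; exact (h0 j).mul_left hxt
    have hle : S ≤ Subring.centralizer ({ρ r} : Set (AddMonoid.End V)) := Subring.closure_le.mpr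
      (Set.singleton_subset_iff.mpr (Subring.mem_centralizer_iff.mpr fun g hg => by
        rw [Set.mem_singleton_iff] at hg
        rw [hg]; exact h1.eq))
    exact Subring.mem_centralizer_iff.mp (hle hs) (ρ r) rfl
  have hmul : IsMulCommutative S := Subring.isMulCommutative_closure fun p hp q' hq' => by
    rw [Set.mem_singleton_iff] at hp hq'
    rw [hp, hq']
  let : CommRing S := { (inferInstance : Ring S) with mul_comm := hmul.is_comm.comm }
  have hinj : ∀ s : S, s ≠ 0 → ∀ v : V, (s : AddMonoid.End V) v = 0 → v = 0 := by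
    intro s hs v hv
    let W : AddSubgroup V :=
      { carrier := {w | (s : AddMonoid.End V) w = 0}
        zero_mem' := map_zero _
        add_mem' := fun {a b} (ha : _ = _) (hb : _ = _) => by
          show (s : AddMonoid.End V) (a + b) = 0
          rw [map_add, ha, hb, add_zero]
        neg_mem' := fun {a} (ha : _ = _) => by
          show (s : AddMonoid.End V) (-a) = 0
          rw [map_neg, ha, neg_zero] }
    rcases hirr W (fun r hr w (hw : (s : AddMonoid.End V) w = 0) => by
      show (s : AddMonoid.End V) (r • w) = 0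
      have := DFunLike.congr_fun (hScomm r hr _ s.2).eq w
      simp only [AddMonoid.End.coe_mul, Function.comp_apply, hρ] at this
      rw [← this, hw, smul_zero]) with h | h
    · exact AddSubgroup.mem_bot.mp (h ▸ (hv : v ∈ W))
    · refine absurd (Subtype.ext (AddMonoidHom.ext fun w => ?_) : s = 0) hs
      exact (h ▸ AddSubgroup.mem_top w : w ∈ W)
  obtain ⟨v0, hv0⟩ := hne
  have : Nontrivial S := ⟨⟨0, 1, fun h => hv0 (by
    have := congrArg (fun s : S => (s : AddMonoid.End V) v0) h
    simpa using this.symm)⟩⟩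
  have : NoZeroDivisors S := ⟨fun {s s'} h => or_iff_not_imp_left.mpr fun hs => by
    refine Subtype.ext (AddMonoidHom.ext fun w => hinj s hs _ ?_)
    exact congrArg (fun u : S => (u : AddMonoid.End V) w) h⟩
  have : IsDomain S := NoZeroDivisors.to_isDomain S
  have : Finite (AddMonoid.End V) :=
    Finite.of_injective (fun f : AddMonoid.End V => (f : V → V)) DFunLike.coe_injective
  let : Fintype S := Fintype.ofFinite S
  let : Field S := Fintype.fieldOfDomain S
  have hq0 : (q : AddMonoid.End V) = 0 := by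
    ext v
    rw [AddMonoid.End.natCast_apply, hqV]; rfl
  have : CharP S q := (CharP.charP_iff_prime_eq_zero hq).mpr (Subtype.ext (by simpa using hq0))
  have : Nontrivial (AddMonoid.End V) := Subtype.val_injective.nontrivial (α := S)
  have : CharP (AddMonoid.End V) q := (CharP.charP_iff_prime_eq_zero hq).mpr hq0
  obtain ⟨k, -, hk⟩ := FiniteField.card S q
  set Q := Fintype.card S with hQ
  refine ⟨Q, hk ▸ Nat.le_self_pow k.pos.ne' q, ?_, ?_⟩
  · -- two independent vectors
    obtain ⟨w, hw⟩ : ∃ w : V, ∀ s : S, (s : AddMonoid.End V) v0 ≠ w := by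
      by_contra! hall
      have hcomm : ∀ r ∈ R, ∀ r' ∈ R, ∀ w : V, r • r' • w = r' • r • w := by
        intro r hr r' hr' w
        obtain ⟨s, rfl⟩ := hall w
        have hs : ∀ r ∈ R, ∀ (s : S) (y : V),
            r • (s : AddMonoid.End V) y = (s : AddMonoid.End V) (r • y) := fun r hr s y => by
          have := DFunLike.congr_fun (hScomm r hr _ s.2).eq y
          simpa only [AddMonoid.End.coe_mul, Function.comp_apply, hρ] using this
        obtain ⟨s1, h1⟩ := hall (r • v0)
        obtain ⟨s2, h2⟩ := hall (r' • v0)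
        have hcom : (s2 : AddMonoid.End V) ((s1 : AddMonoid.End V) v0) =
            (s1 : AddMonoid.End V) ((s2 : AddMonoid.End V) v0) :=
          congrArg (fun u : S => (u : AddMonoid.End V) v0) (mul_comm s2 s1)
        rw [hs r' hr', hs r hr, hs r hr s, hs r' hr' s, ← h2, ← h1, hs r hr, hs r' hr', ← h1, ← h2,
          hcom]
      refine ha2 (eq_of_smul_eq_smul fun w : V => ?_)
      rw [one_smul, mul_smul]
      have h1 : x • a • (x⁻¹ • w) = a⁻¹ • w := by
        rw [← mul_smul, ← mul_smul, hxa]
      rw [hcomm x hxR a haR, smul_inv_smul] at h1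
      rw [h1, smul_inv_smul]
    let f : S × S → V := fun p => (p.1 : AddMonoid.End V) v0 + (p.2 : AddMonoid.End V) w
    have hf : Function.Injective f := by
      rintro ⟨p1, p2⟩ ⟨r1, r2⟩ h
      have h1 : ((p1 - r1 : S) : AddMonoid.End V) v0 + ((p2 - r2 : S) : AddMonoid.End V) w = 0 := by
        show ((p1 : AddMonoid.End V) v0 - (r1 : AddMonoid.End V) v0) +
          ((p2 : AddMonoid.End V) w - (r2 : AddMonoid.End V) w) = 0
        rw [sub_add_sub_comm]; exact sub_eq_zero.mpr h
      by_cases h2 : p2 - r2 = 0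
      · rw [h2, ZeroMemClass.coe_zero] at h1
        have h3 : p1 - r1 = 0 := by
          by_contra h3
          exact hv0 (hinj _ h3 v0 (by simpa using h1))
        rw [sub_eq_zero] at h2 h3
        rw [h2, h3]
      · exfalso
        refine hw (-(p2 - r2)⁻¹ * (p1 - r1)) ?_
        have h4 := congrArg (fun y => (((p2 - r2)⁻¹ : S) : AddMonoid.End V) y) h1
        simp only [map_add, map_zero] at h4
        have h5 : (((p2 - r2)⁻¹ : S) : AddMonoid.End V) (((p2 - r2 : S) : AddMonoid.End V) w)
            = w := by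
          have := congrArg (fun u : S => (u : AddMonoid.End V) w) (inv_mul_cancel₀ h2)
          simpa using this
        rw [h5, add_eq_zero_iff_eq_neg'] at h4
        rw [h4, neg_mul]
        rfl
    have := Nat.card_le_card_of_injective f hf
    rwa [Nat.card_prod, Nat.card_eq_fintype_card (α := S)] at this
  · -- `a ^ Q` is `a` or `a⁻¹`
    have htS : t ^ Q = t :=
      congrArg Subtype.val (FiniteField.pow_card (⟨t, Subring.subset_closure rfl⟩ : S))
    have hsum : ρ (a ^ Q) + ρ (a ^ Q)⁻¹ = t := by
      conv_rhs => rw [← htS, hk]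
      rw [hk, ← inv_pow, map_pow, map_pow, ht,
        add_pow_char_pow_of_commute (p := q) (h := (Commute.refl a).inv_right.map ρ)]
    -- the points where `a ^ Q` and `a` agree form a stable subgroup
    let K : AddSubgroup V :=
      { carrier := {v | a ^ Q • v = a • v}
        zero_mem' := by simp
        add_mem' := fun {v w} (hv : a ^ Q • v = a • v) (hw : a ^ Q • w = a • w) => by
          show a ^ Q • (v + w) = a • (v + w)
          rw [smul_add, smul_add, hv, hw]
        neg_mem' := fun {v} (hv : a ^ Q • v = a • v) => by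
          show a ^ Q • (-v) = a • (-v)
          rw [smul_neg, smul_neg, hv] }
    have hKa : ∀ j : ℤ, ∀ v ∈ K, a ^ j • v ∈ K := fun j v hv => by
      show a ^ Q • a ^ j • v = a • a ^ j • v
      rw [← mul_smul, ← ((Commute.refl a).zpow_left j |>.pow_right Q).eq, mul_smul, hv,
        ← mul_smul, ((Commute.refl a).zpow_left j).eq, mul_smul]
    have hKx : ∀ v ∈ K, x • v ∈ K := fun v hv => by
      show a ^ Q • x • v = a • x • v
      have e1 : a * x = x * a⁻¹ :=
        (mul_inv_eq_iff_eq_mul.mp
          (by rw [← conj_inv, hxa, inv_inv] : x * a⁻¹ * x⁻¹ = a)).symm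
      have e2 : a ^ Q * x = x * (a ^ Q)⁻¹ := by
        rw [← inv_pow]
        exact ((show SemiconjBy x a⁻¹ a from e1.symm).pow_right Q).eq.symm
      rw [← mul_smul, ← mul_smul, e1, e2, mul_smul, mul_smul]
      congr 1
      rw [inv_smul_eq_iff]
      have h4 : a ^ Q • a⁻¹ • v = a⁻¹ • a • v := by
        rw [← hv, ← mul_smul, ← mul_smul, ((Commute.refl a).inv_left.pow_right Q).eq]
      rw [h4, inv_smul_smul]
    rcases hirr K (fun r hr v hv => by
      obtain ⟨j, rfl | rfl⟩ := hR r hr
      · exact hKa j v hv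
      · rw [mul_smul]; exact hKa j _ (hKx v hv)) with h | h
    · -- then `a ^ Q = a⁻¹`
      have h5 : a ^ (Q + 1) = 1 := eq_of_smul_eq_smul fun v : V => by
        rw [one_smul]
        set d := a ^ Q • v - a⁻¹ • v with hd
        have hdK : d ∈ K := by
          show a ^ Q • d = a • d
          have h6 : a ^ Q • v + (a ^ Q)⁻¹ • v = a • v + a⁻¹ • v := DFunLike.congr_fun hsum v
          have h7 : a ^ Q • a ^ Q • v + v = a ^ Q • a • v + a ^ Q • a⁻¹ • v := by
            have := congrArg (fun y => a ^ Q • y) h6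
            simpa [smul_add] using this
          rw [hd, smul_sub, smul_sub, smul_inv_smul, ← mul_smul a (a ^ Q) v, ← pow_succ',
            pow_succ, mul_smul, sub_eq_sub_iff_add_eq_add]
          exact h7
        rw [h, AddSubgroup.mem_bot, hd, sub_eq_zero] at hdK
        rw [pow_succ', mul_smul, hdK, smul_inv_smul]
      exact Nat.le_of_dvd (Nat.succ_pos _) (orderOf_dvd_of_pow_eq_one h5)
    · have h5 : a ^ Q = a := eq_of_smul_eq_smul fun v : V => (h ▸ AddSubgroup.mem_top v : v ∈ K)
      have h7 : 2 ≤ Q := hk ▸ hq.two_le.trans (Nat.le_self_pow k.pos.ne' q)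
      have h6 : a ^ (Q - 1) = 1 := by
        rw [pow_sub a (by omega : 1 ≤ Q), h5, pow_one, mul_inv_cancel]
      exact (Nat.le_of_dvd (by omega) (orderOf_dvd_of_pow_eq_one h6)).trans (by omega)

end Cfsg.Agent.Baer19
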