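import Cfsg.Agent.Lib.PGroup.NormalAbelian
import Cfsg.Agent.Lib.Involution.NormalFour

/-!
# A noncyclic `2`-group without normal four-subgroup has a cyclic subgroup of index two
-/

set_option autoImplicit false

open Subgroup

namespace Cfsg.Agent.Baer19

variable {T : Type*} [Group T] [Finite T]

theorem exists_cyclic_index_two (hT : IsPGroup 2 T) (hnc : ¬ IsCyclic T)
    (hnf : ∀ U : Subgroup T, U.Normal → IsMulCommutative U → (∀ u ∈ U, u ^ 2 = 1) →
      Nat.card U = 2 ^ 2 → False) :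
    ∃ (a i : T) (n : ℕ), (zpowers a).Normal ∧ (zpowers a).index = 2 ∧ orderOf a = 2 ^ (n + 2) ∧
      i = a ^ 2 ^ n ∧ orderOf i = 4 ∧ (∀ x, x * i = i * x → x ∈ zpowers a) ∧
      ∀ x, x ∉ zpowers a → x * i * x⁻¹ = i⁻¹ := by
  obtain ⟨A, hAn, hAc, hself⟩ := PGroup.exists_selfCentralizing_normal_abelian hT
  have hAcyc : IsCyclic A := by
    by_contra h
    obtain ⟨B, -, hB, hBc, hBe, hBcard⟩ := PGroup.exists_normal_elementary_sq_of_abelian hT hAc h
    exact hnf B hB hBc hBe hBcard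
  obtain ⟨a, rfl⟩ : ∃ a : T, zpowers a = A := by
    obtain ⟨g, hg⟩ := isCyclic_iff_exists_zpowers_eq_top.mp hAcyc
    refine ⟨g, ?_⟩
    have := congrArg (Subgroup.map A.subtype) hg
    rwa [MonoidHom.map_zpowers, ← MonoidHom.range_eq_map, range_subtype] at this
  have hconj : ∀ g : T, ∃ k : ℤ, g * a * g⁻¹ = a ^ k := fun g =>
    (mem_zpowers_iff.mp (hAn.conj_mem a (mem_zpowers a) g)).imp fun k hk => hk.symm
  have hcent : ∀ g : T, g * a = a * g → g ∈ zpowers a := fun g hg => by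
    rw [← hself, mem_centralizer_iff]
    intro h hh
    obtain ⟨q, rfl⟩ := mem_zpowers_iff.mp hh
    exact ((show Commute g a from hg).zpow_right q).symm.eq
  obtain ⟨N, hN⟩ := IsPGroup.iff_orderOf.mp hT a
  obtain ⟨n, rfl⟩ : ∃ n, N = n + 2 := by
    refine ⟨N - 2, ?_⟩
    by_contra hlt
    refine hnc ⟨a, fun g => hcent g ?_⟩
    obtain ⟨k, hk⟩ := hconj g
    have ho : orderOf (g * a * g⁻¹) = orderOf a := by
      rw [← orderOf_injective (MulAut.conj g).toMonoidHom (MulAut.conj g).injective a]; rfl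
    rw [← mul_inv_eq_iff_eq_mul]
    rcases Int.even_or_odd k with ⟨m, rfl⟩ | ⟨m, rfl⟩
    · have h1 : a ^ (m + m) = 1 := by
        rw [← orderOf_dvd_iff_zpow_eq_one, hN]
        have : N = 0 ∨ N = 1 := by omega
        rcases this with rfl | rfl
        · simp
        · exact ⟨m, by push_cast; ring⟩
      rw [h1] at hk
      rw [hk, eq_comm]
      have h2 : orderOf a = 1 := by rw [← ho, hk, orderOf_one]
      exact orderOf_eq_one_iff.mp h2
    · have h1 : a ^ (2 * m) = 1 := by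
        rw [← orderOf_dvd_iff_zpow_eq_one, hN]
        have : N = 0 ∨ N = 1 := by omega
        rcases this with rfl | rfl
        · simp
        · exact ⟨m, by push_cast; ring⟩
      rw [hk, zpow_add, h1, one_mul, zpow_one]
  set i := a ^ 2 ^ n with hi
  have hio : orderOf i = 4 := by
    rw [hi, orderOf_pow' _ (pow_ne_zero _ two_ne_zero), hN,
      Nat.gcd_eq_right (pow_dvd_pow 2 (Nat.le_add_right n 2)),
      Nat.pow_div (Nat.le_add_right n 2) two_pos]
    simp
  set z := a ^ 2 ^ (n + 1) with hz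
  have hzo : orderOf z = 2 := by
    rw [hz, orderOf_pow' _ (pow_ne_zero _ two_ne_zero), hN,
      Nat.gcd_eq_right (pow_dvd_pow 2 (Nat.le_succ (n + 1))),
      Nat.pow_div (Nat.le_succ (n + 1)) two_pos]
    simp
  -- the involution of the cyclic group
  have huniq : ∀ q : ℤ, a ^ (2 * q) = 1 → a ^ q = 1 ∨ a ^ q = z := fun q hq => by
    rw [← orderOf_dvd_iff_zpow_eq_one, hN] at hq
    push_cast at hq
    rw [pow_succ'] at hq
    obtain ⟨t, rfl⟩ := (mul_dvd_mul_iff_left (by norm_num : (2 : ℤ) ≠ 0)).mp hq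
    rw [zpow_mul, show a ^ ((2 : ℤ) ^ (n + 1)) = z by
      rw [hz, ← zpow_natCast]; push_cast; rfl]
    rcases Int.even_or_odd t with ⟨m, rfl⟩ | ⟨m, rfl⟩
    · left; rw [← two_mul, zpow_mul, zpow_two, Involution.mul_self_of_orderOf hzo, one_zpow]
    · right
      rw [zpow_add_one, zpow_mul, zpow_two, Involution.mul_self_of_orderOf hzo, one_zpow, one_mul]
  have hzc : z ∈ center T := mem_center_iff.mpr fun g => by
    rw [← mul_inv_eq_iff_eq_mul]
    obtain ⟨q, hq⟩ := mem_zpowers_iff.mp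
      (hAn.conj_mem z (pow_mem (mem_zpowers a) _) g)
    have h1 : orderOf (g * z * g⁻¹) = 2 := by
      rw [← hzo, ← orderOf_injective (MulAut.conj g).toMonoidHom (MulAut.conj g).injective z]; rfl
    rcases huniq q (by
      rw [mul_comm, zpow_mul, hq, zpow_two, Involution.mul_self_of_orderOf h1]) with h | h
    · exact absurd (hq.symm.trans h) (Involution.ne_one_of_orderOf h1)
    · exact hq.symm.trans h
  -- nothing outside centralises `i`
  have hCi : ∀ x, x * i = i * x → x ∈ zpowers a := by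
    by_contra! hcon
    obtain ⟨x0, hx0, hx0A⟩ := hcon
    set C := centralizer ((zpowers i : Subgroup T) : Set T) with hC
    have : (zpowers i).Normal := ⟨fun y hy g => by
      obtain ⟨q, rfl⟩ := mem_zpowers_iff.mp hy
      obtain ⟨k, hk⟩ := hconj g
      refine mem_zpowers_iff.mpr ⟨k * q, ?_⟩
      rw [hi, ← zpow_natCast, ← zpow_mul, ← zpow_mul, ← conj_zpow, hk, ← zpow_mul]
      congr 1
      ring⟩
    have hCn : C.Normal := normal_centralizer
    have hCmem : ∀ x, x ∈ C ↔ x * i = i * x := fun x => by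
      rw [hC, mem_centralizer_iff]
      refine ⟨fun h => (h i (mem_zpowers i)).symm, fun h y hy => ?_⟩
      obtain ⟨q, rfl⟩ := mem_zpowers_iff.mp hy
      exact ((show Commute x i from h).zpow_right q).symm.eq
    obtain ⟨x, hxC, hxA, hx2, hxg, -, -⟩ := PGroup.exists_normal_between hT (A := zpowers a)
      (C := C) (fun hle => hx0A (hle ((hCmem x0).mpr hx0)))
    obtain ⟨k, hk⟩ := hconj x
    obtain ⟨j, hj⟩ := mem_zpowers_iff.mp hx2
    -- `k = 1 + 4 l`
    obtain ⟨l, rfl⟩ : ∃ l : ℤ, k = 1 + 4 * l := by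
      have h1 : a ^ ((2 : ℤ) ^ n * (k - 1)) = 1 := by
        have h2 : x * i * x⁻¹ = i := mul_inv_eq_iff_eq_mul.mpr ((hCmem x).mp hxC)
        rw [hi, ← zpow_natCast, ← conj_zpow, hk, ← zpow_mul] at h2
        push_cast at h2
        rw [mul_sub, zpow_sub, mul_one, mul_comm, h2, mul_inv_cancel]
      rw [← orderOf_dvd_iff_zpow_eq_one, hN] at h1
      push_cast at h1
      rw [pow_add] at h1
      obtain ⟨l, hl⟩ := (mul_dvd_mul_iff_left (pow_ne_zero n (by norm_num : (2 : ℤ) ≠ 0))).mp h1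
      exact ⟨l, by linarith⟩
    have hodd : IsCoprime ((2 : ℤ) ^ (n + 2)) (1 + 2 * l) :=
      IsCoprime.pow_left ⟨-l, 1, by ring⟩
    have hne : ¬ (2 : ℤ) ^ (n + 2) ∣ 4 * l := fun hd => hxA (hcent x (by
      rw [← mul_inv_eq_iff_eq_mul, hk, zpow_add, zpow_one,
        orderOf_dvd_iff_zpow_eq_one.mp (by rw [hN]; push_cast; exact hd), mul_one]))
    have hxinv : x⁻¹ * a * x = a ^ (1 + 4 * l) := by
      rw [← hk]
      have hc : Commute (x ^ 2) a := hj ▸ (Commute.refl a).zpow_left j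
      calc x⁻¹ * a * x = x⁻¹ * (a * x ^ 2) * x⁻¹ := by rw [sq]; group
        _ = _ := by rw [← hc.eq, sq]; group
    -- `x ^ 2` is an even power
    obtain ⟨j', rfl⟩ : ∃ j', j = 2 * j' := by
      rcases Int.even_or_odd j with ⟨m, rfl⟩ | ⟨m, rfl⟩
      · exact ⟨m, (two_mul m).symm⟩
      exfalso
      have h1 : a ^ ((2 * m + 1) * (1 + 4 * l)) = a ^ (2 * m + 1) := by
        rw [mul_comm, zpow_mul, ← hk, conj_zpow, hj, sq]; group
      have h2 : a ^ ((2 * m + 1) * (4 * l)) = 1 := by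
        rw [show (2 * m + 1) * (4 * l) = (2 * m + 1) * (1 + 4 * l) - (2 * m + 1) by ring,
          zpow_sub, h1, mul_inv_cancel]
      rw [← orderOf_dvd_iff_zpow_eq_one, hN] at h2
      push_cast at h2
      exact hne ((IsCoprime.pow_left ⟨-m, 1, by ring⟩).dvd_of_dvd_mul_left h2)
    obtain ⟨u, v, huv⟩ := hodd.symm
    set m := -(j' * u) with hm
    set e := x * a ^ m with he
    have hsq : ∀ p : ℤ, x * a ^ p * (x * a ^ p) = a ^ (2 * j' + 2 * (p * (1 + 2 * l))) := fun p => by
      have h1 : x⁻¹ * a ^ p * x = a ^ ((1 + 4 * l) * p) := by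
        rw [zpow_mul, ← hxinv, show x⁻¹ * a * x = x⁻¹ * a * x⁻¹⁻¹ by rw [inv_inv], conj_zpow,
          inv_inv]
      calc x * a ^ p * (x * a ^ p) = x ^ 2 * (x⁻¹ * a ^ p * x) * a ^ p := by rw [sq]; group
        _ = _ := by
          rw [h1, ← hj, ← zpow_add, ← zpow_add]
          congr 1
          ring
    have hee : e * e = 1 := by
      rw [he, hsq, ← orderOf_dvd_iff_zpow_eq_one, hN]
      push_cast
      exact ⟨2 * j' * v, by rw [hm]; linear_combination (-2 * j') * huv⟩
    have heA : e ∉ zpowers a := fun h => hxA (by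
      have := mul_mem h (inv_mem (zpow_mem (mem_zpowers a) m))
      rwa [he, mul_inv_cancel_right] at this)
    have heo : orderOf e = 2 := Involution.orderOf_eq_two_iff'.mpr
      ⟨hee, fun h => heA (h ▸ one_mem _)⟩
    have hez : e ≠ z := fun h => heA (h ▸ pow_mem (mem_zpowers a) _)
    obtain ⟨U, hU, hUc, hU2⟩ := Involution.exists_four_of_conj hzo heo hzc hez fun g => by
      obtain ⟨p, hp⟩ : ∃ p : ℤ, g * e * g⁻¹ = x * a ^ p := by
        have h1 : ((g * e * g⁻¹ : T) : T ⧸ zpowers a) = (x : T ⧸ zpowers a) := by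
          have h2 : ((g * x * g⁻¹ * x⁻¹ : T) : T ⧸ zpowers a) = 1 :=
            (QuotientGroup.eq_one_iff _).mpr (hxg g)
          have h3 : ((a ^ m : T) : T ⧸ zpowers a) = 1 :=
            (QuotientGroup.eq_one_iff _).mpr (zpow_mem (mem_zpowers a) m)
          simp only [QuotientGroup.mk_mul, QuotientGroup.mk_inv, he] at h2 ⊢
          rw [h3, mul_one]
          exact mul_inv_eq_one.mp h2
        rw [eq_comm, QuotientGroup.eq] at h1
        obtain ⟨p, hp⟩ := mem_zpowers_iff.mp h1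
        exact ⟨p, by rw [hp, mul_inv_cancel_left]⟩
      have h1 : a ^ (2 * j' + 2 * (p * (1 + 2 * l))) = 1 := by
        rw [← hsq, ← hp, show g * e * g⁻¹ * (g * e * g⁻¹) = g * (e * e) * g⁻¹ by group, hee]
        group
      have h2 : a ^ (2 * j' + 2 * (m * (1 + 2 * l))) = 1 := by rw [← hsq, ← he]; exact hee
      have h3 : a ^ (2 * ((p - m) * (1 + 2 * l))) = 1 := by
        rw [show 2 * ((p - m) * (1 + 2 * l)) = (2 * j' + 2 * (p * (1 + 2 * l))) -
          (2 * j' + 2 * (m * (1 + 2 * l))) by ring, zpow_sub, h1, h2, inv_one, one_mul]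
      have h4 : a ^ (2 * (p - m)) = 1 := by
        rw [← orderOf_dvd_iff_zpow_eq_one, hN] at h3 ⊢
        push_cast at h3 ⊢
        rw [← mul_assoc] at h3
        exact hodd.dvd_of_dvd_mul_right h3
      have hge : g * e * g⁻¹ = e * a ^ (p - m) := by
        rw [hp, he, mul_assoc, ← zpow_add, add_sub_cancel]
      rcases huniq _ h4 with h | h
      · left; rw [hge, h, mul_one]
      · right; rw [hge, h]; exact mem_center_iff.mp hzc e
    refine hnf U hU ⟨⟨fun p q => Subtype.ext ?_⟩⟩ (fun w hw => by rw [sq, hU2 w hw]) hUc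
    have := hU2 _ (mul_mem p.2 q.2)
    calc (p : T) * q = ((p : T) * q)⁻¹ := (inv_eq_of_mul_eq_one_right this).symm
      _ = (q : T) * p := by
        rw [mul_inv_rev, inv_eq_of_mul_eq_one_right (hU2 p p.2),
          inv_eq_of_mul_eq_one_right (hU2 q q.2)]
  -- the elements outside invert `i`
  have hinv : ∀ x, x ∉ zpowers a → x * i * x⁻¹ = i⁻¹ := fun x hx => by
    obtain ⟨k, hk⟩ := hconj x
    have h1 : x * i * x⁻¹ = i ^ k := by
      rw [hi, ← conj_pow, hk, ← zpow_natCast, ← zpow_natCast, ← zpow_mul, ← zpow_mul, mul_comm]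
    have h2 : orderOf (i ^ k) = 4 := by
      rw [← h1, ← hio, ← orderOf_injective (MulAut.conj x).toMonoidHom (MulAut.conj x).injective i]
      rfl
    have hne : i ^ k ≠ i := fun h => hx (hCi x (mul_inv_eq_iff_eq_mul.mp (h1.trans h)))
    have hk' : i ^ k = i ^ (k % 4) := by
      have := zpow_mod_orderOf i k
      rw [hio] at this
      exact_mod_cast this.symm
    rw [h1]
    have h4 := Int.emod_nonneg k (by norm_num : (4 : ℤ) ≠ 0)
    have h5 := Int.emod_lt_of_pos k (by norm_num : (0 : ℤ) < 4)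
    have h6 : i ^ (4 : ℤ) = 1 := by
      rw [← orderOf_dvd_iff_zpow_eq_one, hio]; rfl
    rw [hk'] at h2 hne ⊢
    interval_cases hkk : k % 4
    · simp at h2
    · exact absurd (zpow_one i) hne
    · exfalso
      have : orderOf (i ^ (2 : ℤ)) ∣ 2 := orderOf_dvd_of_pow_eq_one (by
        rw [← zpow_natCast, ← zpow_mul]; exact h6)
      rw [h2] at this
      norm_num at this
    · rw [← zpow_neg_one, zpow_eq_zpow_iff_modEq, hio]; decide
  obtain ⟨x, hx⟩ : ∃ x, x ∉ zpowers a := by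
    by_contra! hall
    exact hnc ⟨a, hall⟩
  refine ⟨a, i, n, hAn, index_eq_two_iff_exists_notMem_and.mpr ⟨x, hx, fun b => ?_⟩, hN, hi, hio, hCi, hinv⟩
  by_cases hb : b ∈ zpowers a
  · exact Or.inr hb
  · refine Or.inl (hCi _ (mul_inv_eq_iff_eq_mul.mp ?_))
    calc b * x * i * (b * x)⁻¹ = b * (x * i * x⁻¹) * b⁻¹ := by group
      _ = (b * i * b⁻¹)⁻¹ := by rw [hinv x hx]; group
      _ = i := by rw [hinv b hb, inv_inv]

end Cfsg.Agent.Baer19
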