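import Cfsg.Agent.Baer19.Monomial
import Cfsg.Agent.Baer19.TwoGroup
import Cfsg.Agent.Baer19.Field
import Cfsg.Agent.Lib.Involution.IndexTwo
import Mathlib.GroupTheory.FixedPointFree
import Mathlib.Combinatorics.Enumerative.DoubleCounting

/-!
# Orbits of `2`-power size

No minimal example exists for `r = 2`: the Sylow `2`-subgroup would be quaternion, every element
of order four would invert each element of odd order with large fixed-point space, and a count of
fixed points gives a contradiction.
-/

set_option autoImplicit false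
set_option linter.unusedSectionVars false

open Subgroup MulAction

namespace Cfsg.Agent.Baer19

universe u

/-- Thompson's transfer lemma for an element with central square. -/
theorem thompson_transfer' {G : Type u} [Group G] [Finite G] (P : Sylow 2 G) (Q : Subgroup G)
    (hQP : Q ≤ (P : Subgroup G)) (hQi : Q.relIndex (P : Subgroup G) = 2) {u : G}
    (hu : u * u ∈ Q) (huc : u * u ∈ center G) (hno : ∀ g : G, g * u * g⁻¹ ∉ Q) :
    ∃ M : Subgroup G, M.Normal ∧ M.index = 2 ∧ u ∉ M := by
  classical
  have : Fact (Nat.Prime 2) := ⟨Nat.prime_two⟩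
  let _ := Fintype.ofFinite (G ⧸ Q)
  let σ : G →* Equiv.Perm (G ⧸ Q) := MulAction.toPermHom G (G ⧸ Q)
  let f : G →* ℤˣ := Equiv.Perm.sign.comp σ
  have hfix : Fintype.card (Function.fixedPoints (σ u)) = 0 := by
    rw [Fintype.card_eq_zero_iff]
    refine ⟨fun ⟨q, hq⟩ => ?_⟩
    induction q using QuotientGroup.induction_on with
    | H g =>
      have h1 : ((u * g : G) : G ⧸ Q) = (g : G ⧸ Q) := hq
      rw [eq_comm, QuotientGroup.eq] at h1
      exact hno g⁻¹ (by rw [inv_inv, mul_assoc]; exact h1)
  have hu2 : σ u ^ 2 = 1 := by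
    rw [sq, ← map_mul]
    ext q
    induction q using QuotientGroup.induction_on with
    | H g =>
      show ((u * u * g : G) : G ⧸ Q) = (g : G ⧸ Q)
      rw [eq_comm, QuotientGroup.eq, ← mem_center_iff.mp huc g, inv_mul_cancel_left]
      exact hu
  obtain ⟨m, hm⟩ : ∃ m, Fintype.card (G ⧸ Q) = 2 * (2 * m + 1) := by
    obtain ⟨m, hm⟩ : Odd (P : Subgroup G).index :=
      Nat.not_even_iff_odd.mp fun h => P.not_dvd_index (even_iff_two_dvd.mp h)
    refine ⟨m, ?_⟩
    rw [← Nat.card_eq_fintype_card, ← index_eq_card, ← relIndex_mul_index hQP, hQi, hm]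
  have hfu : f u = -1 := by
    show Equiv.Perm.sign (σ u) = -1
    rw [Equiv.Perm.sign_of_pow_two_eq_one hu2, hfix, hm,
      show (2 * (2 * m + 1) - 0) / 2 = 2 * m + 1 by omega]
    exact Odd.neg_one_pow ⟨m, rfl⟩
  refine ⟨f.ker, inferInstance, ?_, fun h => ?_⟩
  · rw [Subgroup.index_ker, MonoidHom.range_eq_top.mpr, Subgroup.card_top]
    · rw [Nat.card_eq_fintype_card, Fintype.card_units_int]
    · intro z
      rcases Int.units_eq_one_or z with rfl | rfl
      · exact ⟨1, map_one f⟩
      · exact ⟨u, hfu⟩
  · rw [MonoidHom.mem_ker, hfu] at h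
    exact absurd h (by decide)

theorem count_arith {m L α : ℕ} (h3 : 2 * ((m + 2) * (L + 3 + 1)) + 2 ≤ (m + 3) * α + (m + 3) * 2)
    (h5 : α ≤ L + 4) : m = 0 ∧ L = 0 := by
  have h8 : (m + 3) * α ≤ (m + 3) * (L + 4) := Nat.mul_le_mul_left _ h5
  have h9 : 0 ≤ m * L := Nat.zero_le _
  constructor <;> nlinarith

variable {H V : Type u} [Group H] [AddCommGroup V] [DistribMulAction H V]
  [Finite H] [Finite V] [FaithfulSMul H V]

theorem MinCtx.not_index_two {r : ℕ} (c : MinCtx r H V) (M : Subgroup H) (hM : M.index = 2) :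
    False := by
  have : M.Normal := normal_of_index_eq_two hM
  have : IsCyclic (H ⧸ M) := isCyclic_of_prime_card (p := 2) (by rw [← index_eq_card, hM])
  have h1 : commutator H ≤ M := by
    rw [← Subgroup.Normal.quotient_commutative_iff_commutator_le]
    let := IsCyclic.commGroup (α := H ⧸ M)
    exact ⟨⟨mul_comm⟩⟩
  rw [c.perfect, top_le_iff] at h1
  rw [h1, index_top] at hM
  norm_num at hM

set_option maxHeartbeats 1600000 in
/-- The case `r = 2` does not occur. -/
theorem MinCtx.false_two (c : MinCtx 2 H V) : False := by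
  classical
  have h2 : Fact (Nat.Prime 2) := ⟨Nat.prime_two⟩
  obtain ⟨R⟩ := (inferInstance : Nonempty (Sylow 2 H))
  obtain ⟨q, hq, hq2, hqH, -, hqV⟩ := c.exists_prime_exponent
  have hnz : ∀ v : V, (2 : ℕ) • v = 0 → v = 0 := fun v hv =>
    AddMonoid.addOrderOf_eq_one_iff.mp (Nat.eq_one_of_dvd_coprimes
      ((Nat.coprime_primes hq Nat.prime_two).mpr hq2) (addOrderOf_dvd_of_nsmul_eq_zero (hqV v))
      (addOrderOf_dvd_of_nsmul_eq_zero hv))
  have hnc : ¬ IsCyclic (R : Subgroup H) := fun h => by
    obtain ⟨M, hM⟩ := Involution.exists_index_two_of_cyclic_sylow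
      (even_iff_two_dvd.mpr c.dvd_card) R h
    exact c.not_index_two M hM
  obtain ⟨a0, i0, n, -, hidx, hao0, hi0, hio0, hCi0, hinv0⟩ :=
    exists_cyclic_index_two R.2 hnc (fun U hU hUc hU2 hUcard =>
      c.not_normal_elementary R U (hEn := hU) hUc hU2 hUcard)
  set a : H := (a0 : H) with ha
  set i : H := (i0 : H) with hi
  set A : Subgroup H := zpowers a with hA
  have hmap : (zpowers a0).map (R : Subgroup H).subtype = A := MonoidHom.map_zpowers _ _
  have hAR : A ≤ (R : Subgroup H) := zpowers_le.mpr a0.2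
  have hmemA : ∀ x : (R : Subgroup H), x ∈ zpowers a0 ↔ (x : H) ∈ A := fun x => by
    rw [← hmap]
    exact ⟨fun h => mem_map_of_mem _ h,
      fun ⟨y, hy, hyx⟩ => Subtype.ext hyx ▸ hy⟩
  have hao : orderOf a = 2 ^ (n + 2) := by rw [ha, orderOf_coe]; exact hao0
  have hio : orderOf i = 4 := by rw [hi, orderOf_coe]; exact hio0
  have hia : i = a ^ 2 ^ n := by rw [hi, hi0]; rfl
  have hiA : i ∈ A := hia ▸ pow_mem (mem_zpowers a) _
  set z : H := i * i with hz
  have hzA : z ∈ A := mul_mem hiA hiA
  have hzo : orderOf z = 2 := by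
    rw [hz, ← sq, orderOf_pow' _ two_ne_zero, hio]; norm_num
  have hz1 : z ≠ 1 := Involution.ne_one_of_orderOf hzo
  have hCiR : ∀ x ∈ (R : Subgroup H), x * i = i * x → x ∈ A := fun x hx h =>
    (hmemA ⟨x, hx⟩).mp (hCi0 ⟨x, hx⟩ (Subtype.ext h))
  have hinvR : ∀ x ∈ (R : Subgroup H), x ∉ A → x * i * x⁻¹ = i⁻¹ := fun x hx h =>
    congrArg Subtype.val (hinv0 ⟨x, hx⟩ fun h' => h ((hmemA _).mp h'))
  have hi4 : i * i * (i * i) = 1 := by
    rw [← sq, ← sq, ← pow_mul, show 2 * 2 = 4 from rfl, ← hio, pow_orderOf_eq_one]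
  have hzinv : (i⁻¹ * i⁻¹ : H) = z := by
    rw [← mul_inv_rev]
    exact inv_eq_of_mul_eq_one_right hi4
  have hzR : ∀ x ∈ (R : Subgroup H), x * z = z * x := fun x hx => by
    by_cases hxA : x ∈ A
    · exact congrArg Subtype.val (mul_comm' (⟨x, hxA⟩ : A) ⟨z, hzA⟩)
    · rw [← mul_inv_eq_iff_eq_mul]
      calc x * z * x⁻¹ = (x * i * x⁻¹) * (x * i * x⁻¹) := by rw [hz]; group
        _ = z := by rw [hinvR x hx hxA, hzinv]
  have hzfix : ∀ v : V, z • v = v → v = 0 := fun v hv => c.fixed_eq_zero R hz1 hzR hv
  have hzneg : ∀ v : V, z • v = -v := fun v => by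
    have h : z • (z • v + v) = z • v + v := by
      rw [smul_add, ← mul_smul, Involution.mul_self_of_orderOf hzo, one_smul, add_comm]
    exact eq_neg_of_add_eq_zero_left (hzfix _ h)
  have hzc : ∀ g : H, g * z = z * g := fun g => eq_of_smul_eq_smul fun v : V => by
    rw [mul_smul g z, mul_smul z g, hzneg, hzneg, smul_neg]
  have hzcen : z ∈ center H := mem_center_iff.mpr hzc
  have hrel : A.relIndex (R : Subgroup H) = 2 := by
    refine Eq.trans ?_ hidx
    rw [← hmap, relIndex, subgroupOf,
      comap_map_eq_self_of_injective (R : Subgroup H).subtype_injective]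
  have hAcard : Nat.card A = 2 ^ (n + 2) := by rw [Nat.card_zpowers, hao]
  have hRcard : Nat.card (R : Subgroup H) = 2 * Nat.card A := by
    have := card_mul_index (A.subgroupOf (R : Subgroup H))
    rw [← relIndex, hrel, Nat.card_congr (subgroupOfEquivOfLe hAR).toEquiv] at this
    omega
  -- the only involution is `z`
  have huniqA : ∀ b ∈ A, b * b = 1 → b ≠ 1 → b = z := fun b hb hbb hb1 => by
    have := Involution.involution_unique_of_isCyclic (H := A) (a := ⟨b, hb⟩) (b := ⟨z, hzA⟩)
      (by rw [← orderOf_coe]; exact Involution.orderOf_eq_two_iff'.mpr ⟨hbb, hb1⟩)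
      (by rw [← orderOf_coe]; exact hzo)
    exact congrArg Subtype.val this
  have huniq : ∀ t : H, t * t = 1 → t ≠ 1 → t = z := by
    intro t htt ht1
    by_contra htz
    obtain ⟨M, -, hM, -⟩ := Involution.thompson_transfer R A hAR hrel htt fun g hg => by
      have h1 : g * t * g⁻¹ = z := huniqA _ hg
        (by rw [show g * t * g⁻¹ * (g * t * g⁻¹) = g * (t * t) * g⁻¹ by group, htt]; group)
        (fun h => ht1 (conj_eq_one_iff.mp h))
      rw [mul_inv_eq_iff_eq_mul, ← hzc] at h1
      exact htz (mul_left_cancel h1)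
    exact c.not_index_two M hM
  -- every element of even order fixes only zero
  have heven : ∀ g : H, 2 ∣ orderOf g → ∀ v : V, g • v = v → v = 0 := by
    intro g hg v hv
    obtain ⟨k, hk⟩ := hg
    have hk0 : k ≠ 0 := fun h => by rw [h, mul_zero] at hk; exact (orderOf_pos g).ne' hk
    have h1 : g ^ k = z := huniq _ (by rw [← sq, ← pow_mul, mul_comm, ← hk, pow_orderOf_eq_one])
      (pow_ne_one_of_lt_orderOf hk0 (by omega))
    refine hzfix v ?_
    rw [← h1]
    exact mem_stabilizer_iff.mp (pow_mem (mem_stabilizer_iff.mpr hv) k)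
  have hstab : ∀ v : V, v ≠ 0 → ∀ g : H, g • v = v → ¬ 2 ∣ orderOf g := fun v hv g hg h =>
    hv (heven g h v hg)
  have htwo : ∀ g ∈ (R : Subgroup H), ∀ v : V, v ≠ 0 → g • v = v → g = 1 := by
    intro g hg v hv hgv
    obtain ⟨k, hk⟩ := IsPGroup.iff_orderOf.mp R.2 ⟨g, hg⟩
    rw [← Subgroup.orderOf_coe] at hk
    rcases k with _ | k
    · exact orderOf_eq_one_iff.mp (by rw [hk, pow_zero])
    · exact absurd (hk ▸ dvd_pow_self 2 k.succ_ne_zero) (hstab v hv g hgv)
  have hindex : ∀ v : V, v ≠ 0 → (stabilizer H v).index = Nat.card (R : Subgroup H) := by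
    intro v hv
    rw [← relIndex_sylow c.pow R v, relIndex, index_eq_card]
    have : (stabilizer H v).subgroupOf (R : Subgroup H) = ⊥ := by
      rw [eq_bot_iff]
      intro g hg
      exact mem_bot.mpr (Subtype.ext (htwo g g.2 v hv hg))
    rw [this]
    exact (Nat.card_congr QuotientGroup.quotientBot.toEquiv)
  have hi4mem : ∀ b ∈ A, orderOf b = 4 → b = i ∨ b = i⁻¹ := by
    intro b hb hbo
    have hbb : b * b = z := huniqA _ (mul_mem hb hb)
      (by rw [← sq, ← sq, ← pow_mul, show 2 * 2 = 4 from rfl, ← hbo, pow_orderOf_eq_one])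
      (fun h => by
        have := orderOf_dvd_of_pow_eq_one (show b ^ 2 = 1 by rw [sq]; exact h)
        rw [hbo] at this; norm_num at this)
    have hc : Commute b i⁻¹ := congrArg Subtype.val (mul_comm' (⟨b, hb⟩ : A) ⟨i⁻¹, inv_mem hiA⟩)
    have hu : b * i⁻¹ * (b * i⁻¹) = 1 := by
      rw [← sq, hc.mul_pow, sq, sq, hbb, hzinv, Involution.mul_self_of_orderOf hzo]
    by_cases hu1 : b * i⁻¹ = 1
    · exact Or.inl (mul_inv_eq_one.mp hu1)
    · right
      have := huniqA _ (mul_mem hb (inv_mem hiA)) hu hu1
      rw [mul_inv_eq_iff_eq_mul, ← hzinv, inv_mul_cancel_right] at this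
      exact this
  have hiA_of : ∀ b ∈ A, ¬ (b = 1 ∨ b = z) → i ∈ zpowers b := by
    intro b hb hb12
    obtain ⟨k, hk⟩ := IsPGroup.iff_orderOf.mp R.2 ⟨b, hAR hb⟩
    rw [← Subgroup.orderOf_coe] at hk
    rcases k with _ | _ | k
    · exact absurd (Or.inl (orderOf_eq_one_iff.mp (by rw [hk, pow_zero]))) hb12
    · have hbb := Involution.orderOf_eq_two_iff'.mp (by simpa using hk)
      exact absurd (Or.inr (huniqA b hb hbb.1 hbb.2)) hb12
    · have h1 : orderOf (b ^ 2 ^ k) = 4 := by
        rw [orderOf_pow' _ (pow_ne_zero _ two_ne_zero)]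
        rw [hk, Nat.gcd_eq_right (pow_dvd_pow 2 (by omega)), Nat.pow_div (by omega) two_pos,
          show k + 1 + 1 - k = 2 by omega]
        norm_num
      rcases hi4mem _ (pow_mem hb _) h1 with h | h
      · exact h ▸ pow_mem (mem_zpowers b) _
      · exact inv_mem_iff.mp (h ▸ pow_mem (mem_zpowers b) _)
  -- the centraliser of `i` is `A`
  have hT : ∀ h : H, h * i = i * h → h ∈ A := by
    set T := centralizer ({i} : Set H) with hTdef
    have hmemT : ∀ x, x ∈ T ↔ x * i = i * x := fun x => mem_centralizer_singleton_iff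
    have hAT : A ≤ T := fun b hb =>
      (hmemT b).mpr (congrArg Subtype.val (mul_comm' (⟨b, hb⟩ : A) ⟨i, hiA⟩))
    -- `A` is a Sylow subgroup of the centraliser
    let A' : Subgroup T := A.subgroupOf T
    have hA'card : Nat.card A' = Nat.card A := Nat.card_congr (subgroupOfEquivOfLe hAT).toEquiv
    have hA'p : IsPGroup 2 A' := IsPGroup.of_card (n := n + 2) (hA'card.trans hAcard)
    obtain ⟨S, hS⟩ := hA'p.exists_le_sylow
    have hSle : Nat.card S ≤ Nat.card A := by
      obtain ⟨g, hg⟩ : ∃ g : H, ∀ s : T, s ∈ S → g * (s : H) * g⁻¹ ∈ (R : Subgroup H) := by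
        obtain ⟨Q, hQ⟩ := ((S.2.map T.subtype)).exists_le_sylow
        obtain ⟨g, hg⟩ := exists_smul_eq H Q R
        refine ⟨g, fun s hs => ?_⟩
        rw [← hg]
        exact ⟨(s : H), hQ (mem_map_of_mem _ hs), rfl⟩
      set i' := g * i * g⁻¹ with hi'
      have hi'R : i' ∈ (R : Subgroup H) := hg ⟨i, hAT hiA⟩ (hS hiA)
      have hi'o : orderOf i' = 4 := by
        rw [hi', ← hio, ← orderOf_injective (MulAut.conj g).toMonoidHom (MulAut.conj g).injective i]
        rfl
      let f : S → (centralizer ({i'} : Set H) ⊓ (R : Subgroup H) : Subgroup H) := fun s =>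
        ⟨g * ((s : T) : H) * g⁻¹, mem_centralizer_singleton_iff.mpr (by
          rw [hi', show g * ((s : T) : H) * g⁻¹ * (g * i * g⁻¹) = g * (((s : T) : H) * i) * g⁻¹ by
            group, (hmemT _).mp (s : T).2]
          group), hg _ s.2⟩
      have hf : Function.Injective f := fun s t h => by
        have h1 : g * ((s : T) : H) * g⁻¹ = g * ((t : T) : H) * g⁻¹ := congrArg Subtype.val h
        exact Subtype.ext (Subtype.ext (mul_left_cancel (mul_right_cancel h1)))
      refine (Nat.card_le_card_of_injective f hf).trans ?_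
      by_cases hi'A : i' ∈ A
      · refine Nat.le_of_dvd Nat.card_pos (card_dvd_of_le fun x hx => ?_)
        refine hCiR x hx.2 ?_
        rcases hi4mem i' hi'A hi'o with h | h
        · rw [h] at hx; exact mem_centralizer_singleton_iff.mp hx.1
        · rw [h] at hx
          exact (Commute.inv_right_iff.mp
            (show Commute x i⁻¹ from mem_centralizer_singleton_iff.mp hx.1)).eq
      · -- then the centraliser meets `A` in `⟨z⟩`
        set K := centralizer ({i'} : Set H) ⊓ (R : Subgroup H) with hK
        have h1 : Nat.card ((A.subgroupOf K)) ≤ 2 := by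
          refine (Nat.card_le_card_of_injective
            (fun b : A.subgroupOf K => (if ((b : K) : H) = 1 then (0 : Fin 2) else 1)) ?_).trans
            (Nat.card_fin 2).le
          have hb : ∀ b : A.subgroupOf K, ((b : K) : H) = 1 ∨ ((b : K) : H) = z := by
            intro b
            by_contra hcon
            have hib := hiA_of _ b.2 hcon
            have hc : i ∈ centralizer ({i'} : Set H) := by
              refine (zpowers_le.mpr ?_) hib
              exact (b : K).2.1
            exact hi'A (hCiR i' hi'R (mem_centralizer_singleton_iff.mp hc).symm)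
          intro b b' hbb'
          refine Subtype.ext (Subtype.ext ?_)
          rcases hb b with e | e <;> rcases hb b' with e' | e' <;>
            simp [e, e', hz1] at hbb' ⊢
        have h2 : (A.subgroupOf K).index ≤ 2 := by
          show A.relIndex K ≤ 2
          exact (relIndex_le_of_le_right inf_le_right (by rw [hrel]; norm_num)).trans hrel.le
        have h3 : Nat.card K ≤ 2 * 2 := by
          rw [← (A.subgroupOf K).card_mul_index]; exact Nat.mul_le_mul h1 h2
        rw [hAcard]
        exact h3.trans (by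
          rw [pow_add]
          exact Nat.le_mul_of_pos_left _ (Nat.two_pow_pos n))
    have hSA : (S : Subgroup T) = A' :=
      (eq_of_le_of_card_ge hS (by rw [hA'card]; exact hSle)).symm
    have hScyc : IsCyclic (S : Subgroup T) := by
      rw [hSA]; exact (subgroupOfEquivOfLe hAT).isCyclic.mpr inferInstance
    have hev : 2 ∣ Nat.card T := by
      refine dvd_trans ?_ (card_subgroup_dvd_card A')
      rw [hA'card, hAcard]; exact dvd_pow_self 2 (by omega)
    have hcomp := IsCyclic.isComplement' (P := S)
      ((Nat.minFac_eq_two_iff _).mpr hev) hScyc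
    set O := (MonoidHom.transferSylow S (IsCyclic.normalizer_le_centralizer
      ((Nat.minFac_eq_two_iff _).mpr hev) hScyc)).ker with hO
    -- the complement fixes every vector
    have hOdd : ∀ o ∈ O, ¬ 2 ∣ orderOf o := fun o ho h =>
      MonoidHom.not_dvd_card_ker_transferSylow S _ (h.trans (orderOf_dvd_natCard O ho))
    have hOfix : ∀ o ∈ O, o = 1 := by
      intro o ho
      refine Subtype.ext (eq_of_smul_eq_smul fun v : V => ?_)
      rw [OneMemClass.coe_one, one_smul]
      by_cases hv : v = 0
      · rw [hv, smul_zero]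
      set Tv := (stabilizer H v).subgroupOf T with hTv
      have hTvO : Tv ≤ O := by
        intro x hx
        have hxo : ¬ 2 ∣ orderOf x := by
          rw [← Subgroup.orderOf_coe]; exact hstab v hv _ hx
        have h1 : (MonoidHom.transferSylow S (IsCyclic.normalizer_le_centralizer
            ((Nat.minFac_eq_two_iff _).mpr hev) hScyc)) x = 1 := by
          set y := (MonoidHom.transferSylow S (IsCyclic.normalizer_le_centralizer
            ((Nat.minFac_eq_two_iff _).mpr hev) hScyc)) x with hy
          obtain ⟨k, hk⟩ := IsPGroup.iff_orderOf.mp S.2 y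
          have h2 : orderOf y ∣ orderOf x := orderOf_map_dvd _ x
          rcases k with _ | k
          · exact orderOf_eq_one_iff.mp (by rw [hk, pow_zero])
          · exact absurd ((dvd_pow_self 2 k.succ_ne_zero).trans (hk ▸ h2)) hxo
        exact MonoidHom.mem_ker.mpr h1
      have h1 : Tv.index ≤ 2 * Nat.card A := by
        show (stabilizer H v).relIndex T ≤ _
        rw [← hRcard, ← hindex v hv]
        exact relIndex_le_index' _ _
      have h2 : Nat.card O * Nat.card A = Nat.card T := by
        rw [← hA'card, ← hSA]; exact hcomp.card_mul_card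
      have h3 := Tv.card_mul_index
      rw [← h2] at h3
      have h4 : Nat.card O ≤ 2 * Nat.card Tv := by
        refine Nat.le_of_mul_le_mul_right ?_ (Nat.card_pos (α := A))
        rw [← h3]
        calc Nat.card Tv * Tv.index ≤ Nat.card Tv * (2 * Nat.card A) := Nat.mul_le_mul_left _ h1
          _ = _ := by ring
      obtain ⟨t, ht⟩ := card_dvd_of_le hTvO
      have ht2 : t ≤ 2 := by
        refine Nat.le_of_mul_le_mul_left ?_ (Nat.card_pos (α := Tv))
        rw [← ht, mul_comm]; exact h4
      have hodd : ¬ 2 ∣ Nat.card O := MonoidHom.not_dvd_card_ker_transferSylow S _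
      have ht1 : t = 1 := by
        interval_cases t
        · exact absurd (ht.trans (mul_zero _)) Nat.card_pos.ne'
        · rfl
        · exact absurd ⟨Nat.card Tv, by rw [ht, mul_comm]⟩ hodd
      have := eq_of_le_of_card_ge hTvO (by rw [ht, ht1, mul_one])
      exact (this ▸ ho : o ∈ Tv)
    intro h hh
    have htop : (⊤ : Subgroup T) ≤ A' := by
      rw [← hSA]
      have hO1 : O = ⊥ := (eq_bot_iff_forall _).mpr hOfix
      have h5 : IsComplement' (⊥ : Subgroup T) (S : Subgroup T) := hO1 ▸ hcomp
      rw [isComplement'_bot_left] at h5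
      exact h5.ge
    exact htop (mem_top (⟨h, (hmemT h).mpr hh⟩ : T))
  -- elements of order four outside `A`
  obtain ⟨x, hxR, hxA⟩ : ∃ x ∈ (R : Subgroup H), x ∉ A := by
    by_contra! hall
    have := relIndex_eq_one.mpr hall
    omega
  have hout : ∀ y ∈ (R : Subgroup H), y ∉ A → y * y = z := by
    intro y hy hyA
    have hy2 : y * y ∈ A := by
      have := mul_self_mem_of_index_two hidx ⟨y, hy⟩
      exact (hmemA _).mp this
    by_contra hne
    by_cases h1 : y * y = 1
    · by_cases hy1 : y = 1
      · exact hyA (hy1 ▸ one_mem A)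
      · exact hyA (huniq y h1 hy1 ▸ hzA)
    · have hib := hiA_of _ hy2 (fun h => h.elim h1 hne)
      have hc : y * i = i * y := by
        have h3 : i ∈ centralizer ({y} : Set H) := (zpowers_le.mpr
          (mem_centralizer_singleton_iff.mpr (mul_assoc y y y))) hib
        exact (mem_centralizer_singleton_iff.mp h3).symm
      exact hyA (hCiR y hy hc)
  -- such elements commute with no nontrivial element of odd order
  have hodd_i : ∀ h : H, ¬ 2 ∣ orderOf h → h * i = i * h → h = 1 := by
    intro h hodd hh
    obtain ⟨k, hk⟩ := IsPGroup.iff_orderOf.mp R.2 ⟨h, hAR (hT h hh)⟩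
    rw [← Subgroup.orderOf_coe] at hk
    rcases k with _ | k
    · exact orderOf_eq_one_iff.mp (by rw [hk, pow_zero])
    · exact absurd (hk ▸ dvd_pow_self 2 k.succ_ne_zero) hodd
  have hodd_out : ∀ y ∈ (R : Subgroup H), y ∉ A → ∀ h : H, ¬ 2 ∣ orderOf h → h * y = y * h →
      h = 1 := by
    intro y hy hyA h hodd hh
    obtain ⟨g, hg⟩ : ∃ g : H, g * y * g⁻¹ ∈ A := by
      by_contra! hno
      obtain ⟨M, -, hM, -⟩ := thompson_transfer' R A hAR hrel (u := y)
        (hout y hy hyA ▸ hzA) (hout y hy hyA ▸ hzcen) hno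
      exact c.not_index_two M hM
    have hyo : orderOf (g * y * g⁻¹) = 4 := by
      refine orderOf_eq_prime_pow (p := 2) (n := 1) ?_ ?_
      · rw [pow_one, conj_pow, conj_eq_one_iff, sq, hout y hy hyA]
        exact hz1
      · rw [conj_pow, show 2 ^ (1 + 1) = 2 * 2 from rfl, pow_mul, sq y, hout y hy hyA, sq,
          Involution.mul_self_of_orderOf hzo]
        group
    set h' := g * h * g⁻¹ with hh'
    have hc : h' * (g * y * g⁻¹) = g * y * g⁻¹ * h' := by
      rw [hh', show g * h * g⁻¹ * (g * y * g⁻¹) = g * (h * y) * g⁻¹ by group, hh]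
      group
    have ho' : ¬ 2 ∣ orderOf h' := by
      rw [show h' = (MulAut.conj g).toMonoidHom h from rfl,
        orderOf_injective _ (MulAut.conj g).injective]
      exact hodd
    have : h' = 1 := by
      rcases hi4mem _ hg hyo with e | e
      · exact hodd_i h' ho' (e ▸ hc)
      · refine hodd_i h' ho' ?_
        rw [e] at hc
        simpa using (show Commute h' i⁻¹ from hc).inv_right.eq
    exact conj_eq_one_iff.mp this
  -- fixed-point spaces of odd elements are small
  have hsmall : ∀ h : H, h ≠ 1 → (fixedBy V h).ncard * (fixedBy V h).ncard ≤ Nat.card V := by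
    intro h hh1
    by_cases he : 2 ∣ orderOf h
    · have : fixedBy V h = {0} := by
        ext v
        exact ⟨fun hv => heven h he v hv, fun hv => by
          rw [Set.mem_singleton_iff] at hv; rw [hv]; exact smul_zero h⟩
      rw [this, Set.ncard_singleton, one_mul]
      exact Nat.card_pos
    by_contra hlt
    have key : ∀ y : H, y * y = z → (∀ o : H, ¬ 2 ∣ orderOf o → o * y = y * o → o = 1) →
        y * h * y⁻¹ = h⁻¹ := by
      intro y hyz hyodd
      let f : fixedBy V h × fixedBy V h → V := fun p => (p.1 : V) + y • (p.2 : V)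
      obtain ⟨p, p', hne, heq⟩ : ∃ p p', p ≠ p' ∧ f p = f p' := by
        by_contra! hinj
        refine hlt ?_
        have := Nat.card_le_card_of_injective f fun p p' h' => by
          by_contra hne; exact hinj p p' hne h'
        rwa [Nat.card_prod, Nat.card_coe_set_eq] at this
      set w := (p.2 : V) - p'.2 with hw
      set w' := (p'.1 : V) - p.1 with hw'
      have hyw : y • w = w' := by
        simp only [f] at heq
        rw [hw, hw', smul_sub, sub_eq_sub_iff_add_eq_add, add_comm, heq, add_comm]
      have hyw' : y • w' = -w := by rw [← hyw, ← mul_smul, hyz, hzneg]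
      have hw0 : w ≠ 0 := fun h0 => hne (by
        have h1 : (p.2 : V) = p'.2 := sub_eq_zero.mp h0
        have h2 : (p'.1 : V) = p.1 := sub_eq_zero.mp (by rw [← hw', ← hyw, h0, smul_zero])
        exact Prod.ext (Subtype.ext h2.symm) (Subtype.ext h1))
      have hfw : h • w = w := by rw [hw, smul_sub, p.2.2, p'.2.2]
      have hfw' : h • w' = w' := by rw [hw', smul_sub, p'.1.2, p.1.2]
      let O := stabilizer H w ⊓ stabilizer H w'
      have hconj : ∀ o : O, y * (o : H) * y⁻¹ ∈ O := fun o => by
        have h1 : y⁻¹ • w = -w' := by rw [inv_smul_eq_iff, smul_neg, hyw', neg_neg]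
        have h2 : y⁻¹ • w' = w := by rw [inv_smul_eq_iff, hyw]
        have ho1 : (o : H) • w = w := o.2.1
        have ho2 : (o : H) • w' = w' := o.2.2
        refine ⟨?_, ?_⟩
        · show (y * (o : H) * y⁻¹) • w = w
          rw [mul_smul, mul_smul, h1, smul_neg, ho2, smul_neg, hyw', neg_neg]
        · show (y * (o : H) * y⁻¹) • w' = w'
          rw [mul_smul, mul_smul, h2, ho1, hyw]
      let φ : O →* O :=
        { toFun := fun o => ⟨y * (o : H) * y⁻¹, hconj o⟩
          map_one' := Subtype.ext (by simp)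
          map_mul' := fun a b => Subtype.ext (by simp [mul_assoc]) }
      have hodd : ∀ o : O, ¬ 2 ∣ orderOf (o : H) := fun o => hstab w hw0 _ o.2.1
      have hfp : MonoidHom.FixedPointFree φ := fun o ho => Subtype.ext
        (hyodd _ (hodd o) (mul_inv_eq_iff_eq_mul.mp (congrArg Subtype.val ho)).symm)
      have hinvol : Function.Involutive φ := fun o => Subtype.ext (by
        show y * (y * (o : H) * y⁻¹) * y⁻¹ = o
        rw [show y * (y * (o : H) * y⁻¹) * y⁻¹ = (y * y) * o * (y * y)⁻¹ by group, hyz,
          ← hzc, mul_inv_cancel_right])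
      exact congrArg Subtype.val
        (congrFun (hfp.coe_eq_inv_of_involutive hinvol) ⟨h, hfw, hfw'⟩)
    have hixA : i * x ∉ A := fun hm => hxA (by simpa using mul_mem (inv_mem hiA) hm)
    have h1 := key i hz.symm hodd_i
    have h2 := key x (hout x hxR hxA) (hodd_out x hxR hxA)
    have h3 := key (i * x) (hout _ (mul_mem (hAR hiA) hxR) hixA)
      (hodd_out _ (mul_mem (hAR hiA) hxR) hixA)
    have h4 : h = h⁻¹ := by
      rw [← h3, show i * x * h * (i * x)⁻¹ = i * (x * h * x⁻¹) * i⁻¹ by group, h2, ← conj_inv, h1,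
        inv_inv]
    have h5 : orderOf h ∣ 2 := orderOf_dvd_of_pow_eq_one (by
      rw [sq]
      nth_rewrite 2 [h4]
      exact mul_inv_cancel h)
    rcases (Nat.dvd_prime Nat.prime_two).mp h5 with h6 | h6
    · exact hh1 (orderOf_eq_one_iff.mp h6)
    · exact he h6.symm.dvd
  -- counting
  let _ := Fintype.ofFinite H
  let _ := Fintype.ofFinite V
  set m := (R : Subgroup H).index with hm
  set α := Nat.card A with hα
  have hmodd : ¬ 2 ∣ m := R.not_dvd_index
  have hH : Nat.card H = 2 * α * m := by
    rw [← (R : Subgroup H).card_mul_index, hRcard]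
  have hm3 : 3 ≤ m := by
    have : m ≠ 1 := fun h1 => c.notsolv (by
      have htop : (R : Subgroup H) = ⊤ := index_eq_one.mp h1
      have : IsPGroup 2 H := R.2.of_equiv ((MulEquiv.subgroupCongr htop).trans topEquiv)
      have := this.isNilpotent
      infer_instance)
    have : m ≠ 0 := index_ne_zero_of_finite
    omega
  set odds := Finset.univ.filter fun h : H => ¬ 2 ∣ orderOf h with hodds
  have hcount : 2 * odds.card + m * α ≤ 2 * α * m + m * 2 := by
    set B := Finset.univ.filter fun b : A => ¬ ((b : H) = 1 ∨ (b : H) = z) with hB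
    have hBcard : α ≤ B.card + 2 := by
      have h1 := Finset.card_filter_add_card_filter_not
        (s := (Finset.univ : Finset A)) (p := fun b : A => ¬ ((b : H) = 1 ∨ (b : H) = z))
      have h2 : (Finset.univ.filter fun b : A => ¬ ¬ ((b : H) = 1 ∨ (b : H) = z)).card ≤ 2 := by
        refine (Finset.card_le_card (t := ({1, ⟨z, hzA⟩} : Finset A)) ?_).trans Finset.card_le_two
        intro b hb
        simp only [not_not, Finset.mem_filter, Finset.mem_univ, true_and] at hb
        rcases hb with e | e <;> simp [Subtype.ext_iff, e]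
      rw [Finset.card_univ, ← Nat.card_eq_fintype_card] at h1
      simp only [not_not, ← hα, ← hB] at h1 h2 ⊢
      omega
    let _ := Fintype.ofFinite (H ⧸ (R : Subgroup H))
    let f : (odds ⊕ odds) ⊕ ((H ⧸ (R : Subgroup H)) × B) → H := fun p =>
      match p with
      | Sum.inl (Sum.inl h) => (h : H)
      | Sum.inl (Sum.inr h) => z * (h : H)
      | Sum.inr (c, b) => c.out * ((b : A) : H) * c.out⁻¹
    have hodd' : ∀ h : odds, ¬ 2 ∣ orderOf (h : H) := fun h => (Finset.mem_filter.mp h.2).2
    have hzh : ∀ h : H, ¬ 2 ∣ orderOf h → 2 ∣ orderOf (z * h) := fun h hh => by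
      rw [(show Commute z h from (hzc h).symm).orderOf_mul_eq_mul_orderOf_of_coprime
        (by rw [hzo]; exact Nat.prime_two.coprime_iff_not_dvd.mpr hh), hzo]
      exact dvd_mul_right 2 _
    have hb' : ∀ b : B, i ∈ zpowers ((b : A) : H) ∧ 4 ∣ orderOf ((b : A) : H) := fun b => by
      have h1 := hiA_of _ (b : A).2 (Finset.mem_filter.mp b.2).2
      exact ⟨h1, by rw [← hio]; exact orderOf_dvd_of_mem_zpowers h1⟩
    have hconjord : ∀ (g b : H), orderOf (g * b * g⁻¹) = orderOf b := fun g b => by
      rw [← orderOf_injective (MulAut.conj g).toMonoidHom (MulAut.conj g).injective b]; rfl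
    have hf : Function.Injective f := by
      rintro ((h | h) | ⟨c, b⟩) ((h' | h') | ⟨c', b'⟩) he
      · simp only [f] at he; rw [Subtype.ext he]
      · exfalso; simp only [f] at he; exact hodd' h (he ▸ hzh _ (hodd' h'))
      · exfalso; simp only [f] at he
        exact hodd' h (by rw [he, hconjord]; exact (show 2 ∣ 4 from ⟨2, rfl⟩).trans (hb' b').2)
      · exfalso; simp only [f] at he; exact hodd' h' (he ▸ hzh _ (hodd' h))
      · simp only [f] at he; rw [Subtype.ext (mul_left_cancel he)]
      · exfalso; simp only [f] at he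
        have h4 : 4 ∣ orderOf (z * (h : H)) := by rw [he, hconjord]; exact (hb' b').2
        rw [(show Commute z (h : H) from (hzc _).symm).orderOf_mul_eq_mul_orderOf_of_coprime
          (by rw [hzo]; exact Nat.prime_two.coprime_iff_not_dvd.mpr (hodd' h)), hzo] at h4
        have := hodd' h
        omega
      · exfalso; simp only [f] at he
        exact hodd' h' (by rw [← he, hconjord]; exact (show 2 ∣ 4 from ⟨2, rfl⟩).trans (hb' b).2)
      · exfalso; simp only [f] at he
        have h4 : 4 ∣ orderOf (z * (h' : H)) := by rw [← he, hconjord]; exact (hb' b).2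
        rw [(show Commute z (h' : H) from (hzc _).symm).orderOf_mul_eq_mul_orderOf_of_coprime
          (by rw [hzo]; exact Nat.prime_two.coprime_iff_not_dvd.mpr (hodd' h')), hzo] at h4
        have := hodd' h'
        omega
      · simp only [f] at he
        set u := c'.out⁻¹ * c.out with hu
        have hub : u * ((b : A) : H) * u⁻¹ = ((b' : A) : H) := by
          rw [hu, show c'.out⁻¹ * c.out * ((b : A) : H) * (c'.out⁻¹ * c.out)⁻¹ =
            c'.out⁻¹ * (c.out * ((b : A) : H) * c.out⁻¹) * c'.out by group, he]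
          group
        have hui : u * i * u⁻¹ ∈ A := by
          obtain ⟨k, hk⟩ := mem_zpowers_iff.mp (hb' b).1
          rw [← hk, ← conj_zpow, hub]
          exact zpow_mem (b' : A).2 k
        have huR : u ∈ (R : Subgroup H) := by
          rcases hi4mem _ hui (by rw [hconjord, hio]) with e | e
          · exact hAR (hT u (mul_inv_eq_iff_eq_mul.mp e))
          · have h1 : x * u * i * (x * u)⁻¹ = i := by
              rw [show x * u * i * (x * u)⁻¹ = x * (u * i * u⁻¹) * x⁻¹ by group, e, ← conj_inv,
                hinvR x hxR hxA, inv_inv]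
            have h2 := mul_mem (inv_mem hxR) (hAR (hT _ (mul_inv_eq_iff_eq_mul.mp h1)))
            rwa [inv_mul_cancel_left] at h2
        have hcc : c = c' := by
          rw [← QuotientGroup.out_eq' c, ← QuotientGroup.out_eq' c', eq_comm, QuotientGroup.eq]
          exact huR
        subst hcc
        rw [Subtype.ext (Subtype.ext (mul_left_cancel (mul_right_cancel he)))]
    have h1 := Fintype.card_le_of_injective f hf
    rw [Fintype.card_sum, Fintype.card_sum, Fintype.card_prod, Fintype.card_coe,
      Fintype.card_coe, ← Nat.card_eq_fintype_card (α := H), hH,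
      ← Nat.card_eq_fintype_card (α := H ⧸ _), ← index_eq_card] at h1
    have h2 := Nat.mul_le_mul_left m hBcard
    rw [Nat.mul_add] at h2
    rw [← hm] at h1
    omega
  -- the incidence count
  have hinc : (m - 1) * (Nat.card V - 1) =
      ∑ h ∈ Finset.univ.erase (1 : H),
        (Finset.univ.filter fun v : V => v ≠ 0 ∧ h • v = v).card := by
    have h1 : ∀ v : V, v ≠ 0 →
        (Finset.univ.filter fun h : H => h • v = v).card = m := fun v hv => by
      have h2 := (stabilizer H v).card_mul_index
      rw [hindex v hv, hRcard, hH, mul_comm _ (2 * α)] at h2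
      have h3 := Nat.eq_of_mul_eq_mul_left (Nat.mul_pos two_pos Nat.card_pos) h2
      rw [← h3, Nat.card_eq_fintype_card]
      refine (Fintype.card_of_subtype _ fun h => ?_).symm
      simp [mem_stabilizer_iff]
    have h2 : ∀ v : V, v ≠ 0 →
        ((Finset.univ.erase (1 : H)).filter fun h : H => h • v = v).card = m - 1 := fun v hv => by
      rw [Finset.filter_erase, Finset.card_erase_of_mem (by simp), h1 v hv]
    calc (m - 1) * (Nat.card V - 1)
        = ∑ v ∈ Finset.univ.erase (0 : V),
            ((Finset.univ.erase (1 : H)).filter fun h : H => h • v = v).card := by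
          rw [Finset.sum_congr rfl (fun v hv => h2 v (Finset.ne_of_mem_erase hv)),
            Finset.sum_const, smul_eq_mul, Finset.card_erase_of_mem (Finset.mem_univ _),
            Finset.card_univ, Nat.card_eq_fintype_card, mul_comm]
      _ = _ := by
          refine (Finset.sum_card_bipartiteAbove_eq_sum_card_bipartiteBelow
            (fun (v : V) (h : H) => h • v = v)).trans (Finset.sum_congr rfl fun h _ => ?_)
          congr 1
          ext v
          simp [Finset.bipartiteBelow]
  have hxa : x * a * x⁻¹ = a⁻¹ := by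
    have h1 : x * a ∉ A := fun h => hxA (by
      simpa using mul_mem h (inv_mem (mem_zpowers a)))
    have h2 := hout _ (mul_mem hxR a0.2) h1
    have h3 := hout x hxR hxA
    calc x * a * x⁻¹ = (x * a * (x * a)) * a⁻¹ * (x * x)⁻¹ := by group
      _ = a⁻¹ := by rw [h2, h3, ← hzc, mul_inv_cancel_right]
  obtain ⟨Q, hqQ, hQV, hQa⟩ := orderOf_bound_of_inverted hq hqV
    (have := c.nontrivial_V; exists_ne (0 : V)) hxa (fun h => by
      have := Nat.le_of_dvd two_pos (orderOf_dvd_of_pow_eq_one (show a ^ 2 = 1 by rw [sq]; exact h))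
      have h4 : 4 ≤ 2 ^ (n + 2) := by
        rw [pow_add]; exact Nat.le_mul_of_pos_left _ (Nat.two_pow_pos n)
      omega) (R : Subgroup H) (fun r hr => by
        by_cases hrA : r ∈ A
        · obtain ⟨j, hj⟩ := mem_zpowers_iff.mp hrA
          exact ⟨j, Or.inl hj.symm⟩
        · have h1 : r * x⁻¹ ∈ A := by
            refine hCiR _ (mul_mem hr (inv_mem hxR)) ?_
            rw [← mul_inv_eq_iff_eq_mul]
            calc r * x⁻¹ * i * (r * x⁻¹)⁻¹ = r * (x⁻¹ * i * x⁻¹⁻¹) * r⁻¹ := by group
              _ = (r * i * r⁻¹)⁻¹ := by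
                  rw [hinvR _ (inv_mem hxR) (fun h => hxA (inv_mem_iff.mp h))]; group
              _ = i := by rw [hinvR r hr hrA, inv_inv]
          obtain ⟨j, hj⟩ := mem_zpowers_iff.mp h1
          exact ⟨j, Or.inr (by rw [hj, inv_mul_cancel_right])⟩)
      a0.2 hxR (fun W hW => c.eq_top_of_sylow_stable R hW)
  rw [hao, ← hAcard] at hQa
  obtain ⟨L, hL⟩ : ∃ L, L = max Q ((Finset.univ.erase (1 : H)).sup fun h => (fixedBy V h).ncard) :=
    ⟨_, rfl⟩
  have hLV : L * L ≤ Nat.card V := by
    rcases le_total Q ((Finset.univ.erase (1 : H)).sup fun h => (fixedBy V h).ncard) with h | h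
    · rw [hL, max_eq_right h]
      by_cases hne : (Finset.univ.erase (1 : H)).Nonempty
      · obtain ⟨h0, hh0, he⟩ := Finset.exists_mem_eq_sup _ hne fun h : H => (fixedBy V h).ncard
        rw [he]; exact hsmall h0 (Finset.ne_of_mem_erase hh0)
      · rw [Finset.not_nonempty_iff_eq_empty.mp hne]; simp
    · rw [hL, max_eq_left h]; exact hQV
  have hLQ : Q ≤ L := hL ▸ le_max_left _ _
  have hbound : (m - 1) * (Nat.card V - 1) ≤ (odds.card - 1) * (L - 1) := by
    rw [hinc]
    calc _ ≤ ∑ h ∈ Finset.univ.erase (1 : H), if ¬ 2 ∣ orderOf h then L - 1 else 0 := by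
          refine Finset.sum_le_sum fun h hh => ?_
          by_cases he : 2 ∣ orderOf h
          · rw [if_neg (not_not_intro he), Finset.card_eq_zero.mpr
              (Finset.filter_eq_empty_iff.mpr fun v _ hv => hv.1 (heven h he v hv.2))]
          · rw [if_pos he]
            have h1 : (Finset.univ.filter fun v : V => v ≠ 0 ∧ h • v = v).card + 1 ≤
                (fixedBy V h).ncard := by
              rw [← Finset.card_insert_of_notMem (a := (0 : V)) (by simp), ← Set.ncard_coe_finset]
              refine Set.ncard_le_ncard (fun v hv => ?_) (Set.toFinite _)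
              simp only [Finset.coe_insert, Finset.coe_filter, Finset.mem_univ, true_and,
                Set.mem_insert_iff] at hv
              rcases hv with rfl | hv
              · exact smul_zero h
              · exact hv.2
            have h2 : (fixedBy V h).ncard ≤ L :=
              (Finset.le_sup (f := fun h : H => (fixedBy V h).ncard) hh).trans (hL ▸ le_max_right _ _)
            omega
      _ = (odds.card - 1) * (L - 1) := by
          rw [← Finset.sum_filter, Finset.sum_const, smul_eq_mul, Finset.filter_erase,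
            Finset.card_erase_of_mem (by simp)]
  -- arithmetic
  have hq2' : 3 ≤ q := by have := hq.two_le; omega
  have hL3 : 3 ≤ L := by omega
  obtain ⟨L', rfl⟩ : ∃ L', L = L' + 3 := ⟨L - 3, by omega⟩
  have hodd1 : 1 ≤ odds.card := Finset.card_pos.mpr ⟨1, by simp [hodds]⟩
  have h1 : (m - 1) * ((L' + 3 + 1) * (L' + 3 - 1)) ≤ (odds.card - 1) * (L' + 3 - 1) := by
    refine le_trans (Nat.mul_le_mul_left _ ?_) hbound
    rw [← Nat.sq_sub_sq, one_pow, sq]
    omega
  rw [← mul_assoc] at h1
  have h2 := Nat.le_of_mul_le_mul_right h1 (by omega)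
  clear_value m α
  obtain ⟨m', rfl⟩ : ∃ m', m = m' + 3 := ⟨m - 3, by omega⟩
  have hα4 : 4 ≤ α := by
    rw [hAcard, pow_add]; exact Nat.le_mul_of_pos_left _ (Nat.two_pow_pos n)
  have h3 : 2 * ((m' + 3 - 1) * (L' + 3 + 1)) + 2 ≤ (m' + 3) * α + (m' + 3) * 2 := by
    have e : 2 * α * (m' + 3) = (m' + 3) * α + (m' + 3) * α := by ring
    omega
  have h4 : m' + 3 - 1 = m' + 2 := by omega
  rw [h4] at h3
  have h5 : α ≤ L' + 4 := by omega
  -- `(m + 2) (L + 4) 2 + 2 ≤ (m + 3) (α + 2)` forces `α = 4`, `m = 3`, `L = 3`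
  obtain ⟨rfl, rfl⟩ := count_arith h3 h5
  have hq3 : q ≠ 3 := fun e => hqH (e ▸ ⟨2 * α, by rw [hH]; ring⟩)
  omega

end Cfsg.Agent.Baer19
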