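import Cfsg.Agent.Baer19.OrbitBasic
import Cfsg.Agent.Lib.Fitting.Minimal
import Mathlib.GroupTheory.SpecificGroups.Cyclic
import Mathlib.RingTheory.Coprime.Lemmas
import Mathlib.RingTheory.Int.Basic
import Mathlib.NumberTheory.Basic

/-!
# A cyclic Sylow subgroup in a minimal example is the centraliser of each of its elements
-/

set_option autoImplicit false
set_option linter.unusedSectionVars false

open Subgroup MulAction
open scoped Pointwise

namespace Cfsg.Agent.Baer19

universe u

variable {r : ℕ} {H V : Type u} [Group H] [AddCommGroup V] [DistribMulAction H V]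
  [Finite H] [Finite V] [hr : Fact r.Prime] [FaithfulSMul H V]

/-- A Sylow `r`-subgroup of a group with these orbits has no central complement part. -/
theorem eq_of_le_centralizer (hpow : PowOrbits r H V) (R : Sylow r H)
    (hc : (R : Subgroup H) ≤ centralizer ((R : Subgroup H) : Set H))
    (hN : normalizer ((R : Subgroup H) : Set H) ≤ centralizer ((R : Subgroup H) : Set H)) :
    (R : Subgroup H) = ⊤ := by
  have := hc
  have hcomp := MonoidHom.ker_transferSylow_isComplement' R hN
  have h1 := eq_bot_of_coprime hpow _ (MonoidHom.not_dvd_card_ker_transferSylow R hN)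
  rw [h1, isComplement'_bot_left] at hcomp
  exact hcomp

theorem MinCtx.apply_eq_one (c : MinCtx r H V) {A : Type*} [CommGroup A] (f : H →* A) (g : H) :
    f g = 1 := by
  have h1 : commutator H ≤ f.ker := Abelianization.commutator_subset_ker f
  rw [c.perfect] at h1
  exact MonoidHom.mem_ker.mp (h1 (mem_top g))

/-- A proper subgroup containing an abelian Sylow subgroup normalises it. -/
theorem MinCtx.le_normalizer_of_ne_top (c : MinCtx r H V) (R : Sylow r H)
    [IsMulCommutative (R : Subgroup H)] {T : Subgroup H} (hRT : (R : Subgroup H) ≤ T)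
    (hT : T ≠ ⊤) : T ≤ normalizer ((R : Subgroup H) : Set H) := by
  have hpow := c.pow.of_sylow_le R hRT
  have : FaithfulSMul T V := faithful_subgroup T
  have : Group.IsSolvable T := c.smaller T hT hpow
  set F := Cfsg.fittingSubgroup T with hF
  have hnil : Group.IsNilpotent F := Cfsg.Agent.Fitting.fitting_isNilpotent
  have hFp : IsPGroup r F := by
    refine IsPGroup.of_card (n := (Nat.card F).primeFactorsList.length)
      (Nat.eq_prime_pow_of_unique_prime_dvd Nat.card_pos.ne' fun {s} hs hd => ?_)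
    by_contra hne
    have := Fact.mk hs
    let P : Sylow s F := default
    have hPn : (P : Subgroup F).Normal :=
      Sylow.normal_of_normalizerCondition Group.normalizerCondition_of_isNilpotent P
    have : (P : Subgroup F).Characteristic := Sylow.characteristic_of_normal P hPn
    have h1 := eq_bot_of_coprime hpow ((P : Subgroup F).map F.subtype) (by
      rw [card_map_of_injective F.subtype_injective]
      intro hdr
      obtain ⟨k, hk⟩ := IsPGroup.iff_card.mp P.2
      exact hne ((Nat.prime_dvd_prime_iff_eq hr.out hs).mp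
        (hr.out.dvd_of_dvd_pow (hk ▸ hdr))).symm)
    rw [map_eq_bot_iff_of_injective _ F.subtype_injective] at h1
    exact P.ne_bot_of_dvd_card hd h1
  let R' : Sylow r T := R.subtype hRT
  have hR' : (R' : Subgroup T) = (R : Subgroup H).subgroupOf T := rfl
  obtain ⟨P, hP⟩ := hFp.exists_le_sylow
  have hFR : F ≤ (R' : Subgroup T) := by
    obtain ⟨g, hg⟩ := exists_smul_eq T P R'
    rw [← hg]
    intro x hx
    have hFn : F.Normal := inferInstance
    show x ∈ MulAut.conj g • (P : Subgroup T)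
    rw [mem_pointwise_smul_iff_inv_smul_mem]
    exact hP (by simpa using hFn.conj_mem x hx g⁻¹)
  have hRF : (R' : Subgroup T) ≤ F := by
    refine le_trans (fun x hx => ?_) Cfsg.Agent.Fitting.centralizer_fitting_le
    rw [mem_centralizer_iff]
    intro y hy
    have h1 : ((y : T) : H) ∈ (R : Subgroup H) := hFR hy
    have h2 : ((x : T) : H) ∈ (R : Subgroup H) := hx
    refine Subtype.ext ?_
    show ((y : T) : H) * (x : T) = ((x : T) : H) * (y : T)
    exact congrArg Subtype.val (mul_comm' (⟨_, h1⟩ : (R : Subgroup H)) ⟨_, h2⟩)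
  have heq : (R' : Subgroup T) = F := le_antisymm hRF hFR
  have hn : ((R : Subgroup H).subgroupOf T).Normal := hR' ▸ heq ▸ inferInstance
  intro t ht
  rw [mem_normalizer_iff]
  intro x
  constructor
  · intro hx
    exact hn.conj_mem ⟨x, hRT hx⟩ hx ⟨t, ht⟩
  · intro hx
    have h1 := hn.conj_mem ⟨_, hRT hx⟩ hx ⟨t, ht⟩⁻¹
    have h2 : t⁻¹ * (t * x * t⁻¹) * t ∈ (R : Subgroup H) := by
      simpa [mem_subgroupOf] using h1
    simpa [mul_assoc] using h2

section Cyclic

variable (c : MinCtx r H V) (R : Sylow r H) (hcyc : IsCyclic (R : Subgroup H))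
include c hcyc

theorem MinCtx.cyclic_comm : IsMulCommutative (R : Subgroup H) :=
  ⟨⟨(IsCyclic.commGroup (α := (R : Subgroup H))).mul_comm⟩⟩

theorem MinCtx.cyclic_comm' {x y : H} (hx : x ∈ (R : Subgroup H)) (hy : y ∈ (R : Subgroup H)) :
    x * y = y * x := by
  have := c.cyclic_comm R hcyc
  exact congrArg Subtype.val (mul_comm' (⟨x, hx⟩ : (R : Subgroup H)) ⟨y, hy⟩)

/-- Nontrivial elements of the Sylow subgroup fix only zero. -/
theorem MinCtx.cyclic_fixed {ρ : H} (hρ : ρ ∈ (R : Subgroup H)) (h1 : ρ ≠ 1) {v : V}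
    (hv : ρ • v = v) : v = 0 :=
  c.fixed_eq_zero R h1 (fun _ hy => c.cyclic_comm' R hcyc hy hρ) hv

theorem MinCtx.cyclic_centralizer {ρ : H} (hρ : ρ ∈ (R : Subgroup H)) (h1 : ρ ≠ 1) {h : H}
    (hh : h * ρ = ρ * h) : h ∈ (R : Subgroup H) := by
  have hcomm := c.cyclic_comm R hcyc
  -- `ρ` is not central
  have hnc : centralizer ({ρ} : Set H) ≠ ⊤ := by
    intro htop
    have hcen : ∀ g, g * ρ = ρ * g := fun g =>
      mem_centralizer_singleton_iff.mp (htop ▸ mem_top g)
    let _ : CommGroup (R : Subgroup H) := IsCyclic.commGroup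
    have hkey : ∀ (k : ℕ) (g₀ : H), g₀⁻¹ * ρ ^ k * g₀ ∈ (R : Subgroup H) →
        g₀⁻¹ * ρ ^ k * g₀ = ρ ^ k := fun k g₀ _ => by
      rw [mul_assoc, ← ((show Commute g₀ ρ from hcen g₀).pow_right k).eq, inv_mul_cancel_left]
    have h2 := c.apply_eq_one (MonoidHom.transfer (MonoidHom.id (R : Subgroup H))) ρ
    rw [MonoidHom.transfer_eq_pow _ ρ hkey, MonoidHom.id_apply] at h2
    have h3 : orderOf ρ ∣ (R : Subgroup H).index :=
      orderOf_dvd_of_pow_eq_one (congrArg Subtype.val h2)
    obtain ⟨k, hk⟩ := IsPGroup.iff_orderOf.mp R.2 ⟨ρ, hρ⟩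
    rw [← Subgroup.orderOf_coe] at hk
    rcases k with _ | k
    · exact h1 (orderOf_eq_one_iff.mp (by rw [hk, pow_zero]))
    · exact R.not_dvd_index ((dvd_pow_self r k.succ_ne_zero).trans (hk ▸ h3))
  have hle : (R : Subgroup H) ≤ centralizer ({ρ} : Set H) := fun y hy =>
    mem_centralizer_singleton_iff.mpr (c.cyclic_comm' R hcyc hy hρ)
  have hN := c.le_normalizer_of_ne_top R hle hnc (mem_centralizer_singleton_iff.mpr hh)
  -- the centraliser of `R` is `R`
  have hCR : ∀ g, (∀ y ∈ (R : Subgroup H), g * y = y * g) → g ∈ (R : Subgroup H) := by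
    intro g hg
    set T := centralizer ((R : Subgroup H) : Set H) with hT
    have hRT : (R : Subgroup H) ≤ T := fun y hy =>
      mem_centralizer_iff.mpr fun x hx => c.cyclic_comm' R hcyc hx hy
    have hTc : ∀ a : T, ∀ y : T, (y : H) ∈ (R : Subgroup H) → a * y = y * a := fun a y hy =>
      Subtype.ext (mem_centralizer_iff.mp a.2 _ hy).symm
    have : FaithfulSMul T V := faithful_subgroup T
    have h4 := eq_of_le_centralizer (c.pow.of_sylow_le R hRT) (R.subtype hRT)
      (fun y _ => mem_centralizer_iff.mpr fun x hx => (hTc y x hx).symm)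
      (fun y _ => mem_centralizer_iff.mpr fun x hx => (hTc y x hx).symm)
    have h5 : (⟨g, mem_centralizer_iff.mpr fun y hy => (hg y hy).symm⟩ : T) ∈
        ((R.subtype hRT : Sylow r T) : Subgroup T) := h4 ▸ mem_top _
    exact h5
  obtain ⟨⟨y, hy⟩, hgen⟩ := hcyc.exists_generator
  obtain ⟨f, hf⟩ := IsPGroup.iff_card.mp R.2
  have hyo : orderOf y = r ^ f := by
    rw [← hf, ← orderOf_eq_card_of_forall_mem_zpowers hgen, ← Subgroup.orderOf_coe]
  have hyR : ∀ x ∈ (R : Subgroup H), ∃ j : ℤ, y ^ j = x := fun x hx => by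
    obtain ⟨j, hj⟩ := mem_zpowers_iff.mp (hgen ⟨x, hx⟩)
    exact ⟨j, congrArg Subtype.val hj⟩
  obtain ⟨k, hk⟩ := hyR _ ((mem_normalizer_iff.mp hN y).mp hy)
  obtain ⟨j, rfl⟩ := hyR ρ hρ
  -- the automorphism is congruent to one modulo `r`
  have hk1 : (r : ℤ) ∣ k - 1 := by
    have h2 : y ^ (j * (k - 1)) = 1 := by
      rw [mul_sub, mul_one, zpow_sub, mul_comm j k, zpow_mul, hk, conj_zpow, hh,
        mul_inv_cancel_right, mul_inv_cancel]
    rw [← orderOf_dvd_iff_zpow_eq_one, hyo] at h2
    push_cast at h2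
    by_contra hnd
    apply h1
    rw [← orderOf_dvd_iff_zpow_eq_one, hyo]
    push_cast
    exact (IsCoprime.pow_left
      ((Nat.prime_iff_prime_int.mp hr.out).coprime_iff_not_dvd.mpr hnd)).dvd_of_dvd_mul_right h2
  have hiter : ∀ n : ℕ, h ^ n * y * (h ^ n)⁻¹ = y ^ (k ^ n) := by
    intro n
    induction n with
    | zero => simp
    | succ n ih =>
      rw [pow_succ' h, mul_inv_rev,
        show h * h ^ n * y * ((h ^ n)⁻¹ * h⁻¹) = h * (h ^ n * y * (h ^ n)⁻¹) * h⁻¹ by group, ih,
        ← conj_zpow, ← hk, ← zpow_mul, pow_succ' k]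
  have hpk : (r : ℤ) ^ f ∣ k ^ (r ^ f) - 1 := by
    have h2 := dvd_sub_pow_of_dvd_sub hk1 f
    rw [one_pow] at h2
    exact (pow_dvd_pow (r : ℤ) (Nat.le_succ f)).trans h2
  have hmem : h ^ (r ^ f) ∈ (R : Subgroup H) := hCR _ fun x hx => by
    obtain ⟨i, rfl⟩ := hyR x hx
    have h2 : h ^ (r ^ f) * y * (h ^ (r ^ f))⁻¹ = y := by
      rw [hiter]
      have h3 : y ^ (k ^ (r ^ f) - 1) = 1 := by
        rw [← orderOf_dvd_iff_zpow_eq_one, hyo]; push_cast; exact hpk
      rw [zpow_sub, zpow_one, mul_inv_eq_one] at h3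
      exact h3
    exact ((show Commute (h ^ (r ^ f)) y from mul_inv_eq_iff_eq_mul.mp h2).zpow_right i).eq
  have hhp : IsPGroup r (zpowers h) := by
    obtain ⟨m, hm⟩ := IsPGroup.iff_orderOf.mp R.2 ⟨_, hmem⟩
    rw [← Subgroup.orderOf_coe] at hm
    have h2 : orderOf h ∣ r ^ f * r ^ m := orderOf_dvd_of_pow_eq_one (by
      rw [pow_mul, ← hm, pow_orderOf_eq_one])
    rw [← pow_add] at h2
    obtain ⟨i, -, hi⟩ := (Nat.dvd_prime_pow hr.out).mp h2
    exact IsPGroup.of_card (n := i) (by rw [Nat.card_zpowers, hi])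
  have hsup := hhp.to_sup_of_normal_right' R.2 (zpowers_le.mpr hN)
  rw [← R.is_maximal' hsup le_sup_right]
  exact mem_sup_left (mem_zpowers h)

theorem MinCtx.cyclic_not_normal : ¬ (R : Subgroup H).Normal := by
  intro hn
  have hcomm := c.cyclic_comm R hcyc
  obtain ⟨ρ, hρ, h1⟩ : ∃ ρ ∈ (R : Subgroup H), ρ ≠ 1 := by
    by_contra! h
    exact c.sylow_ne_bot R ((eq_bot_iff_forall _).mpr h)
  let _ : CommGroup (MulAut (R : Subgroup H)) :=
    { (inferInstance : Group (MulAut (R : Subgroup H))) with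
      mul_comm := fun a b => (IsCyclic.mulAutMulEquiv (R : Subgroup H)).injective (by
        rw [map_mul, map_mul, mul_comm]) }
  let φ : H →* MulAut (R : Subgroup H) := MulAut.conjNormal
  have htriv : ∀ g, g ∈ (R : Subgroup H) := fun g => by
    refine c.cyclic_centralizer R hcyc hρ h1 ?_
    have h2 := congrArg (fun a : MulAut (R : Subgroup H) => ((a ⟨ρ, hρ⟩ : (R : Subgroup H)) : H))
      (c.apply_eq_one φ g)
    simp only [φ, MulAut.conjNormal_apply, MulAut.one_apply] at h2
    exact mul_inv_eq_iff_eq_mul.mp h2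
  exact c.notsolv (Group.isSolvable_of_comm fun a b => c.cyclic_comm' R hcyc (htriv a) (htriv b))

/-- No proper normal subgroup contains the Sylow subgroup. -/
theorem MinCtx.cyclic_normal_eq_top {M : Subgroup H} (hMn : M.Normal)
    (hRM : (R : Subgroup H) ≤ M) : M = ⊤ := by
  have hcomm := c.cyclic_comm R hcyc
  by_contra hne
  have hle := c.le_normalizer_of_ne_top R hRM hne
  refine c.cyclic_not_normal R hcyc ⟨fun x hx g => ?_⟩
  have hsub : (R : Subgroup H).map (MulAut.conj g).toMonoidHom ≤ M := by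
    rintro _ ⟨y, hy, rfl⟩
    exact hMn.conj_mem y (hRM hy) g
  have hsup := (R.2.map (MulAut.conj g).toMonoidHom).to_sup_of_normal_right' R.2 (hsub.trans hle)
  rw [← R.is_maximal' hsup le_sup_right]
  exact mem_sup_left ⟨x, hx, rfl⟩

end Cyclic

end Cfsg.Agent.Baer19
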