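import Cfsg.Agent.Baer19.OrbitBasic
import Cfsg.Agent.FGS80.Burnside
import Cfsg.Agent.Lib.Involution.NormalFour
import Mathlib.GroupTheory.GroupAction.MultipleTransitivity
import Mathlib.GroupTheory.SpecificGroups.Alternating

/-!
# The monomial case: no normal elementary abelian subgroup of order `r²` in the Sylow subgroup
-/

set_option autoImplicit false
set_option linter.unusedSectionVars false

open Subgroup MulAction

namespace Cfsg.Agent.Baer19

universe u

variable {r : ℕ} {H V : Type u} [Group H] [AddCommGroup V] [DistribMulAction H V]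

/-- The sum over the first `r` powers. -/
def normSum (r : ℕ) (g : H) (v : V) : V := ∑ k ∈ Finset.range r, g ^ k • v

theorem smul_normSum {g : H} (hg : g ^ r = 1) (v : V) : g • normSum r g v = normSum r g v := by
  rw [normSum, Finset.smul_sum]
  simp only [← mul_smul, ← pow_succ']
  have h1 := Finset.sum_range_succ' (fun k => g ^ k • v) r
  rw [Finset.sum_range_succ, hg, pow_zero] at h1
  exact (add_right_cancel h1).symm

theorem normSum_of_fixed {g : H} {v : V} (h : g • v = v) : normSum r g v = r • v := by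
  have : ∀ k : ℕ, g ^ k • v = v := fun k => by
    induction k with
    | zero => simp
    | succ k ih => rw [pow_succ, mul_smul, h, ih]
  simp [normSum, this]

theorem normSum_add (g : H) (v w : V) : normSum r g (v + w) = normSum r g v + normSum r g w := by
  simp [normSum, Finset.sum_add_distrib]

/-- An element of prime order generating a fixed-point-free group has zero norm. -/
theorem normSum_eq_zero [Fact r.Prime] {z : H} (hz : z ^ r = 1)
    (hfix : ∀ v : V, z • v = v → v = 0) {m : ℕ} (hm : ¬ r ∣ m) (v : V) :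
    normSum r (z ^ m) v = 0 := by
  refine hfix _ ?_
  have hzm : (z ^ m) ^ r = 1 := by rw [← pow_mul, mul_comm, pow_mul, hz, one_pow]
  have h1 := smul_normSum hzm v
  obtain ⟨s, hs⟩ := Nat.exists_mul_mod_eq_one_of_coprime
    ((Fact.out : r.Prime).coprime_iff_not_dvd.mpr hm).symm (Fact.out : r.Prime).one_lt
  have hz1 : z = (z ^ m) ^ s := by
    conv_rhs => rw [← pow_mul, ← Nat.mod_add_div (m * s) r, hs.2, pow_add, pow_one, pow_mul, hz,
      one_pow, mul_one]
  have h2 : ∀ k : ℕ, (z ^ m) ^ k • normSum r (z ^ m) v = normSum r (z ^ m) v := fun k => by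
    induction k with
    | zero => simp
    | succ k ih => rw [pow_succ, mul_smul, h1, ih]
  conv_lhs => arg 1; rw [hz1]
  exact h2 s

/-- A permutation group on at most three points is solvable. -/
theorem isSolvable_perm_of_card_le {α : Type u} [Fintype α] [DecidableEq α]
    (h : Fintype.card α ≤ 3) : Group.IsSolvable (Equiv.Perm α) := by
  have : Group.IsSolvable (alternatingGroup α) := by
    rcases subsingleton_or_nontrivial α with hs | hn
    · infer_instance
    · have h2 := two_mul_card_alternatingGroup (α := α)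
      rw [Fintype.card_perm] at h2
      have hle : Nat.factorial (Fintype.card α) ≤ 6 := (Nat.factorial_le h).trans le_rfl
      have : IsCyclic (alternatingGroup α) := by
        have h3 : Fintype.card (alternatingGroup α) ≤ 3 := by omega
        have h4 : 0 < Fintype.card (alternatingGroup α) := Fintype.card_pos
        rw [← Nat.card_eq_fintype_card] at h3 h4
        interval_cases hc : Nat.card (alternatingGroup α)
        · have := (Nat.card_eq_one_iff_unique.mp hc).1
          exact isCyclic_of_subsingleton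
        · exact isCyclic_of_prime_card (p := 2) hc
        · exact isCyclic_of_prime_card (p := 3) hc
      exact Group.isSolvable_of_comm fun a b => by
        let := IsCyclic.commGroup (α := alternatingGroup α)
        exact mul_comm a b
  exact Group.isSolvable_of_ker_le_range (alternatingGroup α).subtype
    (Equiv.Perm.sign (α := α)) (by
      rw [range_subtype]
      exact le_of_eq rfl)

variable [Finite H] [Finite V] [hr : Fact r.Prime] [FaithfulSMul H V]

theorem MinCtx.range_eq_bot (c : MinCtx r H V) {P : Type*} [Group P] (φ : H →* P)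
    (hs : Group.IsSolvable φ.range) : φ.range = ⊥ := by
  by_contra hne
  have : Nontrivial φ.range := (nontrivial_iff_ne_bot _).mpr hne
  refine (Group.IsSolvable.commutator_lt_top_of_nontrivial φ.range).ne (top_le_iff.mp ?_)
  rintro ⟨_, x, rfl⟩ -
  have h1 : φ.rangeRestrict x ∈ (commutator H).map φ.rangeRestrict :=
    mem_map_of_mem _ (c.perfect ▸ mem_top x)
  rw [commutator_def, map_commutator] at h1
  exact commutator_mono le_top le_top h1

theorem MinCtx.not_normal_elementary (c : MinCtx r H V) (R : Sylow r H)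
    (E : Subgroup (R : Subgroup H)) [hEn : E.Normal] (hEc : IsMulCommutative E)
    (hexp : ∀ e ∈ E, e ^ r = 1) (hcard : Nat.card E = r ^ 2) : False := by
  classical
  have hp : r.Prime := hr.out
  have hE1 : E ≠ ⊥ := fun h => by
    rw [h, card_bot] at hcard
    exact (Nat.one_lt_pow two_ne_zero hp.one_lt).ne hcard
  obtain ⟨z0, hz0E, hz0c, hz0o⟩ :=
    Cfsg.Agent.Involution.exists_central_mem_normal R.2 E hE1
  obtain ⟨e0, he0E, he0z⟩ : ∃ e ∈ E, e ∉ zpowers z0 := by
    by_contra! hall
    have h1 := card_le_of_le (fun e he => hall e he : E ≤ zpowers z0)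
    rw [hcard, Nat.card_zpowers, hz0o, sq] at h1
    exact absurd (Nat.le_of_mul_le_mul_left (h1.trans (mul_one r).ge) hp.pos) (by
      have := hp.two_le; omega)
  have hEcomm : ∀ a ∈ E, ∀ b ∈ E, (a : H) * b = b * a := fun a ha b hb =>
    congrArg Subtype.val (congrArg Subtype.val
      (hEc.is_comm.comm (⟨a, ha⟩ : E) ⟨b, hb⟩) : a * b = b * a)
  set z : H := (z0 : H) with hzdef
  set e : H := (e0 : H) with hedef
  have hzr : z ^ r = 1 := congrArg Subtype.val (hexp z0 hz0E)
  have hz1 : z ≠ 1 := fun h => by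
    have : z0 = 1 := Subtype.ext h
    rw [this, orderOf_one] at hz0o
    exact hp.ne_one hz0o.symm
  have hzc : ∀ ρ ∈ (R : Subgroup H), ρ * z = z * ρ := fun ρ hρ =>
    congrArg Subtype.val (mem_center_iff.mp hz0c ⟨ρ, hρ⟩)
  have hzfix : ∀ v : V, z • v = v → v = 0 := fun v hv => c.fixed_eq_zero R hz1 hzc hv
  let gi : Fin r → (R : Subgroup H) := fun i => e0 * z0 ^ (i : ℕ)
  have hgiE : ∀ i, gi i ∈ E := fun i => mul_mem he0E (pow_mem hz0E _)
  let g : Fin r → H := fun i => (gi i : H)
  have hgr : ∀ i, g i ^ r = 1 := fun i => congrArg Subtype.val (hexp _ (hgiE i))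
  have hginj : ∀ i, g i ≠ 1 := fun i h => he0z (by
    have h1 : e0 * z0 ^ (i : ℕ) = 1 := Subtype.ext h
    rw [eq_inv_of_mul_eq_one_left h1]
    exact inv_mem (pow_mem (mem_zpowers _) _))
  let W : Fin r → V → Prop := fun i v => g i • v = v
  have hPmem : ∀ i v, W i (normSum r (g i) v) := fun i v => smul_normSum (hgr i) v
  have hPsame : ∀ i v, W i v → normSum r (g i) v = r • v := fun i v h => normSum_of_fixed h
  have hPother : ∀ i j v, i ≠ j → W j v → normSum r (g i) v = 0 := by
    intro i j v hij hv
    set d := ((i : ℕ) + r - (j : ℕ)) with hd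
    have hdr : ¬ r ∣ d := fun hdd => hij (Fin.ext (by
      have hi := i.2
      have hj := j.2
      rcases hdd with ⟨t, ht⟩
      rcases t with _ | _ | t
      · omega
      · omega
      · exfalso
        have : 2 * r ≤ r * (t + 1 + 1) := by nlinarith
        omega))
    have hgd : g i = z ^ d * g j := by
      show (e * z ^ (i : ℕ)) = z ^ d * (e * z ^ (j : ℕ))
      have he : Commute e z := hEcomm e0 he0E z0 hz0E
      rw [← mul_assoc, ← (he.pow_right d).eq, mul_assoc, ← pow_add,
        show d + (j : ℕ) = (i : ℕ) + r by omega, pow_add, hzr, mul_one]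
    have hcomm : Commute (z ^ d) (g j) :=
      (show Commute z (g j) from hEcomm z0 hz0E (gi j) (hgiE j)).pow_left d
    have hk : ∀ k : ℕ, g i ^ k • v = (z ^ d) ^ k • v := fun k => by
      have hvk : g j ^ k • v = v := by
        induction k with
        | zero => simp
        | succ k ih => rw [pow_succ, mul_smul, hv, ih]
      rw [hgd, hcomm.mul_pow, mul_smul, hvk]
    have h0 := normSum_eq_zero hzr hzfix hdr v
    simp only [normSum] at h0 ⊢
    rw [← h0]
    exact Finset.sum_congr rfl fun k _ => hk k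
  have hrsmul : ∀ v : V, r • v = 0 → v = 0 := fun v h => by
    have h1 : addOrderOf v ∣ r := addOrderOf_dvd_of_nsmul_eq_zero h
    have h2 : addOrderOf v ∣ Nat.card V := addOrderOf_dvd_natCard v
    exact AddMonoid.addOrderOf_eq_one_iff.mp
      (Nat.eq_one_of_dvd_coprimes (hp.coprime_iff_not_dvd.mpr c.not_dvd_card_V) h1 h2)
  have hsum : ∀ v : V, ∑ i, normSum r (g i) v = r • v := fun v => by
    have h1 : ∀ i : Fin r, normSum r (g i) v =
        ∑ k ∈ Finset.range r, e ^ k • (z ^ k) ^ (i : ℕ) • v := fun i => by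
      refine Finset.sum_congr rfl fun k _ => ?_
      show (e * z ^ (i : ℕ)) ^ k • v = _
      rw [((show Commute e z from hEcomm e0 he0E z0 hz0E).pow_right _).mul_pow, mul_smul,
        ← pow_mul, ← pow_mul, mul_comm]
    simp only [h1]
    rw [Finset.sum_comm, Finset.sum_eq_single 0]
    · simp
    · intro k hk hk0
      rw [← Finset.smul_sum, Fin.sum_univ_eq_sum_range (fun i => (z ^ k) ^ i • v) r]
      have hk' : ¬ r ∣ k := fun hd =>
        absurd (Nat.le_of_dvd (Nat.pos_of_ne_zero hk0) hd) (not_le.mpr (Finset.mem_range.mp hk))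
      have h0 := normSum_eq_zero hzr hzfix hk' v
      unfold normSum at h0
      rw [h0, smul_zero]
    · intro h; exact absurd (Finset.mem_range.mpr hp.pos) h
  -- a nonzero vector fixed by a nontrivial element of `E` lies in some summand
  have hcapture : ∀ (u : (R : Subgroup H)), u ∈ E → u ≠ 1 → ∀ x : V, x ≠ 0 →
      (u : H) • x = x → ∃ j, W j x := by
    intro u huE hu1 x hx hux
    let S : Subgroup E := (stabilizer H x).comap (((R : Subgroup H).subtype).comp E.subtype)
    have huS : (⟨u, huE⟩ : E) ∈ S := hux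
    have hS : S ≠ ⊥ := fun h => hu1 (by
      rw [h, mem_bot] at huS; exact congrArg Subtype.val huS)
    have hidx : S.index ≤ r := by
      have h1 := S.card_mul_index
      rw [hcard] at h1
      obtain ⟨s, hs⟩ := IsPGroup.iff_card.mp ((R.2.to_subgroup E).to_subgroup S)
      rcases s with _ | s
      · exact absurd (S.eq_bot_of_card_eq (by rw [hs, pow_zero])) hS
      · rw [hs, pow_succ, sq, mul_assoc] at h1
        have h2 : r ^ s * (r * S.index) = 1 * (r * r) := by rw [one_mul]; exact h1
        have h3 : r * S.index ≤ r * r := by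
          rw [← one_mul (r * r), ← h2]
          exact Nat.le_mul_of_pos_left _ (pow_pos hp.pos _)
        exact Nat.le_of_mul_le_mul_left h3 hp.pos
    let f : Fin r → E ⧸ S := fun k => ((⟨z0, hz0E⟩ : E) ^ (k : ℕ) : E)
    have hf : Function.Injective f := by
      intro k l hkl
      by_contra hne
      obtain ⟨m, hm, hmem⟩ : ∃ m, ¬ r ∣ m ∧ z ^ m • x = x := by
        refine ⟨(l : ℕ) + r - (k : ℕ), fun hd => hne (Fin.ext ?_), ?_⟩
        · have hk := k.2; have hl := l.2
          rcases hd with ⟨t, ht⟩
          rcases t with _ | _ | t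
          · omega
          · omega
          · exfalso
            have : 2 * r ≤ r * (t + 1 + 1) := by nlinarith
            omega
        · have h1 : ((z ^ (k : ℕ))⁻¹ * z ^ (l : ℕ)) • x = x := by
            have := QuotientGroup.eq.mp hkl
            simpa [S, hzdef] using this
          have hk := k.2
          rw [show z ^ ((l : ℕ) + r - (k : ℕ)) = (z ^ (k : ℕ))⁻¹ * z ^ (l : ℕ) by
            rw [eq_inv_mul_iff_mul_eq, ← pow_add,
              show (k : ℕ) + ((l : ℕ) + r - (k : ℕ)) = l + r by omega, pow_add, hzr, mul_one]]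
          exact h1
      have h0 := normSum_eq_zero hzr hzfix hm x
      rw [normSum_of_fixed hmem] at h0
      exact hx (hrsmul x h0)
    have hbij : Function.Bijective f := (Nat.bijective_iff_injective_and_card f).mpr
      ⟨hf, le_antisymm (Nat.card_le_card_of_injective f hf) (by
        rw [Nat.card_fin]; exact hidx)⟩
    obtain ⟨k, hk⟩ := hbij.2 ((⟨e0, he0E⟩ : E)⁻¹ : E)
    refine ⟨k, ?_⟩
    have h1 := QuotientGroup.eq.mp hk
    have h2 : ((e * z ^ (k : ℕ))⁻¹) • x = x := by
      have h1' : ((z ^ (k : ℕ))⁻¹ * e⁻¹) • x = x := by simpa [S, hzdef, hedef] using h1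
      rwa [mul_inv_rev]
    show (e * z ^ (k : ℕ)) • x = x
    conv_lhs => rw [← h2]
    rw [smul_inv_smul]
  -- the permutation of the nonzero summands
  let I := {i : Fin r // ∃ v : V, v ≠ 0 ∧ W i v}
  have hWadd : ∀ i v w, W i v → W i w → W i (v + w) := fun i v w (hv : _ = _) (hw : _ = _) => by
    show g i • (v + w) = v + w
    rw [smul_add, hv, hw]
  have hmove : ∀ (h : H) (i : Fin r) (v : V), v ≠ 0 → W i v → ∃ j, W j (h • v) := by
    intro h i v hv hw
    obtain ⟨ρ, hρ, he⟩ := exists_sylow_smul c.pow R v h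
    rw [← he]
    refine hcapture (⟨ρ, hρ⟩ * gi i * (⟨ρ, hρ⟩)⁻¹) (hEn.conj_mem _ (hgiE i) _) ?_ _
      (fun h0 => hv ((smul_eq_zero_iff_eq ρ).mp h0)) ?_
    · rw [Ne, conj_eq_one_iff]
      exact fun h1 => hginj i (congrArg Subtype.val h1)
    · show (ρ * g i * ρ⁻¹) • ρ • v = ρ • v
      rw [mul_smul, mul_smul, inv_smul_smul, hw]
  have huniq : ∀ (j l : Fin r) (x : V), x ≠ 0 → W j x → W l x → j = l := by
    intro j l x hx hj hl
    by_contra hne
    refine hx (hrsmul x ?_)
    rw [← hPsame j x hj, hPother j l x hne hl]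
  have hσ : ∀ (h : H) (i : I), ∃ j : I, ∀ v, W i v → W j (h • v) := by
    rintro h ⟨i, w0, hw0, hwi⟩
    obtain ⟨j, hj⟩ := hmove h i w0 hw0 hwi
    refine ⟨⟨j, h • w0, fun h0 => hw0 ((smul_eq_zero_iff_eq h).mp h0), hj⟩, fun v hv => ?_⟩
    by_cases hv0 : v = 0
    · show g j • h • v = h • v
      simp [hv0]
    obtain ⟨l, hl⟩ := hmove h i v hv0 hv
    by_cases hs : w0 + v = 0
    · show g j • h • v = h • v
      rw [eq_neg_of_add_eq_zero_right hs, smul_neg, smul_neg, hj]
    obtain ⟨m, hm⟩ := hmove h i (w0 + v) hs (hWadd i _ _ hwi hv)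
    by_cases hjl : j = l
    · exact hjl ▸ hl
    exfalso
    have hmj : m = j := by
      by_contra hmj
      refine hw0 ((smul_eq_zero_iff_eq h).mp (hrsmul _ ?_))
      have := hPother j m _ (Ne.symm hmj) hm
      rwa [smul_add, normSum_add, hPsame j _ hj, hPother j l _ hjl hl, add_zero] at this
    refine hv0 ((smul_eq_zero_iff_eq h).mp (hrsmul _ ?_))
    have := hPother l m _ (fun h' => hjl (h' ▸ hmj).symm) hm
    rwa [smul_add, normSum_add, hPsame l _ hl, hPother l j _ (Ne.symm hjl) hj, zero_add] at this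
  choose σ hσ using hσ
  have hσu : ∀ (h : H) (i j : I) (v : V), v ≠ 0 → W i v → W j (h • v) → σ h i = j :=
    fun h i j v hv hw hj => Subtype.ext
      (huniq _ _ _ (fun h0 => hv ((smul_eq_zero_iff_eq h).mp h0)) (hσ h i v hw) hj)
  let : MulAction H I :=
    { smul := σ
      one_smul := fun i => by
        obtain ⟨v, hv, hw⟩ := i.2
        exact hσu 1 i i v hv hw (by rw [one_smul]; exact hw)
      mul_smul := fun a b i => by
        obtain ⟨v, hv, hw⟩ := i.2
        refine hσu _ i _ v hv hw ?_
        rw [mul_smul]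
        exact hσ a _ _ (hσ b i v hw) }
  have hsmulI : ∀ (h : H) (i : I) (v : V), W i v → W (h • i : I) (h • v) := hσ
  -- not all summands are stable
  have hmoves : ∃ (h : H) (i : I), h • i ≠ i := by
    by_contra! hall
    have hne : Nonempty I := by
      obtain ⟨v, hv⟩ := @exists_ne V c.nontrivial_V (0 : V)
      by_contra hI
      refine hv (hrsmul v ?_)
      rw [← hsum v]
      refine Finset.sum_eq_zero fun i _ => ?_
      by_contra h0
      exact hI ⟨⟨i, _, h0, hPmem i v⟩⟩
    obtain ⟨i⟩ := hne
    obtain ⟨v, hv, hw⟩ := i.2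
    let Wi : AddSubgroup V :=
      { carrier := {x | W i x}
        zero_mem' := smul_zero _
        add_mem' := fun {a b} ha hb => hWadd _ a b ha hb
        neg_mem' := fun {a} (ha : g i • a = a) => by
          show g i • (-a) = -a
          rw [smul_neg, ha] }
    rcases c.irr Wi (fun h x hx => by
      have := hsmulI h i x hx
      rwa [hall h i] at this) with h | h
    · exact hv (AddSubgroup.mem_bot.mp (h ▸ (hw : v ∈ Wi)))
    · refine hginj i (eq_of_smul_eq_smul fun x : V => ?_)
      rw [one_smul]
      exact (h ▸ AddSubgroup.mem_top x : x ∈ Wi)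
  have hIle : Nat.card I ≤ r := by
    have := Finite.card_subtype_le (fun i : Fin r => ∃ v : V, v ≠ 0 ∧ W i v)
    rwa [Nat.card_fin] at this
  have horb : ∀ i : I, ∃ A, (stabilizer H i).index = r ^ A := fun i => by
    obtain ⟨v, hv, hw⟩ := i.2
    obtain ⟨a, ha⟩ := c.pow v
    have hle : stabilizer H v ≤ stabilizer H i := fun h hh => by
      refine hσu h i i v hv hw ?_
      rw [mem_stabilizer_iff.mp hh]; exact hw
    obtain ⟨A, -, hA⟩ := (Nat.dvd_prime_pow hp).mp (ha ▸ index_dvd_of_le hle)
    exact ⟨A, hA⟩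
  obtain ⟨h0, i0, hi0⟩ := hmoves
  have hbig : (orbit H i0).ncard = r ∧ Nat.card I = r := by
    obtain ⟨A, hA⟩ := horb i0
    rw [index_stabilizer] at hA
    have hle : (orbit H i0).ncard ≤ Nat.card I := by
      rw [← Set.ncard_univ]; exact Set.ncard_le_ncard (Set.subset_univ _)
    rcases A with _ | A
    · rw [pow_zero, Set.ncard_eq_one] at hA
      obtain ⟨x, hx⟩ := hA
      have h1 : h0 • i0 ∈ orbit H i0 := mem_orbit _ _
      have h2 : i0 ∈ orbit H i0 := mem_orbit_self _
      rw [hx, Set.mem_singleton_iff] at h1 h2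
      exact absurd (h1.trans h2.symm) hi0
    · have : r ≤ (orbit H i0).ncard := hA ▸ Nat.le_self_pow A.succ_ne_zero r
      omega
  have horbtop : orbit H i0 = Set.univ :=
    Set.eq_of_subset_of_ncard_le (Set.subset_univ _) (by rw [Set.ncard_univ, hbig.1, hbig.2])
      (Set.toFinite _)
  have : IsPretransitive H I := ⟨fun a b => by
    obtain ⟨x, hx⟩ : a ∈ orbit H i0 := horbtop ▸ Set.mem_univ a
    obtain ⟨y, hy⟩ : b ∈ orbit H i0 := horbtop ▸ Set.mem_univ b
    exact ⟨y * x⁻¹, by rw [← hx, ← hy]; show (y * x⁻¹) • x • i0 = y • i0; simp [mul_smul]⟩⟩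
  let φ := MulAction.toPermHom H I
  have hrange : φ.range ≠ ⊥ := fun h => hi0 (by
    have h1 : φ h0 ∈ φ.range := ⟨h0, rfl⟩
    rw [h, mem_bot] at h1
    exact Equiv.ext_iff.mp h1 i0)
  refine hrange (c.range_eq_bot φ ?_)
  by_cases hr3 : r ≤ 3
  · have := isSolvable_perm_of_card_le (α := I) (by
      rw [← Nat.card_eq_fintype_card, hbig.2]; exact hr3)
    infer_instance
  have : IsPretransitive φ.range I := ⟨fun a b => by
    obtain ⟨x, hx⟩ := exists_smul_eq H a b
    exact ⟨⟨φ x, x, rfl⟩, hx⟩⟩
  have hcI : (Fintype.card I).Prime := by rw [← Nat.card_eq_fintype_card, hbig.2]; exact hp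
  have := Fact.mk hcI
  refine (FGS80.Burnside.isSolvable_or_two_transitive (G := φ.range) (Ω := I) rfl).resolve_right fun h2 => ?_
  exfalso
  rw [is_two_pretransitive_iff] at h2
  -- count ordered pairs
  obtain ⟨i, l, hil⟩ : ∃ i l : I, i ≠ l := ⟨h0 • i0, i0, hi0⟩
  obtain ⟨a, ha, hwa⟩ := i.2
  obtain ⟨b, hb, hwb⟩ := l.2
  obtain ⟨A, hA⟩ := c.pow (a + b)
  set T := stabilizer H (a + b) with hT
  have hpair : ∀ h ∈ T, h • i = i ∨ h • i = l := by
    intro h hh
    have hsum' : h • a + h • b = a + b := (smul_add h a b).symm.trans hh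
    by_contra hcon
    push Not at hcon
    by_cases hl : h • l = i
    · have h3 := congrArg (normSum r (g l)) hsum'
      rw [normSum_add, normSum_add, hPother l _ _ (fun hh' => hcon.2 (Subtype.ext hh'.symm))
        (hsmulI h i a hwa), hPother l i _ (fun hh' => hil (Subtype.ext hh'.symm)) hwa,
        hPsame l _ hwb, hPother l _ _ (by rw [hl]; exact fun hh' => hil (Subtype.ext hh'.symm))
          (hsmulI h l b hwb), zero_add, zero_add] at h3
      exact hb (hrsmul b h3.symm)
    · have h3 := congrArg (normSum r (g i)) hsum'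
      rw [normSum_add, normSum_add, hPother i _ _ (fun hh' => hcon.1 (Subtype.ext hh'.symm))
        (hsmulI h i a hwa), hPother i l _ (fun hh' => hil (Subtype.ext hh')) hwb,
        hPsame i _ hwa, hPother i _ _ (fun hh' => hl (Subtype.ext hh'.symm))
          (hsmulI h l b hwb), zero_add, add_zero] at h3
      exact ha (hrsmul a h3.symm)
  set K := T ⊓ stabilizer H i with hK
  have hK2 : K.relIndex T ≤ 2 := by
    have e : (K.subgroupOf T) = stabilizer T i := by
      ext t
      exact ⟨fun h => h.2, fun h => ⟨t.2, h⟩⟩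
    show (K.subgroupOf T).index ≤ 2
    rw [e, index_stabilizer]
    refine (Set.ncard_le_ncard (t := {i, l}) ?_).trans ((Set.ncard_insert_le _ _).trans (by simp))
    rintro _ ⟨t, rfl⟩
    exact hpair t t.2
  have hKl : ∀ h ∈ K, h • l = l := by
    intro h hh
    have hi : h • i = i := hh.2
    by_contra hl
    have hsum' : h • a + h • b = a + b := (smul_add h a b).symm.trans hh.1
    have h3 := congrArg (normSum r (g l)) hsum'
    rw [normSum_add, normSum_add, hPother l _ _ (by rw [hi]; exact fun hh' => hil (Subtype.ext hh'.symm))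
      (hsmulI h i a hwa), hPother l i _ (fun hh' => hil (Subtype.ext hh'.symm)) hwa,
      hPsame l _ hwb, hPother l _ _ (fun hh' => hl (Subtype.ext hh'.symm))
        (hsmulI h l b hwb), zero_add, zero_add] at h3
    exact hb (hrsmul b h3.symm)
  let Sil := stabilizer H (i, l)
  have hle : K ≤ Sil := fun h hh => Prod.ext hh.2 (hKl h hh)
  have hSidx : Sil.index = r * r - r := by
    rw [index_stabilizer, show orbit H (i, l) = {p : I × I | p.1 ≠ p.2} by
      ext p
      constructor
      · rintro ⟨x, rfl⟩
        exact fun h => hil (MulAction.injective x h)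
      · intro hp'
        obtain ⟨⟨_, x, rfl⟩, h3, h4⟩ := h2 hil hp'
        exact ⟨x, Prod.ext h3 h4⟩]
    have e : {p : I × I | p.1 ≠ p.2} = ↑(Finset.univ : Finset I).offDiag := by ext p; simp
    rw [e, Set.ncard_coe_finset, Finset.offDiag_card, Finset.card_univ, ← Nat.card_eq_fintype_card,
      hbig.2]
  have hdvd : r * r - r ∣ K.relIndex T * r ^ A := by
    rw [← hSidx, ← hA, relIndex_mul_index inf_le_left]
    exact index_dvd_of_le hle
  have hrd : (r - 1) ∣ K.relIndex T := by
    have h1 : r - 1 ∣ K.relIndex T * r ^ A :=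
      (Dvd.intro_left r (Nat.mul_sub_one r r)).trans hdvd
    refine (Nat.Coprime.pow_right A ?_).dvd_of_dvd_mul_right h1
    rw [Nat.coprime_comm, hp.coprime_iff_not_dvd]
    intro hd
    have := Nat.le_of_dvd (by omega) hd
    omega
  have h5 : K.relIndex T ≠ 0 := index_ne_zero_of_finite
  have h6 : r - 1 ≤ K.relIndex T := Nat.le_of_dvd (Nat.pos_of_ne_zero h5) hrd
  omega

end Cfsg.Agent.Baer19
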