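import Cfsg.Agent.FGS80.Basic
import Mathlib.GroupTheory.Sylow
import Mathlib.GroupTheory.Solvable
import Mathlib.GroupTheory.Transfer
import Mathlib.GroupTheory.GroupAction.Quotient

/-!
# Coprime linear actions all of whose orbits have prime power size

`PowOrbits r H V`: every `H`-orbit on `V` has size a power of the prime `r`.  This file proves the
inheritance properties and the first facts about a minimal nonsolvable example.
-/

set_option autoImplicit false
set_option linter.unusedSectionVars false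

open Subgroup MulAction

namespace Cfsg.Agent.Baer19

universe u

/-- Every orbit has size a power of `r`. -/
def PowOrbits (r : ℕ) (H V : Type u) [Group H] [AddCommGroup V] [DistribMulAction H V] : Prop :=
  ∀ v : V, ∃ a : ℕ, (stabilizer H v).index = r ^ a

variable {r : ℕ} {H V : Type u} [Group H] [AddCommGroup V] [DistribMulAction H V]

theorem stabilizer_subgroup (M : Subgroup H) (v : V) :
    stabilizer M v = (stabilizer H v).subgroupOf M := by
  ext m; rfl

theorem faithful_subgroup [FaithfulSMul H V] (M : Subgroup H) : FaithfulSMul M V :=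
  ⟨fun h => Subtype.ext (eq_of_smul_eq_smul fun v : V => h v)⟩

theorem coprime_subgroup [Finite H] (hcop : (Nat.card H).Coprime (Nat.card V)) (M : Subgroup H) :
    (Nat.card M).Coprime (Nat.card V) :=
  hcop.coprime_dvd_left M.card_subgroup_dvd_card

theorem PowOrbits.of_dvd [Fact r.Prime] {H' W : Type u} [Group H'] [AddCommGroup W]
    [DistribMulAction H' W]
    (hd : ∀ w : W, ∃ a : ℕ, (stabilizer H' w).index ∣ r ^ a) : PowOrbits r H' W := fun w => by
  obtain ⟨a, ha⟩ := hd w
  obtain ⟨b, -, hb⟩ := (Nat.dvd_prime_pow Fact.out).mp ha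
  exact ⟨b, hb⟩

theorem PowOrbits.normal [Finite H] [Fact r.Prime] (h : PowOrbits r H V) (M : Subgroup H)
    [M.Normal] : PowOrbits r M V := by
  refine PowOrbits.of_dvd fun v => ?_
  obtain ⟨a, ha⟩ := h v
  refine ⟨a, ha ▸ ?_⟩
  rw [stabilizer_subgroup]
  exact FGS80.relIndex_dvd_index _ _

/-- A normal subgroup of order prime to `r` acts trivially. -/
theorem eq_bot_of_coprime [Finite H] [Fact r.Prime] [FaithfulSMul H V] (h : PowOrbits r H V)
    (M : Subgroup H) [M.Normal] (hM : ¬ r ∣ Nat.card M) : M = ⊥ := by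
  rw [eq_bot_iff]
  intro m hm
  rw [mem_bot]
  refine eq_of_smul_eq_smul fun v : V => ?_
  rw [one_smul]
  obtain ⟨a, ha⟩ := h v
  have h1 : (stabilizer H v).relIndex M ∣ r ^ a := ha ▸ FGS80.relIndex_dvd_index _ _
  have h2 : (stabilizer H v).relIndex M ∣ Nat.card M := index_dvd_card _
  have h3 := Nat.eq_one_of_dvd_coprimes
    (((Fact.out : r.Prime).coprime_iff_not_dvd.mpr hM).pow_left a) h1 h2
  exact mem_stabilizer_iff.mp (relIndex_eq_one.mp h3 hm)

omit [AddCommGroup V] [DistribMulAction H V] in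
theorem relIndex_le_index' [Finite H] (C T : Subgroup H) : C.relIndex T ≤ C.index :=
  relIndex_top_right C ▸ relIndex_le_of_le_right le_top
    (by rw [relIndex_top_right]; exact index_ne_zero_of_finite)

/-- In the stabiliser of a vector a Sylow `r`-subgroup has full index. -/
theorem relIndex_sylow [Finite H] [Fact r.Prime] (h : PowOrbits r H V) (R : Sylow r H) (v : V) :
    (stabilizer H v).relIndex (R : Subgroup H) = (stabilizer H v).index := by
  obtain ⟨a, ha⟩ := h v
  set C := stabilizer H v
  have hle : C.relIndex (R : Subgroup H) ≤ C.index := relIndex_le_index' _ _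
  refine le_antisymm hle ?_
  obtain ⟨b, hb⟩ := IsPGroup.iff_card.mp (R.2.to_subgroup (C.subgroupOf (R : Subgroup H)))
  have hdvd : r ^ (b + a) ∣ Nat.card (R : Subgroup H) := by
    refine R.pow_dvd_card_of_pow_dvd_card ?_
    rw [pow_add, ← C.card_mul_index, ha, ← hb]
    refine Nat.mul_dvd_mul ?_ dvd_rfl
    rw [← card_map_of_injective (Subgroup.subtype_injective _), subgroupOf_map_subtype]
    exact card_dvd_of_le inf_le_left
  have h1 := Nat.le_of_dvd Nat.card_pos hdvd
  rw [pow_add, ← hb, ← (C.subgroupOf (R : Subgroup H)).card_mul_index, ← ha] at h1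
  exact Nat.le_of_mul_le_mul_left h1 Nat.card_pos

/-- The orbits of a Sylow `r`-subgroup are the orbits of the whole group. -/
theorem exists_sylow_smul [Finite H] [Finite V] [Fact r.Prime] (h : PowOrbits r H V)
    (R : Sylow r H) (v : V) (g : H) : ∃ ρ ∈ (R : Subgroup H), ρ • v = g • v := by
  have hsub : orbit (R : Subgroup H) v ⊆ orbit H v := by
    rintro _ ⟨ρ, rfl⟩
    exact ⟨(ρ : H), rfl⟩
  have heq := Set.eq_of_subset_of_ncard_le hsub (le_of_eq (by
    rw [← index_stabilizer, ← index_stabilizer, stabilizer_subgroup]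
    exact (relIndex_sylow h R v).symm)) (Set.toFinite _)
  obtain ⟨ρ, hρ⟩ := (heq ▸ mem_orbit v g : g • v ∈ orbit (R : Subgroup H) v)
  exact ⟨ρ, ρ.2, hρ⟩

/-- The property is inherited by every subgroup containing a Sylow `r`-subgroup. -/
theorem PowOrbits.of_sylow_le [Finite H] [Fact r.Prime] (h : PowOrbits r H V) (R : Sylow r H)
    {T : Subgroup H} (hT : (R : Subgroup H) ≤ T) : PowOrbits r T V := by
  intro v
  obtain ⟨a, ha⟩ := h v
  refine ⟨a, ?_⟩
  rw [stabilizer_subgroup]
  show (stabilizer H v).relIndex T = r ^ a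
  refine le_antisymm (ha ▸ relIndex_le_index' _ _) ?_
  rw [← ha, ← relIndex_sylow h R v]
  exact relIndex_le_of_le_right hT (index_ne_zero_of_finite
    (H := (stabilizer H v).subgroupOf T))

/-- An additive subgroup stable under the action. -/
def Stable (H : Type u) {V : Type u} [Group H] [AddCommGroup V] [DistribMulAction H V]
    (W : AddSubgroup V) : Prop :=
  ∀ (h : H), ∀ w ∈ W, h • w ∈ W

/-- A minimal nonsolvable coprime faithful action with all orbits of `r`-power size. -/
structure MinCtx (r : ℕ) (H V : Type u) [Group H] [AddCommGroup V] [DistribMulAction H V] :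
    Prop where
  coprime : (Nat.card H).Coprime (Nat.card V)
  pow : PowOrbits r H V
  irr : ∀ W : AddSubgroup V, Stable H W → W = ⊥ ∨ W = ⊤
  perfect : commutator H = ⊤
  smaller : ∀ M : Subgroup H, M ≠ ⊤ → PowOrbits r M V → Group.IsSolvable M
  notsolv : ¬ Group.IsSolvable H

namespace MinCtx

variable [Finite H] [Finite V] [Fact r.Prime] [FaithfulSMul H V] (c : MinCtx r H V)
include c

theorem nontrivial_V : Nontrivial V := by
  by_contra hV
  rw [not_nontrivial_iff_subsingleton] at hV
  have : Subsingleton H := ⟨fun a b => eq_of_smul_eq_smul fun v : V => Subsingleton.elim _ _⟩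
  exact c.notsolv inferInstance

theorem dvd_card : r ∣ Nat.card H := by
  by_contra h
  have h1 := eq_bot_of_coprime c.pow (⊤ : Subgroup H) (by rwa [card_top])
  have : Subsingleton H := ⟨fun a b =>
    (mem_bot.mp (h1 ▸ mem_top a)).trans (mem_bot.mp (h1 ▸ mem_top b)).symm⟩
  exact c.notsolv inferInstance

theorem not_dvd_card_V : ¬ r ∣ Nat.card V := fun h =>
  (Fact.out : r.Prime).not_dvd_one (c.coprime ▸ Nat.dvd_gcd c.dvd_card h)

theorem sylow_ne_bot (R : Sylow r H) : (R : Subgroup H) ≠ ⊥ := R.ne_bot_of_dvd_card c.dvd_card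

theorem eq_top_of_sylow_stable (R : Sylow r H) {W : AddSubgroup V}
    (hW : ∀ ρ ∈ (R : Subgroup H), ∀ w ∈ W, ρ • w ∈ W) : W = ⊥ ∨ W = ⊤ := by
  refine c.irr W fun h w hw => ?_
  obtain ⟨ρ, hρ, he⟩ := exists_sylow_smul c.pow R w h
  exact he ▸ hW ρ hρ w hw

/-- A central element of a Sylow `r`-subgroup fixes only zero. -/
theorem fixed_eq_zero (R : Sylow r H) {z : H} (hz1 : z ≠ 1)
    (hzc : ∀ ρ ∈ (R : Subgroup H), ρ * z = z * ρ) {v : V} (hv : z • v = v) : v = 0 := by
  let W : AddSubgroup V :=
    { carrier := {w | z • w = w}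
      zero_mem' := smul_zero z
      add_mem' := fun {a b} (ha : z • a = a) (hb : z • b = b) => by
        show z • (a + b) = a + b
        rw [smul_add, ha, hb]
      neg_mem' := fun {a} (ha : z • a = a) => by
        show z • (-a) = -a
        rw [smul_neg, ha] }
  rcases c.eq_top_of_sylow_stable R (W := W) (fun ρ hρ w (hw : z • w = w) => by
    show z • ρ • w = ρ • w
    rw [← mul_smul, ← hzc ρ hρ, mul_smul, hw]) with h | h
  · exact AddSubgroup.mem_bot.mp (h ▸ (hv : v ∈ W))
  · refine absurd (eq_of_smul_eq_smul fun w : V => ?_) hz1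
    rw [one_smul]
    exact (h ▸ AddSubgroup.mem_top w : w ∈ W)

theorem solvable_normal {M : Subgroup H} [M.Normal] (hM : M ≠ ⊤) : Group.IsSolvable M :=
  c.smaller M hM (c.pow.normal M)

theorem exists_prime_exponent : ∃ q : ℕ, q.Prime ∧ q ≠ r ∧ ¬ q ∣ Nat.card H ∧ q ∣ Nat.card V ∧
    ∀ v : V, q • v = 0 := by
  have := c.nontrivial_V
  obtain ⟨q, hq, hqV⟩ := Nat.exists_prime_and_dvd (Finite.one_lt_card (α := V)).ne'
  have := Fact.mk hq
  have hqH : ¬ q ∣ Nat.card H := fun h => hq.not_dvd_one (c.coprime ▸ Nat.dvd_gcd h hqV)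
  refine ⟨q, hq, fun h => c.not_dvd_card_V (h ▸ hqV), hqH, hqV, ?_⟩
  let W : AddSubgroup V := (nsmulAddMonoidHom q : V →+ V).ker
  rcases c.irr W (fun h w (hw : q • w = 0) => by
    show q • h • w = 0
    refine (map_nsmul (DistribSMul.toAddMonoidHom V h) q w).symm.trans ?_
    show DistribSMul.toAddMonoidHom V h (q • w) = 0
    rw [hw, map_zero]) with h | h
  · obtain ⟨x, hx⟩ := exists_prime_addOrderOf_dvd_card' (G := V) q hqV
    have h1 : x ∈ W := by
      show q • x = 0
      rw [← hx]; exact addOrderOf_nsmul_eq_zero x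
    rw [h, AddSubgroup.mem_bot] at h1
    rw [h1, addOrderOf_zero] at hx
    exact absurd hx.symm hq.ne_one
  · exact fun v => (h ▸ AddSubgroup.mem_top v : v ∈ W)

end MinCtx

end Cfsg.Agent.Baer19
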