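import Cfsg.Agent.Baer19.CaseTwo
import Cfsg.Agent.Baer19.CaseOdd
import Cfsg.Agent.Lib.PGroup.NormalRankTwo

/-!
# Coprime linear groups with all orbits of `r`-power size are solvable
-/

set_option autoImplicit false
set_option linter.unusedSectionVars false

open Subgroup MulAction

namespace Cfsg.Agent.Baer19

universe u

/-- The action on a stable subgroup, as a map into the units of its endomorphism monoid. -/
def stableHom {H V : Type u} [Group H] [AddCommGroup V] [DistribMulAction H V]
    (W : AddSubgroup V) (hW : Stable H W) : H →* (AddMonoid.End W)ˣ :=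
  MonoidHom.toHomUnits
    { toFun := fun h => AddMonoidHom.mk' (fun w : W => (⟨h • (w : V), hW h w w.2⟩ : W))
        fun a b => Subtype.ext (smul_add h _ _)
      map_one' := AddMonoidHom.ext fun w => Subtype.ext (one_smul H _)
      map_mul' := fun a b => AddMonoidHom.ext fun w => Subtype.ext (mul_smul a b _) }

/-- The action on the quotient by a stable subgroup. -/
def stableQuotHom {H V : Type u} [Group H] [AddCommGroup V] [DistribMulAction H V]
    (W : AddSubgroup V) (hW : Stable H W) : H →* (AddMonoid.End (V ⧸ W))ˣ :=
  MonoidHom.toHomUnits
    { toFun := fun h =>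
        QuotientAddGroup.map W W (DistribSMul.toAddMonoidHom V h) fun w hw => hW h w hw
      map_one' := AddMonoidHom.ext fun x => by
        induction x using QuotientAddGroup.induction_on with
        | H v => exact congrArg QuotientAddGroup.mk (one_smul H v)
      map_mul' := fun a b => AddMonoidHom.ext fun x => by
        induction x using QuotientAddGroup.induction_on with
        | H v => exact congrArg QuotientAddGroup.mk (mul_smul a b v) }

theorem index_stabilizer_range_dvd {H W : Type u} [Group H] [Finite H] [AddCommGroup W]
    (f : H →* (AddMonoid.End W)ˣ) (w : W) (C : Subgroup H)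
    (hC : ∀ h ∈ C, (f h : AddMonoid.End W) w = w) :
    (stabilizer f.range w).index ∣ C.index := by
  refine dvd_trans (index_dvd_of_le ?_) (index_map_dvd C f.rangeRestrict_surjective)
  rintro _ ⟨h, hh, rfl⟩
  exact mem_stabilizer_iff.mpr (hC h hh)

set_option maxHeartbeats 2000000 in
theorem isSolvable_of_powOrbits_aux (r : ℕ) [Fact r.Prime] : ∀ (n : ℕ) (H V : Type u) [Group H]
    [AddCommGroup V] [DistribMulAction H V] [Finite H] [Finite V] [FaithfulSMul H V],
    Nat.card H + Nat.card V ≤ n → (Nat.card H).Coprime (Nat.card V) → PowOrbits r H V →
    Group.IsSolvable H := by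
  intro n
  induction n using Nat.strong_induction_on with
  | _ n ih =>
    intro H V _ _ _ _ _ _ hn hcop hpow
    by_contra hns
    have hsmaller : ∀ M : Subgroup H, M ≠ ⊤ → PowOrbits r M V → Group.IsSolvable M := by
      intro M hM hMp
      have : FaithfulSMul M V := faithful_subgroup M
      have hlt : Nat.card M < Nat.card H := lt_of_le_of_ne M.card_le_card_group
        fun h => hM (eq_top_of_card_eq M h)
      exact ih (Nat.card M + Nat.card V) (by omega) M V le_rfl (coprime_subgroup hcop M) hMp
    have hperf : commutator H = ⊤ := by
      by_contra hne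
      have hs := hsmaller _ hne (hpow.normal (commutator H))
      have : Group.IsSolvable (Abelianization H) := Group.isSolvable_of_comm mul_comm
      refine hns (Group.isSolvable_of_ker_le_range (commutator H).subtype
        (Abelianization.of (G := H)) ?_)
      rw [range_subtype, Abelianization.ker_of]
    have hirr : ∀ W : AddSubgroup V, Stable H W → W = ⊥ ∨ W = ⊤ := by
      intro W hW
      by_contra! hne
      refine hns ?_
      set f := stableHom W hW with hf
      set g := stableQuotHom W hW with hg
      have hW1 : 1 < Nat.card W := by
        rw [Finite.one_lt_card_iff_nontrivial]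
        exact (AddSubgroup.nontrivial_iff_ne_bot W).mpr hne.1
      have hW2 : Nat.card W < Nat.card V := lt_of_le_of_ne
        (Nat.card_le_card_of_injective _ W.subtype_injective)
        fun h => hne.2 (AddSubgroup.eq_top_of_card_eq W h)
      have hWV := AddSubgroup.card_eq_card_quotient_mul_card_addSubgroup W
      have hVW : Nat.card (V ⧸ W) < Nat.card V := by
        rw [hWV]
        exact lt_mul_of_one_lt_right Nat.card_pos hW1
      have hcardf : Nat.card f.range ∣ Nat.card H :=
        card_dvd_of_surjective _ f.rangeRestrict_surjective
      have hcardg : Nat.card g.range ∣ Nat.card H :=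
        card_dvd_of_surjective _ g.rangeRestrict_surjective
      have hHf := Nat.le_of_dvd Nat.card_pos hcardf
      have hHg := Nat.le_of_dvd Nat.card_pos hcardg
      have : Finite f.range := Finite.of_surjective _ f.rangeRestrict_surjective
      have : Finite g.range := Finite.of_surjective _ g.rangeRestrict_surjective
      have : Group.IsSolvable f.range := by
        refine ih (Nat.card f.range + Nat.card W) (by omega) f.range W le_rfl
          ((hcop.coprime_dvd_left hcardf).coprime_dvd_right
            (AddSubgroup.card_addSubgroup_dvd_card W)) (PowOrbits.of_dvd fun w => ?_)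
        obtain ⟨a, ha⟩ := hpow (w : V)
        exact ⟨a, ha ▸ index_stabilizer_range_dvd f w _ fun h hh => Subtype.ext hh⟩
      have : Group.IsSolvable g.range := by
        refine ih (Nat.card g.range + Nat.card (V ⧸ W)) (by omega) g.range (V ⧸ W) le_rfl
          ((hcop.coprime_dvd_left hcardg).coprime_dvd_right
            ⟨Nat.card W, hWV⟩) (PowOrbits.of_dvd fun x => ?_)
        obtain ⟨v, rfl⟩ := QuotientAddGroup.mk_surjective x
        obtain ⟨a, ha⟩ := hpow v
        refine ⟨a, ha ▸ index_stabilizer_range_dvd g _ _ fun h hh => ?_⟩
        show ((h • v : V) : V ⧸ W) = _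
        rw [mem_stabilizer_iff.mp hh]
      have hprod : Group.IsSolvable (f.range × g.range) :=
        Group.isSolvable_of_ker_le_range (hG' := ‹Group.IsSolvable f.range›)
          (hG'' := ‹Group.IsSolvable g.range›) (MonoidHom.inl f.range g.range)
          (MonoidHom.snd f.range g.range) fun x hx => ⟨x.1, Prod.ext rfl hx.symm⟩
      refine Group.isSolvable_of_isSolvable_injective
        (f := f.rangeRestrict.prod g.rangeRestrict) ?_
      rw [injective_iff_map_eq_one]
      intro h hh
      have h1 : f h = 1 := congrArg (fun p : f.range × g.range => (p.1 : (AddMonoid.End W)ˣ)) hh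
      have h2 : g h = 1 := congrArg (fun p : f.range × g.range => (p.2 : (AddMonoid.End (V ⧸ W))ˣ)) hh
      refine eq_of_smul_eq_smul fun v : V => ?_
      rw [one_smul]
      have hfix : ∀ w ∈ W, h • w = w := fun w hw =>
        congrArg Subtype.val (DFunLike.congr_fun (congrArg Units.val h1) (⟨w, hw⟩ : W))
      have hd : h • v - v ∈ W := by
        have h3 : ((h • v : V) : V ⧸ W) = (v : V ⧸ W) := DFunLike.congr_fun (congrArg Units.val h2) (v : V ⧸ W)
        exact (QuotientAddGroup.eq_iff_sub_mem).mp h3
      set w := h • v - v with hw
      have hiter : ∀ k : ℕ, h ^ k • v = v + k • w := by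
        intro k
        induction k with
        | zero => simp
        | succ k ihk =>
          rw [pow_succ', mul_smul, ihk, smul_add, hfix _ (nsmul_mem hd k), succ_nsmul' w,
            ← add_assoc, hw, add_sub_cancel]
      have h4 := hiter (orderOf h)
      rw [pow_orderOf_eq_one, one_smul, eq_comm, add_eq_left] at h4
      have h5 : addOrderOf w = 1 := Nat.eq_one_of_dvd_coprimes
        (hcop.coprime_dvd_left (orderOf_dvd_natCard h)) (addOrderOf_dvd_of_nsmul_eq_zero h4)
        (addOrderOf_dvd_natCard w)
      exact sub_eq_zero.mp (AddMonoid.addOrderOf_eq_one_iff.mp h5)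
    have c : MinCtx r H V := ⟨hcop, hpow, hirr, hperf, hsmaller, hns⟩
    obtain ⟨R⟩ := (inferInstance : Nonempty (Sylow r H))
    by_cases hr2 : r = 2
    · subst hr2
      exact c.false_two
    · by_cases hcyc : IsCyclic (R : Subgroup H)
      · exact c.false_cyclic hr2 R hcyc
      · obtain ⟨E, hEn, hEc, hEe, hEcard⟩ := PGroup.exists_normal_elementary_sq R.2 hr2 hcyc
        exact c.not_normal_elementary R E (hEn := hEn) hEc hEe hEcard

/-- A finite group acting faithfully and coprimely on a finite abelian group with all orbits of
`r`-power size is solvable. -/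
theorem isSolvable_of_powOrbits {r : ℕ} [Fact r.Prime] {H V : Type u} [Group H] [AddCommGroup V]
    [DistribMulAction H V] [Finite H] [Finite V] [FaithfulSMul H V]
    (hcop : (Nat.card H).Coprime (Nat.card V)) (hpow : PowOrbits r H V) : Group.IsSolvable H :=
  isSolvable_of_powOrbits_aux r _ H V le_rfl hcop hpow

end Cfsg.Agent.Baer19
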