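import Mathlib.GroupTheory.Index
import Mathlib.GroupTheory.SpecificGroups.Cyclic
import Cfsg.Agent.FGS80.Basic

/-!
# Two commuting elements with class sizes powers of different primes

If `x`, `y` commute, the classes of `x`, `y` and `x * y` have sizes `r ^ a`, `s ^ b`, `r ^ c` with
`r ≠ s`, and the order of `y` is prime to `r`, then `y` is central.
-/

set_option autoImplicit false

open Subgroup

namespace Cfsg.Agent.Baer19

variable {G : Type*} [Group G] [Finite G]

theorem index_inf_of_coprime {H K : Subgroup G} (h : H.index.Coprime K.index) :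
    (H ⊓ K).index = H.index * K.index :=
  le_antisymm index_inf_le <| Nat.le_of_dvd
    (Nat.pos_of_ne_zero index_ne_zero_of_finite)
    (h.mul_dvd_of_dvd_of_dvd (index_dvd_of_le inf_le_left) (index_dvd_of_le inf_le_right))

theorem relIndex_of_coprime {H K : Subgroup G} (h : H.index.Coprime K.index) :
    H.relIndex K = H.index := by
  have h1 := relIndex_mul_index (inf_le_right : H ⊓ K ≤ K)
  rw [inf_relIndex_right, index_inf_of_coprime h] at h1
  exact Nat.eq_of_mul_eq_mul_right (Nat.pos_of_ne_zero index_ne_zero_of_finite) h1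

/-- Subgroups of coprime indices factorise the group. -/
theorem exists_mul_of_coprime {H K : Subgroup G} (h : H.index.Coprime K.index) (g : G) :
    ∃ k ∈ K, ∃ u ∈ H, g = k * u := by
  let f : K ⧸ H.subgroupOf K → G ⧸ H :=
    Quotient.map' Subtype.val fun a b hab => by
      rw [QuotientGroup.leftRel_apply] at hab ⊢
      simpa [mem_subgroupOf] using hab
  have hf : Function.Injective f := by
    intro a b
    induction a using QuotientGroup.induction_on with | H a => ?_
    induction b using QuotientGroup.induction_on with | H b => ?_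
    intro hab
    have h1 : ((a : G) : G ⧸ H) = ((b : G) : G ⧸ H) := hab
    rw [QuotientGroup.eq] at h1 ⊢
    simpa [mem_subgroupOf] using h1
  have hsurj : Function.Surjective f := by
    refine ((Nat.bijective_iff_injective_and_card f).mpr ⟨hf, ?_⟩).2
    exact relIndex_of_coprime h
  obtain ⟨a, ha⟩ := hsurj (g : G ⧸ H)
  induction a using QuotientGroup.induction_on with | H a => ?_
  have h1 : ((a : G) : G ⧸ H) = (g : G ⧸ H) := ha
  rw [QuotientGroup.eq] at h1
  exact ⟨a, a.2, _, h1, (mul_inv_cancel_left _ _).symm⟩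

omit [Finite G] in
theorem ncard_conjugates (x : G) :
    (Set.range fun g : G => g * x * g⁻¹).ncard = (centralizer ({x} : Set G)).index := by
  rw [centralizer_eq_comap_stabilizer]
  refine Eq.trans ?_ (index_comap_of_surjective _ (ConjAct.toConjAct (G := G)).surjective).symm
  rw [MulAction.index_stabilizer]
  congr 1

theorem central_of_coprime_class {x y : G} (_hxy : Commute x y) {r s a b c : ℕ} (hr : r.Prime)
    (hs : s.Prime) (hrs : r ≠ s) (hx : (centralizer ({x} : Set G)).index = r ^ a)
    (hy : (centralizer ({y} : Set G)).index = s ^ b)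
    (hz : (centralizer ({x * y} : Set G)).index = r ^ c)
    (hord : ¬ r ∣ orderOf y) : y ∈ center G := by
  set A := centralizer ({x} : Set G)
  set B := centralizer ({y} : Set G)
  set C := centralizer ({x * y} : Set G)
  have hcrs : (r ^ a).Coprime (s ^ b) := Nat.Coprime.pow a b ((Nat.coprime_primes hr hs).mpr hrs)
  have hCB : C ⊓ B = A ⊓ B := by
    ext g
    simp only [A, B, C, mem_inf, mem_centralizer_singleton_iff]
    constructor
    · rintro ⟨h1, h2⟩
      refine ⟨mul_right_cancel (b := y) ?_, h2⟩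
      rw [mul_assoc, h1, mul_assoc, ← h2, ← mul_assoc]
    · rintro ⟨h1, h2⟩
      exact ⟨by rw [← mul_assoc, h1, mul_assoc, h2, ← mul_assoc], h2⟩
  have hca : r ^ c = r ^ a := by
    have h1 := index_inf_of_coprime (H := C) (K := B)
      (by rw [hz, hy]; exact Nat.Coprime.pow c b ((Nat.coprime_primes hr hs).mpr hrs))
    rw [hCB, index_inf_of_coprime (by rw [hx, hy]; exact hcrs), hx, hy, hz] at h1
    exact (Nat.eq_of_mul_eq_mul_right (Nat.pow_pos hs.pos) h1).symm
  let S := Set.range fun g : G => g * x * g⁻¹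
  let T := Set.range fun g : G => g * (x * y) * g⁻¹
  have hSy : (fun u => u * y) '' S = T := by
    refine Set.eq_of_subset_of_ncard_le ?_ ?_ (Set.toFinite _)
    · rintro _ ⟨_, ⟨g, rfl⟩, rfl⟩
      obtain ⟨k, hk, u, hu, rfl⟩ := exists_mul_of_coprime (H := A) (K := B)
        (by rw [hx, hy]; exact hcrs) g
      refine ⟨k, ?_⟩
      rw [mem_centralizer_singleton_iff] at hk hu
      show k * (x * y) * k⁻¹ = k * u * x * (k * u)⁻¹ * y
      have e1 : k * u * x * (k * u)⁻¹ = k * x * k⁻¹ := by
        rw [mul_assoc k u, hu]; group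
      have e2 : k⁻¹ * y = y * k⁻¹ := ((show Commute k y from hk).inv_left).eq
      rw [e1, mul_assoc (k * x), e2]
      group
    · rw [Set.ncard_image_of_injective _ (mul_left_injective y), ncard_conjugates,
        ncard_conjugates]
      exact (hz.trans hca).trans hx.symm |>.le
  have hS : ∀ h v, h * v * h⁻¹ ∈ S ↔ v ∈ S := fun h v => by
    constructor
    · rintro ⟨g, hg⟩
      exact ⟨h⁻¹ * g, by
        show h⁻¹ * g * x * (h⁻¹ * g)⁻¹ = v
        have hg' : g * x * g⁻¹ = h * v * h⁻¹ := hg
        calc h⁻¹ * g * x * (h⁻¹ * g)⁻¹ = h⁻¹ * (g * x * g⁻¹) * h := by group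
          _ = _ := by rw [hg']; group⟩
    · rintro ⟨g, rfl⟩
      exact ⟨h * g, by group⟩
  -- the right multipliers of the class of `x`
  let U : Subgroup G :=
    { carrier := {d | ∀ v, v * d ∈ S ↔ v ∈ S}
      one_mem' := fun v => by rw [mul_one]
      mul_mem' := fun {d e} hd he v => by rw [← mul_assoc, he, hd]
      inv_mem' := fun {d} hd v => by
        have := hd (v * d⁻¹)
        rw [inv_mul_cancel_right] at this
        exact this.symm }
  have hUn : U.Normal := ⟨fun d hd h v => by
    have e : v * (h * d * h⁻¹) = h * (h⁻¹ * v * h * d) * h⁻¹ := by group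
    rw [e, hS, hd, ← hS h, show h * (h⁻¹ * v * h) * h⁻¹ = v by group]⟩
  have hUcard : Nat.card U ∣ S.ncard := by
    have e : QuotientGroup.mk ⁻¹' ((QuotientGroup.mk : G → G ⧸ U) '' S) = S := by
      refine Set.Subset.antisymm ?_ (Set.subset_preimage_image _ _)
      rintro v ⟨u, hu, huv⟩
      rw [QuotientGroup.eq] at huv
      have := (huv u).mpr hu
      rwa [mul_inv_cancel_left] at this
    refine ⟨((QuotientGroup.mk : G → G ⧸ U) '' S).ncard, ?_⟩
    rw [← Nat.card_coe_set_eq, ← Nat.card_coe_set_eq, ← Nat.card_prod]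
    exact (Nat.card_congr (Equiv.setCongr e.symm)).trans
      (Nat.card_congr (QuotientGroup.preimageMkEquivSubgroupProdSet U _))
  rw [ncard_conjugates, show (centralizer ({x} : Set G)).index = r ^ a from hx] at hUcard
  -- `y` centralises this subgroup
  have hyU : ∀ d ∈ U, d * y = y * d := by
    intro d hd
    have h1 : B.relIndex U ∣ s ^ b := hy ▸ FGS80.relIndex_dvd_index B U
    have h2 : B.relIndex U ∣ r ^ a := (index_dvd_card _).trans hUcard
    have h3 : B.relIndex U = 1 := Nat.eq_one_of_dvd_coprimes hcrs h2 h1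
    exact mem_centralizer_singleton_iff.mp (relIndex_eq_one.mp h3 hd)
  -- the conjugates of `y` differ from `y` by elements of this subgroup
  refine mem_center_iff.mpr fun h => ?_
  set d := h * y * h⁻¹ * y⁻¹ with hd
  have hdU : d ∈ U := by
    intro v
    have hTh : ∀ w, h * w * h⁻¹ ∈ T ↔ w ∈ T := fun w => by
      constructor
      · rintro ⟨g, hg⟩
        exact ⟨h⁻¹ * g, by
          show h⁻¹ * g * (x * y) * (h⁻¹ * g)⁻¹ = w
          have hg' : g * (x * y) * g⁻¹ = h * w * h⁻¹ := hg
          calc h⁻¹ * g * (x * y) * (h⁻¹ * g)⁻¹ = h⁻¹ * (g * (x * y) * g⁻¹) * h := by group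
            _ = _ := by rw [hg']; group⟩
      · rintro ⟨g, rfl⟩
        exact ⟨h * g, by group⟩
    have key : ∀ w, w * y ∈ T ↔ w ∈ S := fun w => by
      rw [← hSy]
      exact Function.Injective.mem_set_image (mul_left_injective y)
    have e : v * d * y = v * (h * y * h⁻¹) := by rw [hd]; group
    rw [← key, e, show v * (h * y * h⁻¹) = h * (h⁻¹ * v * h * y) * h⁻¹ by group, hTh, key, ← hS h,
      show h * (h⁻¹ * v * h) * h⁻¹ = v by group]
  have hdy : Commute d y := hyU d hdU
  have h1 : (d * y) ^ orderOf y = 1 := by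
    rw [show d * y = h * y * h⁻¹ by rw [hd]; group, conj_pow, pow_orderOf_eq_one, mul_one,
      mul_inv_cancel]
  rw [hdy.mul_pow, pow_orderOf_eq_one, mul_one] at h1
  have h2 : orderOf d ∣ orderOf y := orderOf_dvd_of_pow_eq_one h1
  have h3 : orderOf d ∣ r ^ a := (orderOf_dvd_natCard U hdU).trans hUcard
  have h4 : d = 1 := by
    obtain ⟨i, -, hi⟩ := (Nat.dvd_prime_pow hr).mp h3
    rcases i with _ | i
    · exact orderOf_eq_one_iff.mp (by rw [hi, pow_zero])
    · exact absurd ((dvd_pow_self r i.succ_ne_zero).trans (hi ▸ h2)) hord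
  rw [hd, mul_inv_eq_one, mul_inv_eq_iff_eq_mul] at h4
  exact h4

end Cfsg.Agent.Baer19
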