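import Cfsg.Agent.Baer19.OrbitMain
import Cfsg.Agent.Baer19.Pair
import Cfsg.Agent.Kazarin19.PCore
import Mathlib.GroupTheory.SchurZassenhaus

/-!
# Baer's `q`-groups: every `q`-element has a class of prime power size

The structure theorem: `q`-length one, a single prime `p` serves for all `q`-elements, and the
dichotomy `p = q` (normal Sylow subgroup with normal complement) or `p ≠ q` (abelian Sylow subgroup,
solvable quotient by the `q'`-core).
-/

set_option autoImplicit false
set_option linter.unusedSectionVars false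

open Subgroup

namespace Cfsg.Agent.Baer19

universe u

variable {G : Type u} [Group G] [Finite G] {q : ℕ} [hq : Fact q.Prime]

theorem mem_pCore_of_commute_conj {x : G} {k : ℕ} (hx : x ^ (q ^ k) = 1)
    (hc : ∀ g h : G, Commute (g * x * g⁻¹) (h * x * h⁻¹)) : x ∈ Cfsg.pCore q G := by
  set S : Set G := Group.conjugatesOfSet ({x} : Set G) with hS
  have hSconj : ∀ y ∈ S, ∃ g : G, y = g * x * g⁻¹ := by
    intro y hy
    obtain ⟨a, ha, hay⟩ := Group.mem_conjugatesOfSet_iff.mp hy
    rw [Set.mem_singleton_iff] at ha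
    subst ha
    obtain ⟨g, hg⟩ := isConj_iff.mp hay
    exact ⟨g, hg.symm⟩
  have hcl : normalClosure ({x} : Set G) = closure S := rfl
  have hcomm : ∀ a ∈ closure S, ∀ b ∈ closure S, Commute a b := by
    intro a ha b hb
    have h1 : closure S ≤ centralizer S := by
      rw [closure_le]
      intro y hy z hz
      obtain ⟨g, rfl⟩ := hSconj y hy
      obtain ⟨h, rfl⟩ := hSconj z hz
      exact (hc h g).eq
    have h2 : closure S ≤ centralizer (closure S : Set G) := le_centralizer_iff.mp
      (by rwa [← centralizer_closure] at h1)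
    exact h2 hb a ha
  have hp : IsPGroup q (normalClosure ({x} : Set G)) := by
    rintro ⟨a, ha⟩
    have ha' : a ∈ closure S := hcl ▸ ha
    refine ⟨k, Subtype.ext ?_⟩
    show a ^ (q ^ k) = 1
    clear ha
    induction ha' using closure_induction with
    | mem y hy =>
      obtain ⟨g, rfl⟩ := hSconj y hy
      rw [conj_pow, hx, mul_one, mul_inv_cancel]
    | one => exact one_pow _
    | mul a b ha hb iha ihb => rw [(hcomm a ha b hb).mul_pow, iha, ihb, one_mul]
    | inv a _ iha => rw [inv_pow, iha, inv_one]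
  exact Thompson.le_pCore normalClosure_normal hp (subset_normalClosure rfl)

theorem map_mem_pCore {H : Type u} [Group H] [Finite H] (f : G →* H) (hf : Function.Surjective f)
    {r a k : ℕ} [Fact r.Prime] {x : G} (hx : x ^ (q ^ k) = 1)
    (hind : (centralizer ({x} : Set G)).index = r ^ a) (hker : Cfsg.pCore r G ≤ f.ker) :
    f x ∈ Cfsg.pCore q H := by
  refine mem_pCore_of_commute_conj (k := k) (by rw [← map_pow, hx, map_one]) fun g h => ?_
  obtain ⟨g', rfl⟩ := hf g
  obtain ⟨h', rfl⟩ := hf h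
  have h1 := hker (Kazarin19.commutator_conj_mem_pCore x hind g' h')
  rw [MonoidHom.mem_ker] at h1
  simp only [map_mul, map_inv] at h1
  rw [mul_inv_eq_one, mul_inv_eq_iff_eq_mul] at h1
  exact h1

theorem exists_pow_eq_one {Q : Sylow q G} {x : G} (hx : x ∈ (Q : Subgroup G)) :
    ∃ k : ℕ, orderOf x = q ^ k := by
  obtain ⟨k, hk⟩ := IsPGroup.iff_orderOf.mp Q.2 ⟨x, hx⟩
  exact ⟨k, by rwa [orderOf_mk] at hk⟩

theorem pCore_le_pPrimeCore {r : ℕ} [hr : Fact r.Prime] (hrq : r ≠ q) :
    Cfsg.pCore r G ≤ Cfsg.pPrimeCore q G := by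
  obtain ⟨n, hn⟩ := IsPGroup.iff_card.mp (Thompson.isPGroup_pCore (p := r) (G := G))
  exact Thompson.le_pPrimeCore inferInstance
    (hn ▸ Nat.Coprime.pow_left n ((Nat.coprime_primes hr.out hq.out).mpr hrq))

theorem index_centralizer_conj (x g : G) :
    (centralizer ({g * x * g⁻¹} : Set G)).index = (centralizer ({x} : Set G)).index := by
  rw [← ncard_conjugates, ← ncard_conjugates]
  congr 1
  ext y
  constructor
  · rintro ⟨h, rfl⟩
    exact ⟨h * g, by group⟩
  · rintro ⟨h, rfl⟩
    exact ⟨h * g⁻¹, by group⟩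

variable (hB : ∀ x : G, (∃ k : ℕ, orderOf x = q ^ k) →
  ∃ (r : ℕ) (a : ℕ), r.Prime ∧ (centralizer ({x} : Set G)).index = r ^ a) (Q : Sylow q G)

include hB

theorem mem_pCore_quotient {x : G} (hx : ∃ k : ℕ, orderOf x = q ^ k) :
    QuotientGroup.mk' (Cfsg.pPrimeCore q G) x ∈
      Cfsg.pCore q (G ⧸ Cfsg.pPrimeCore q G) := by
  obtain ⟨k, hk⟩ := hx
  obtain ⟨r, a, hr, ha⟩ := hB x ⟨k, hk⟩
  have := Fact.mk hr
  have hxk : x ^ (q ^ k) = 1 := hk ▸ pow_orderOf_eq_one x
  by_cases hrq : r = q
  · subst hrq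
    have h1 : QuotientGroup.mk' (Cfsg.pCore r G) x ∈ Cfsg.pCore r (G ⧸ Cfsg.pCore r G) :=
      map_mem_pCore _ (QuotientGroup.mk'_surjective _) hxk ha (QuotientGroup.ker_mk' _).ge
    rw [Thompson.pCore_quotient_pCore, mem_bot, QuotientGroup.mk'_apply,
      QuotientGroup.eq_one_iff] at h1
    exact Thompson.map_pCore_le_of_surjective _ (QuotientGroup.mk'_surjective _) ⟨x, h1, rfl⟩
  · exact map_mem_pCore _ (QuotientGroup.mk'_surjective _) hxk ha
      ((pCore_le_pPrimeCore hrq).trans (QuotientGroup.ker_mk' _).ge)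

theorem map_sylow_eq_pCore :
    (Q : Subgroup G).map (QuotientGroup.mk' (Cfsg.pPrimeCore q G)) =
      Cfsg.pCore q (G ⧸ Cfsg.pPrimeCore q G) := by
  refine le_antisymm ?_ ?_
  · rintro _ ⟨x, hx, rfl⟩
    exact mem_pCore_quotient hB (exists_pow_eq_one hx)
  · exact Thompson.pCore_le_sylow (Q.mapSurjective (QuotientGroup.mk'_surjective _))

/-- `q`-length one. -/
theorem exists_qLength_one : ∃ K L : Subgroup G, K.Normal ∧ L.Normal ∧ K ≤ L ∧
    (Nat.card K).Coprime q ∧ (∃ m : ℕ, K.relIndex L = q ^ m) ∧ L.index.Coprime q := by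
  obtain ⟨Q⟩ : Nonempty (Sylow q G) := inferInstance
  set π := QuotientGroup.mk' (Cfsg.pPrimeCore q G) with hπ
  have hk : π.ker = Cfsg.pPrimeCore q G := QuotientGroup.ker_mk' _
  refine ⟨Cfsg.pPrimeCore q G, (Cfsg.pCore q (G ⧸ Cfsg.pPrimeCore q G)).comap π, inferInstance,
    inferInstance, (QuotientGroup.ker_mk' _).ge.trans (ker_le_comap _ _), Thompson.card_pPrimeCore_coprime, ?_, ?_⟩
  · obtain ⟨m, hm⟩ := IsPGroup.iff_card.mp
      (Thompson.isPGroup_pCore (p := q) (G := G ⧸ Cfsg.pPrimeCore q G))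
    refine ⟨m, ?_⟩
    conv_lhs => arg 1; rw [← hk, ← MonoidHom.comap_bot]
    rw [relIndex_comap, map_comap_eq_self_of_surjective (QuotientGroup.mk'_surjective _),
      relIndex_bot_left, hm]
  · have hle : (Q : Subgroup G) ≤ (Cfsg.pCore q (G ⧸ Cfsg.pPrimeCore q G)).comap π := by
      rw [← map_le_iff_le_comap, hπ, map_sylow_eq_pCore hB Q]
    exact ((hq.out.coprime_iff_not_dvd.mpr Q.not_dvd_index).symm).coprime_dvd_left
      (index_dvd_of_le hle)

theorem commute_of_index_ne {r a : ℕ} (hr : r.Prime) (hrq : r ≠ q) {x : G}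
    (hx : x ∈ (Q : Subgroup G)) (ha : (centralizer ({x} : Set G)).index = r ^ a) {y : G}
    (hy : y ∈ (Q : Subgroup G)) : Commute x y := by
  set K := Cfsg.pPrimeCore q G
  set π := QuotientGroup.mk' K with hπ
  set P := Cfsg.pCore q (G ⧸ K)
  have h1 : (centralizer ({π x} : Set (G ⧸ K))).relIndex P ∣ r ^ a :=
    (FGS80.relIndex_dvd_index _ _).trans
      (ha ▸ Kazarin19.index_centralizer_map_dvd π (QuotientGroup.mk'_surjective _) x)
  have h2 : (centralizer ({π x} : Set (G ⧸ K))).relIndex P ∣ Nat.card P := index_dvd_card _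
  obtain ⟨m, hm⟩ := IsPGroup.iff_card.mp (Thompson.isPGroup_pCore (p := q) (G := G ⧸ K))
  rw [show Nat.card P = q ^ m from hm] at h2
  have h3 := relIndex_eq_one.mp (Nat.eq_one_of_dvd_coprimes
    (Nat.Coprime.pow a m ((Nat.coprime_primes hr hq.out).mpr hrq)) h1 h2)
    (mem_pCore_quotient hB (exists_pow_eq_one hy))
  rw [mem_centralizer_singleton_iff] at h3
  have h4 : x * y * x⁻¹ * y⁻¹ ∈ K := by
    rw [← QuotientGroup.eq_one_iff]
    show π _ = 1
    simp only [map_mul, map_inv]
    rw [← hπ] at *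
    rw [← h3]
    group
  have h5 : x * y * x⁻¹ * y⁻¹ ∈ (Q : Subgroup G) :=
    mul_mem (mul_mem (mul_mem hx hy) (inv_mem hx)) (inv_mem hy)
  obtain ⟨k, hk⟩ := exists_pow_eq_one h5
  have h6 : orderOf (x * y * x⁻¹ * y⁻¹) = 1 := Nat.eq_one_of_dvd_coprimes
    ((Thompson.card_pPrimeCore_coprime (p := q) (G := G)).pow_right k)
    (orderOf_dvd_natCard K h4) hk.dvd
  rw [orderOf_eq_one_iff, mul_inv_eq_one, mul_inv_eq_iff_eq_mul] at h6
  exact h6

theorem mem_center_of_index_eq {a : ℕ} {x : G} (ha : (centralizer ({x} : Set G)).index = q ^ a)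
    (hc : ∀ y ∈ (Q : Subgroup G), Commute x y) : x ∈ center G := by
  have h1 : (centralizer ({x} : Set G)).index ∣ (Q : Subgroup G).index :=
    index_dvd_of_le fun y hy => mem_centralizer_singleton_iff.mpr (hc y hy).eq.symm
  have h2 : (centralizer ({x} : Set G)).index = 1 := Nat.eq_one_of_dvd_coprimes
    ((hq.out.coprime_iff_not_dvd.mpr Q.not_dvd_index).pow_left a) ha.dvd h1
  rw [index_eq_one] at h2
  exact mem_center_iff.mpr fun g => mem_centralizer_singleton_iff.mp (h2 ▸ mem_top g)

theorem index_of_forall_sylow {p : ℕ}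
    (h : ∀ x ∈ (Q : Subgroup G), ∃ a : ℕ, (centralizer ({x} : Set G)).index = p ^ a) :
    ∀ x : G, (∃ k : ℕ, orderOf x = q ^ k) →
      ∃ a : ℕ, (centralizer ({x} : Set G)).index = p ^ a := by
  rintro x ⟨k, hk⟩
  have hz : IsPGroup q (zpowers x) := IsPGroup.of_card (n := k) (by rw [Nat.card_zpowers, hk])
  obtain ⟨P, hP⟩ := hz.exists_le_sylow
  obtain ⟨g, hg⟩ := MulAction.exists_smul_eq G P Q
  have hmem : g * x * g⁻¹ ∈ (Q : Subgroup G) := by
    rw [← hg, Sylow.coe_subgroup_smul]
    exact smul_mem_pointwise_smul x (MulAut.conj g) (P : Subgroup G) (hP (mem_zpowers x))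
  obtain ⟨a, ha⟩ := h _ hmem
  exact ⟨a, (index_centralizer_conj x g).symm.trans ha⟩

omit hB in
theorem exists_normal_complement_of_forall_commute (H : Subgroup G)
    (hH : H.IsComplement' (Q : Subgroup G))
    (hc : ∀ y ∈ (Q : Subgroup G), ∀ h ∈ H, Commute y h) : H.Normal := by
  refine normalizer_eq_top_iff.mp (top_le_iff.mp ?_)
  rw [← hH.sup_eq_top]
  refine sup_le le_normalizer fun y hy => mem_normalizer_iff.mpr fun h => ?_
  constructor
  · intro hh
    rw [(hc y hy h hh).eq, mul_inv_cancel_right]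
    exact hh
  · intro hh
    have h1 := (hc y hy _ hh).eq
    rw [inv_mul_cancel_right] at h1
    have h2 : y * h * y⁻¹ = h := mul_left_cancel h1
    rwa [h2] at hh

theorem structure_nonabelian {x0 y0 : G} (hx0 : x0 ∈ (Q : Subgroup G))
    (hy0 : y0 ∈ (Q : Subgroup G)) (hne : ¬ Commute x0 y0) :
    (Q : Subgroup G).Normal ∧
      (∃ N : Subgroup G, N.Normal ∧ N.IsComplement' (Q : Subgroup G)) ∧
      ∀ x ∈ (Q : Subgroup G), ∃ a : ℕ, (centralizer ({x} : Set G)).index = q ^ a := by
  have hind : ∀ x ∈ (Q : Subgroup G), (∃ y ∈ (Q : Subgroup G), ¬ Commute x y) →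
      ∃ a : ℕ, (centralizer ({x} : Set G)).index = q ^ a := by
    rintro x hx ⟨y, hy, hxy⟩
    obtain ⟨r, a, hr, ha⟩ := hB x (exists_pow_eq_one hx)
    by_cases hrq : r = q
    · exact ⟨a, hrq ▸ ha⟩
    · exact absurd (commute_of_index_ne hB Q hr hrq hx ha hy) hxy
  have hcore : ∀ x ∈ (Q : Subgroup G), x ∈ Cfsg.pCore q G := by
    have h1 : ∀ x ∈ (Q : Subgroup G), (∃ y ∈ (Q : Subgroup G), ¬ Commute x y) →
        x ∈ Cfsg.pCore q G := by
      intro x hx hxy
      obtain ⟨a, ha⟩ := hind x hx hxy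
      obtain ⟨k, hk⟩ := exists_pow_eq_one hx
      have h1 : QuotientGroup.mk' (Cfsg.pCore q G) x ∈ Cfsg.pCore q (G ⧸ Cfsg.pCore q G) :=
        map_mem_pCore _ (QuotientGroup.mk'_surjective _) (hk ▸ pow_orderOf_eq_one x) ha
          (QuotientGroup.ker_mk' _).ge
      rwa [Thompson.pCore_quotient_pCore, mem_bot, QuotientGroup.mk'_apply,
        QuotientGroup.eq_one_iff] at h1
    intro x hx
    by_cases hxy : ∃ y ∈ (Q : Subgroup G), ¬ Commute x y
    · exact h1 x hx hxy
    · push Not at hxy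
      have h2 := h1 (x * x0) (mul_mem hx hx0) ⟨y0, hy0, fun h => hne
        (by simpa using (Commute.inv_left (hxy y0 hy0)).mul_left h)⟩
      exact (mul_mem_cancel_right (h1 x0 hx0 ⟨y0, hy0, hne⟩)).mp h2
  have hQn : (Q : Subgroup G).Normal := by
    rw [show (Q : Subgroup G) = Cfsg.pCore q G from
      le_antisymm hcore (Thompson.pCore_le_sylow Q)]
    infer_instance
  have hcent : ∀ (r : ℕ) [Fact r.Prime], r ≠ q → ∀ g : G, (∃ k : ℕ, orderOf g = r ^ k) →
      ∀ y ∈ (Q : Subgroup G), Commute g y := by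
    intro r _ hrq g hg
    obtain ⟨k, hk⟩ := hg
    have hconj : ∀ y ∈ (Q : Subgroup G), (∃ z ∈ (Q : Subgroup G), ¬ Commute y z) →
        ∃ w ∈ (Q : Subgroup G), Commute g (w * y * w⁻¹) := by
      intro y hy hyz
      obtain ⟨a, ha⟩ := hind y hy hyz
      set C := centralizer ({y} : Set G)
      obtain ⟨P⟩ := (inferInstance : Nonempty (Sylow r C))
      have hP' : IsPGroup r ((P : Subgroup C).map C.subtype) := P.2.map _
      have hPi : ¬ r ∣ ((P : Subgroup C).map C.subtype).index := by
        rw [index_map_subtype, ha]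
        intro h
        rcases (Nat.Prime.dvd_mul Fact.out).mp h with h | h
        · exact P.not_dvd_index h
        · exact hrq ((Nat.prime_dvd_prime_iff_eq Fact.out hq.out).mp
            ((Fact.out : r.Prime).dvd_of_dvd_pow h))
      obtain ⟨R, hR⟩ := (IsPGroup.of_card (n := k)
        (by rw [Nat.card_zpowers, hk]) : IsPGroup r (zpowers g)).exists_le_sylow
      obtain ⟨h, hh⟩ := MulAction.exists_smul_eq G R (hP'.toSylow hPi)
      have hm : h * g * h⁻¹ ∈ C := by
        refine map_subtype_le (P : Subgroup C) ?_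
        show h * g * h⁻¹ ∈ ((hP'.toSylow hPi : Sylow r G) : Subgroup G)
        rw [← hh, Sylow.coe_subgroup_smul]
        exact smul_mem_pointwise_smul g (MulAut.conj h) (R : Subgroup G) (hR (mem_zpowers g))
      obtain ⟨c, hc, u, hu, rfl⟩ := exists_mul_of_coprime (H := (Q : Subgroup G)) (K := C)
        (by
          rw [ha]
          exact ((hq.out.coprime_iff_not_dvd.mpr Q.not_dvd_index).symm).pow_right a) h
      rw [mem_centralizer_singleton_iff] at hm hc
      refine ⟨u⁻¹, inv_mem hu, ?_⟩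
      rw [inv_inv]
      have e1 : Commute (c⁻¹ * (c * u * g * (c * u)⁻¹) * c) y :=
        ((show Commute c y from hc).inv_left.mul_left hm).mul_left hc
      rw [show c⁻¹ * (c * u * g * (c * u)⁻¹) * c = u * g * u⁻¹ by group] at e1
      have e2 := congrArg (fun t => u⁻¹ * t * u) e1.eq
      simp only [mul_assoc, inv_mul_cancel_left, inv_mul_cancel, mul_one] at e2
      simpa [Commute, SemiconjBy, mul_assoc] using e2
    -- inside the `q`-group
    set Z := center (Q : Subgroup G) with hZ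
    set T := (centralizer ({g} : Set G)).subgroupOf (Q : Subgroup G) with hT
    have hout : ∀ y : (Q : Subgroup G), y ∉ Z →
        ∃ w : (Q : Subgroup G), w * y * w⁻¹ ∈ T := by
      intro y hy
      rw [hZ, mem_center_iff] at hy
      push Not at hy
      obtain ⟨z, hz⟩ := hy
      obtain ⟨w, hw, hcw⟩ := hconj y y.2 ⟨z, z.2, fun h => hz (Subtype.ext h.eq.symm)⟩
      exact ⟨⟨w, hw⟩, mem_subgroupOf.mpr (mem_centralizer_singleton_iff.mpr hcw.eq.symm)⟩
    have hsup : T ⊔ Z = ⊤ := by
      rcases eq_top_or_exists_le_coatom (T ⊔ Z) with h | ⟨M, hM, hle⟩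
      · exact h
      · have : Group.IsNilpotent (Q : Subgroup G) := Q.2.isNilpotent
        have : M.Normal :=
          Subgroup.NormalizerCondition.normal_of_coatom M
            Group.normalizerCondition_of_isNilpotent hM
        refine absurd (top_le_iff.mp fun y _ => ?_) hM.1
        by_cases hy : y ∈ Z
        · exact hle (mem_sup_right hy)
        · obtain ⟨w, hw⟩ := hout y hy
          have := Subgroup.Normal.conj_mem' ‹M.Normal› _ (hle (mem_sup_left hw)) w
          simpa [mul_assoc] using this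
    have hTt : ∀ y, y ∈ T := by
      have hdec : ∀ w : (Q : Subgroup G), ∃ t ∈ T, ∃ z ∈ Z, t * z = w := fun w =>
        mem_sup_of_normal_right.mp (hsup ▸ mem_top w)
      have hzc : ∀ z ∈ Z, ∀ v : (Q : Subgroup G), v * z = z * v := fun z hz v =>
        (mem_center_iff.mp (hZ ▸ hz)) v
      obtain ⟨t0, ht0, ht0Z⟩ : ∃ t ∈ T, t ∉ Z := by
        by_contra! hall
        have htop : ∀ w, w ∈ Z := fun w => by
          obtain ⟨t, ht, z, hz, rfl⟩ := hdec w
          exact mul_mem (hall t ht) hz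
        exact hne (congrArg Subtype.val
          (hzc _ (htop ⟨y0, hy0⟩) (⟨x0, hx0⟩ : (Q : Subgroup G))))
      have hZT : ∀ z ∈ Z, z ∈ T := by
        intro z hz
        obtain ⟨w, hw⟩ := hout (z * t0) fun h => ht0Z ((mul_mem_cancel_left hz).mp h)
        obtain ⟨t, ht, z', hz', rfl⟩ := hdec w
        have e : t * z' * (z * t0) * (t * z')⁻¹ = t * (z * t0) * t⁻¹ := by
          rw [mul_assoc t z', ← hzc z' hz' (z * t0)]
          group
        rw [e] at hw
        have h2 := mul_mem (mul_mem (inv_mem ht) hw) ht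
        rw [show t⁻¹ * (t * (z * t0) * t⁻¹) * t = z * t0 by group] at h2
        exact (mul_mem_cancel_right ht0).mp h2
      intro y
      obtain ⟨t, ht, z, hz, rfl⟩ := hdec y
      exact mul_mem ht (hZT z hz)
    intro y hy
    exact (mem_centralizer_singleton_iff.mp (mem_subgroupOf.mp (hTt ⟨y, hy⟩))).symm
  have := hQn
  set C := centralizer ((Q : Subgroup G) : Set G) with hC
  have hCi : ∀ r : ℕ, r.Prime → r ≠ q → ¬ r ∣ C.index := by
    intro r hr hrq hd
    have := Fact.mk hr
    obtain ⟨R⟩ := (inferInstance : Nonempty (Sylow r G))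
    refine R.not_dvd_index (hd.trans (index_dvd_of_le fun g hg => ?_))
    obtain ⟨k, hk⟩ := IsPGroup.iff_orderOf.mp R.2 ⟨g, hg⟩
    exact fun y hy => (hcent r hrq g ⟨k, by rwa [orderOf_mk] at hk⟩ y hy).eq.symm
  obtain ⟨H, hH⟩ := exists_left_complement'_of_coprime (N := (Q : Subgroup G)) Q.card_coprime_index
  have hHC : H ≤ C := by
    intro h hh
    have h1 : orderOf (QuotientGroup.mk' C h) ∣ Nat.card H :=
      (orderOf_map_dvd _ h).trans (orderOf_dvd_natCard H hh)
    have h2 : orderOf (QuotientGroup.mk' C h) ∣ C.index := orderOf_dvd_natCard _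
    rw [← QuotientGroup.eq_one_iff, ← QuotientGroup.mk'_apply, ← orderOf_eq_one_iff]
    refine Nat.eq_one_of_dvd_coprimes ?_ h1 h2
    refine Nat.coprime_of_dvd fun r hr hrH hrC => ?_
    by_cases hrq : r = q
    · subst hrq
      exact Q.not_dvd_index (hH.index_eq_card ▸ hrH)
    · exact hCi r hr hrq hrC
  have hHn : H.Normal := exists_normal_complement_of_forall_commute Q H hH
    fun y hy h hh => (hHC hh y hy)
  refine ⟨hQn, ⟨H, hHn, hH⟩, fun x hx => ?_⟩
  by_cases hxy : ∃ y ∈ (Q : Subgroup G), ¬ Commute x y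
  · exact hind x hx hxy
  · push Not at hxy
    refine ⟨0, ?_⟩
    rw [pow_zero, index_eq_one, eq_top_iff, ← hH.sup_eq_top]
    refine sup_le (fun h hh => ?_) fun y hy => ?_
    · exact mem_centralizer_singleton_iff.mpr (hHC hh x hx).symm
    · exact mem_centralizer_singleton_iff.mpr (hxy y hy).eq.symm

theorem exists_prime_of_comm (hQ : ∀ x ∈ (Q : Subgroup G), ∀ y ∈ (Q : Subgroup G), Commute x y)
    {x0 : G} (hx0 : x0 ∈ (Q : Subgroup G)) (hx0c : x0 ∉ center G) :
    ∃ r : ℕ, r.Prime ∧ r ≠ q ∧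
      ∀ x ∈ (Q : Subgroup G), ∃ a : ℕ, (centralizer ({x} : Set G)).index = r ^ a := by
  have hne : ∀ x ∈ (Q : Subgroup G), x ∉ center G →
      ∃ r a : ℕ, r.Prime ∧ r ≠ q ∧ a ≠ 0 ∧ (centralizer ({x} : Set G)).index = r ^ a := by
    intro x hx hxc
    obtain ⟨r, a, hr, ha⟩ := hB x (exists_pow_eq_one hx)
    refine ⟨r, a, hr, fun h => hxc ?_, fun h => hxc ?_, ha⟩
    · subst h
      exact mem_center_of_index_eq hB Q ha fun y hy => hQ x hx y hy
    · rw [h, pow_zero, index_eq_one] at ha
      exact mem_center_iff.mpr fun g => mem_centralizer_singleton_iff.mp (ha ▸ mem_top g)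
  obtain ⟨r, a, hr, hrq, ha0, ha⟩ := hne x0 hx0 hx0c
  refine ⟨r, hr, hrq, fun y hy => ?_⟩
  by_cases hyc : y ∈ center G
  · refine ⟨0, ?_⟩
    rw [pow_zero, index_eq_one, eq_top_iff]
    exact fun g _ => mem_centralizer_singleton_iff.mpr (mem_center_iff.mp hyc g)
  obtain ⟨s, b, hs, hsq, hb0, hb⟩ := hne y hy hyc
  by_cases hrs : r = s
  · exact ⟨b, hrs ▸ hb⟩
  exfalso
  have hxy : Commute x0 y := hQ x0 hx0 y hy
  obtain ⟨t, c, ht, hc⟩ := hB (x0 * y) (exists_pow_eq_one (mul_mem hx0 hy))
  have hord : ∀ {p : ℕ}, p.Prime → p ≠ q → ∀ {z : G}, z ∈ (Q : Subgroup G) → ¬ p ∣ orderOf z := by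
    intro p hp hpq z hz hd
    obtain ⟨k, hk⟩ := exists_pow_eq_one hz
    exact hpq ((Nat.prime_dvd_prime_iff_eq hp hq.out).mp (hp.dvd_of_dvd_pow (hk ▸ hd)))
  by_cases htr : t = r
  · subst htr
    exact hyc (central_of_coprime_class hxy hr hs hrs ha hb hc (hord hr hrq hy))
  · have hts : t = s := by
      set A := centralizer ({x0} : Set G)
      set B := centralizer ({y} : Set G)
      set C := centralizer ({x0 * y} : Set G)
      have hAC : A ⊓ C = A ⊓ B := by
        ext g
        simp only [A, B, C, mem_inf, mem_centralizer_singleton_iff]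
        constructor
        · rintro ⟨h1, h2⟩
          refine ⟨h1, mul_left_cancel (a := x0) ?_⟩
          rw [← mul_assoc, ← h1, mul_assoc, h2, mul_assoc]
        · rintro ⟨h1, h2⟩
          exact ⟨h1, by rw [← mul_assoc, h1, mul_assoc, h2, ← mul_assoc]⟩
      have h1 := index_inf_of_coprime (H := A) (K := C)
        (by rw [ha, hc]; exact Nat.Coprime.pow a c ((Nat.coprime_primes hr ht).mpr (Ne.symm htr)))
      rw [hAC, index_inf_of_coprime
        (by rw [ha, hb]; exact Nat.Coprime.pow a b ((Nat.coprime_primes hr hs).mpr hrs)),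
        ha, hb, hc] at h1
      have h2 := Nat.eq_of_mul_eq_mul_left (Nat.pow_pos hr.pos) h1
      exact ((Nat.prime_dvd_prime_iff_eq hs ht).mp
        (hs.dvd_of_dvd_pow (h2 ▸ dvd_pow_self s hb0))).symm
    subst hts
    exact hx0c (central_of_coprime_class hxy.symm hs hr (Ne.symm hrs) hb ha
      (by rw [← hxy.eq]; exact hc) (hord hs hsq hx0))

theorem sup_pCore_normal {r : ℕ} [Fact r.Prime]
    (hr : ∀ x ∈ (Q : Subgroup G), ∃ a : ℕ, (centralizer ({x} : Set G)).index = r ^ a) :
    (Cfsg.pCore r G ⊔ (Q : Subgroup G)).Normal := by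
  set π := QuotientGroup.mk' (Cfsg.pCore r G) with hπ
  have h : (Q : Subgroup G).map π = Cfsg.pCore q (G ⧸ Cfsg.pCore r G) := by
    refine le_antisymm ?_
      (Thompson.pCore_le_sylow (Q.mapSurjective (QuotientGroup.mk'_surjective _)))
    rintro _ ⟨x, hx, rfl⟩
    obtain ⟨a, ha⟩ := hr x hx
    obtain ⟨k, hk⟩ := exists_pow_eq_one hx
    exact map_mem_pCore π (QuotientGroup.mk'_surjective _) (hk ▸ pow_orderOf_eq_one x) ha
      (QuotientGroup.ker_mk' _).ge
  have h2 : ((Q : Subgroup G).map π).comap π = Cfsg.pCore r G ⊔ (Q : Subgroup G) := by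
    rw [comap_map_eq, hπ, QuotientGroup.ker_mk', sup_comm]
  rw [← h2, h]
  infer_instance

omit hB in
theorem isSolvable_of_abelian_qCore {X : Type u} [Group X] [Finite X] (P : Sylow q X)
    [(P : Subgroup X).Normal]
    (hPc : ∀ x ∈ (P : Subgroup X), ∀ y ∈ (P : Subgroup X), Commute x y)
    (hO : Cfsg.pPrimeCore q X = ⊥) {r : ℕ} [hr : Fact r.Prime] (hrq : r ≠ q)
    (hpow : ∀ x ∈ (P : Subgroup X), ∃ a : ℕ, (centralizer ({x} : Set X)).index ∣ r ^ a) :
    Group.IsSolvable X := by
  set C := centralizer ((P : Subgroup X) : Set X) with hC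
  have hPC : (P : Subgroup X) ≤ C := fun x hx y hy => (hPc y hy x hx).eq
  set PC := P.subtype hPC with hPCdef
  have : (PC : Subgroup C).Normal := by
    rw [hPCdef, Sylow.coe_subtype]
    exact Subgroup.Normal.subgroupOf inferInstance C
  obtain ⟨M, hM⟩ := exists_left_complement'_of_coprime (N := (PC : Subgroup C)) PC.card_coprime_index
  have hMn : M.Normal := exists_normal_complement_of_forall_commute PC M hM
    fun y hy h _ => Subtype.ext (h.2 y (by
      rw [hPCdef, Sylow.coe_subtype] at hy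
      exact hy))
  have hMbot : M = ⊥ := by
    have h1 : M.map C.subtype ≤ Cfsg.pPrimeCore q X := by
      refine le_trans (map_mono (Thompson.le_pPrimeCore hMn ?_))
        (Thompson.map_pPrimeCore_normal_le C)
      rw [← hM.index_eq_card]
      exact (hq.out.coprime_iff_not_dvd.mpr PC.not_dvd_index).symm
    rw [hO, le_bot_iff] at h1
    exact (map_eq_bot_iff_of_injective _ C.subtype_injective).mp h1
  have hCP : C ≤ (P : Subgroup X) := by
    intro x hx
    have h1 : (⟨x, hx⟩ : C) ∈ (PC : Subgroup C) := by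
      have := hM.sup_eq_top
      rw [hMbot, bot_sup_eq] at this
      exact this ▸ mem_top _
    rw [hPCdef, Sylow.coe_subtype] at h1
    exact h1
  obtain ⟨H, hH⟩ := exists_left_complement'_of_coprime (N := (P : Subgroup X)) P.card_coprime_index
  have hcop : (Nat.card H).Coprime (Nat.card (P : Subgroup X)) :=
    hH.index_eq_card ▸ P.card_coprime_index.symm
  let _ : CommGroup (P : Subgroup X) :=
    { (P : Subgroup X).toGroup with mul_comm := fun a b => Subtype.ext (hPc a a.2 b b.2).eq }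
  let act : H →* AddMonoid.End (Additive (P : Subgroup X)) :=
    { toFun := fun h => MonoidHom.toAdditive
        (MulAut.conjNormal (h : X) : MulAut (P : Subgroup X)).toMonoidHom
      map_one' := by
        refine AddMonoidHom.ext fun v => ?_
        apply Additive.toMul.injective
        apply Subtype.ext
        show ((1 : H) : X) * (Additive.toMul v : (P : Subgroup X)) * ((1 : H) : X)⁻¹ =
          ((Additive.toMul v : (P : Subgroup X)) : X)
        simp
      map_mul' := fun g h => by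
        refine AddMonoidHom.ext fun v => ?_
        apply Additive.toMul.injective
        apply Subtype.ext
        show ((g * h : H) : X) * (Additive.toMul v : (P : Subgroup X)) * ((g * h : H) : X)⁻¹ =
          (g : X) * ((h : X) * (Additive.toMul v : (P : Subgroup X)) * (h : X)⁻¹) * (g : X)⁻¹
        simp [mul_assoc] }
  let _ : DistribMulAction H (Additive (P : Subgroup X)) :=
    DistribMulAction.compHom _ act
  have hfix : ∀ (h : H) (v : (P : Subgroup X)), h • Additive.ofMul v = Additive.ofMul v ↔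
      (h : X) * v = v * h := by
    intro h v
    constructor
    · intro e
      have e1 : (h : X) * v * (h : X)⁻¹ = v := congrArg (fun t => ((Additive.toMul t :
        (P : Subgroup X)) : X)) e
      exact mul_inv_eq_iff_eq_mul.mp e1
    · intro e
      apply Additive.toMul.injective
      apply Subtype.ext
      exact mul_inv_eq_iff_eq_mul.mpr e
  have : FaithfulSMul H (Additive (P : Subgroup X)) := by
    refine ⟨fun {g h} e => ?_⟩
    have h1 : ((h⁻¹ * g : H) : X) ∈ C := fun y hy => by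
      refine ((hfix (h⁻¹ * g) ⟨y, hy⟩).mp ?_).symm
      rw [mul_smul, e, ← mul_smul, inv_mul_cancel, one_smul]
    have h2 := hH.disjoint.le_bot ⟨(h⁻¹ * g).2, hCP h1⟩
    rw [mem_bot, OneMemClass.coe_eq_one, inv_mul_eq_one] at h2
    exact h2.symm
  have hH' : Group.IsSolvable H := by
    refine isSolvable_of_powOrbits (r := r) (V := Additive (P : Subgroup X)) hcop
      (PowOrbits.of_dvd fun v => ?_)
    obtain ⟨a, ha⟩ := hpow _ (Additive.toMul v : (P : Subgroup X)).2
    refine ⟨a, dvd_trans (dvd_of_eq ?_) ha⟩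
    obtain ⟨n, hn⟩ := IsPGroup.iff_card.mp P.2
    obtain ⟨b, -, hb⟩ := (Nat.dvd_prime_pow hr.out).mp ha
    refine Eq.trans ?_ (relIndex_of_coprime (K := H)
      (H := centralizer ({((Additive.toMul v : (P : Subgroup X)) : X)} : Set X)) ?_)
    · refine congrArg Subgroup.index ?_
      ext h
      rw [MulAction.mem_stabilizer_iff, mem_subgroupOf, mem_centralizer_singleton_iff]
      exact hfix h (Additive.toMul v)
    · rw [hb, hH.symm.index_eq_card, hn]
      exact Nat.Coprime.pow b n ((Nat.coprime_primes hr.out hq.out).mpr hrq)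
  have : Group.IsSolvable (P : Subgroup X) := inferInstance
  have hsurj : Function.Surjective ((QuotientGroup.mk' (P : Subgroup X)).comp H.subtype) := by
    intro z
    obtain ⟨x, rfl⟩ := QuotientGroup.mk'_surjective _ z
    obtain ⟨h, hh, p, hp, rfl⟩ := mem_sup_of_normal_right.mp (hH.sup_eq_top ▸ mem_top x)
    exact ⟨⟨h, hh⟩, (QuotientGroup.mk_mul_of_mem h hp).symm⟩
  have : Group.IsSolvable (X ⧸ (P : Subgroup X)) := Group.isSolvable_of_surjective hsurj
  exact Group.isSolvable_of_ker_le_range (P : Subgroup X).subtype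
    (QuotientGroup.mk' (P : Subgroup X))
    (by rw [QuotientGroup.ker_mk', range_subtype])

/-- Baer's theorem on `q`-elements with classes of prime power size. -/
theorem baer_structure : (∃ K L : Subgroup G, K.Normal ∧ L.Normal ∧ K ≤ L ∧
      (Nat.card K).Coprime q ∧ (∃ m : ℕ, K.relIndex L = q ^ m) ∧ L.index.Coprime q) ∧
    ∃ p : ℕ, p.Prime ∧ (∀ x : G, (∃ k : ℕ, orderOf x = q ^ k) →
        ∃ a : ℕ, (centralizer ({x} : Set G)).index = p ^ a) ∧
      (p = q → (Q : Subgroup G).Normal ∧
        ∃ N : Subgroup G, N.Normal ∧ N.IsComplement' (Q : Subgroup G)) ∧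
      (p ≠ q → IsMulCommutative (Q : Subgroup G) ∧ (Cfsg.pCore p G ⊔ (Q : Subgroup G)).Normal ∧
        ∀ _h : (Cfsg.pPrimeCore q G).Normal, Group.IsSolvable (G ⧸ Cfsg.pPrimeCore q G)) := by
  refine ⟨exists_qLength_one hB, ?_⟩
  by_cases hQ : ∀ x ∈ (Q : Subgroup G), ∀ y ∈ (Q : Subgroup G), Commute x y
  · by_cases hcen : ∀ x ∈ (Q : Subgroup G), x ∈ center G
    · refine ⟨q, hq.out, index_of_forall_sylow hB Q fun x hx => ⟨0, ?_⟩, fun _ => ?_,
        fun h => absurd rfl h⟩
      · rw [pow_zero, index_eq_one, eq_top_iff]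
        exact fun g _ => mem_centralizer_singleton_iff.mpr (mem_center_iff.mp (hcen x hx) g)
      · have hn : (Q : Subgroup G).Normal := ⟨fun x hx g => by
          rw [mem_center_iff.mp (hcen x hx) g, mul_inv_cancel_right]; exact hx⟩
        obtain ⟨H, hH⟩ :=
          exists_left_complement'_of_coprime (N := (Q : Subgroup G)) Q.card_coprime_index
        exact ⟨hn, H, exists_normal_complement_of_forall_commute Q H hH
          (fun y hy h _ => (mem_center_iff.mp (hcen y hy) h).symm), hH⟩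
    · push Not at hcen
      obtain ⟨x0, hx0, hx0c⟩ := hcen
      obtain ⟨r, hr, hrq, hall⟩ := exists_prime_of_comm hB Q hQ hx0 hx0c
      have := Fact.mk hr
      refine ⟨r, hr, index_of_forall_sylow hB Q hall, fun h => absurd h hrq,
        fun _ => ⟨⟨⟨fun a b => Subtype.ext (hQ a a.2 b b.2).eq⟩⟩,
          sup_pCore_normal hB Q hall, fun _ => ?_⟩⟩
      set π := QuotientGroup.mk' (Cfsg.pPrimeCore q G) with hπ
      let P := Q.mapSurjective (QuotientGroup.mk'_surjective (Cfsg.pPrimeCore q G))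
      have hP : (P : Subgroup (G ⧸ Cfsg.pPrimeCore q G)) = (Q : Subgroup G).map π := rfl
      have : (P : Subgroup (G ⧸ Cfsg.pPrimeCore q G)).Normal := by
        rw [hP, hπ, map_sylow_eq_pCore hB Q]
        infer_instance
      refine isSolvable_of_abelian_qCore P ?_ Thompson.pPrimeCore_quotient_pPrimeCore hrq ?_
      · intro x hx y hy
        rw [hP] at hx hy
        obtain ⟨x', hx', rfl⟩ := hx
        obtain ⟨y', hy', rfl⟩ := hy
        exact (hQ x' hx' y' hy').map π
      · intro x hx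
        rw [hP] at hx
        obtain ⟨x', hx', rfl⟩ := hx
        obtain ⟨a, ha⟩ := hall x' hx'
        exact ⟨a, ha ▸ Kazarin19.index_centralizer_map_dvd π (QuotientGroup.mk'_surjective _) x'⟩
  · push Not at hQ
    obtain ⟨x0, hx0, y0, hy0, hne⟩ := hQ
    obtain ⟨h1, h2, h3⟩ := structure_nonabelian hB Q hx0 hy0 hne
    exact ⟨q, hq.out, index_of_forall_sylow hB Q h3, fun _ => ⟨h1, h2⟩, fun h => absurd rfl h⟩

end Cfsg.Agent.Baer19
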